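import Cfsg.Agent.SU3G.H5_MOD
import Cfsg.Agent.SU3G.H9_Fam
import Cfsg.Agent.SU3G.H1_GEN3

set_option autoImplicit false

/-!
# S2289 (SU_3 presentation), matrix side (helper5): explicit elements of `SUJ F q`

Model: `SU3G.SUJ F q` (antidiagonal Hermitian form), `U q a b = !![1,a,b; 0,1,-(a^q); 0,0,1]`.
`u3_h q z = diag(z, z^q/z, 1/z^q)`, `u3_t = antidiag(1,-1,1)`.
-/

namespace Cfsg.Agent.SU3Pres

open Matrix Cfsg Cfsg.Agent.SU3G

section mat

variable {F : Type*} [Field F] [Fintype F] {q : ℕ}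

/-- the torus element `diag(z, z^q/z, 1/z^q)` -/
def u3_h (q : ℕ) (z : Fˣ) : SpecialLinearGroup (Fin 3) F :=
  ⟨!![(z : F), 0, 0; 0, (z : F) ^ q * (z : F)⁻¹, 0; 0, 0, ((z : F) ^ q)⁻¹], by
    have hz : (z : F) ≠ 0 := z.ne_zero
    have hzq : (z : F) ^ q ≠ 0 := pow_ne_zero _ hz
    simp [det_fin_three]
    field_simp⟩

/-- the Weyl element `antidiag(1,-1,1)` -/
def u3_t : SpecialLinearGroup (Fin 3) F :=
  ⟨!![0, 0, 1; 0, -1, 0; 1, 0, 0], by simp [det_fin_three]⟩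

theorem u3_h_coe (z : Fˣ) :
    ((u3_h q z : SpecialLinearGroup (Fin 3) F) : Matrix (Fin 3) (Fin 3) F) =
      !![(z : F), 0, 0; 0, (z : F) ^ q * (z : F)⁻¹, 0; 0, 0, ((z : F) ^ q)⁻¹] := rfl

theorem u3_t_coe :
    ((u3_t : SpecialLinearGroup (Fin 3) F) : Matrix (Fin 3) (Fin 3) F) =
      !![0, 0, 1; 0, -1, 0; 1, 0, 0] := rfl

theorem u3_t_sq : (u3_t : SpecialLinearGroup (Fin 3) F) * u3_t = 1 := by
  apply Subtype.ext
  rw [Matrix.SpecialLinearGroup.coe_mul, u3_t_coe, Matrix.SpecialLinearGroup.coe_one]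
  ext i j
  fin_cases i <;> fin_cases j <;>
    simp [Matrix.mul_apply, Fin.sum_univ_three, Matrix.vecMul, dotProduct]

theorem u3_t_inv : (u3_t : SpecialLinearGroup (Fin 3) F)⁻¹ = u3_t :=
  inv_eq_of_mul_eq_one_right u3_t_sq

theorem u3_h_one : u3_h q (1 : Fˣ) = (1 : SpecialLinearGroup (Fin 3) F) := by
  apply Subtype.ext
  rw [u3_h_coe, Matrix.SpecialLinearGroup.coe_one]
  ext i j
  fin_cases i <;> fin_cases j <;> simp

theorem u3_h_mul (z w : Fˣ) :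
    u3_h q (z * w) = (u3_h q z * u3_h q w : SpecialLinearGroup (Fin 3) F) := by
  apply Subtype.ext
  rw [Matrix.SpecialLinearGroup.coe_mul, u3_h_coe, u3_h_coe, u3_h_coe]
  ext i j
  fin_cases i <;> fin_cases j <;>
    simp [Matrix.mul_apply, Fin.sum_univ_three, Matrix.vecMul, dotProduct, mul_pow]
  · ring
  · ring

/-- `z ↦ u3_h q z` as a homomorphism -/
def u3_hHom (q : ℕ) : Fˣ →* SpecialLinearGroup (Fin 3) F where
  toFun := u3_h q
  map_one' := u3_h_one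
  map_mul' := u3_h_mul

theorem u3_hHom_apply (z : Fˣ) : u3_hHom (F := F) q z = u3_h q z := rfl

theorem u3_h_pow (z : Fˣ) (n : ℕ) :
    u3_h q (z ^ n) = (u3_h q z : SpecialLinearGroup (Fin 3) F) ^ n := map_pow (u3_hHom q) z n

theorem u3_h_inv (z : Fˣ) :
    u3_h q z⁻¹ = (u3_h q z : SpecialLinearGroup (Fin 3) F)⁻¹ := map_inv (u3_hHom q) z

theorem u3_h_zpow (z : Fˣ) (n : ℤ) :
    u3_h q (z ^ n) = (u3_h q z : SpecialLinearGroup (Fin 3) F) ^ n := map_zpow (u3_hHom q) z n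

end mat

end Cfsg.Agent.SU3Pres
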