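import Mathlib
import Cfsg.Prelude.Def_Classical
import Cfsg.Agent.Helper8.SUCenter
import Cfsg.Agent.SU3Pres.H5_MatU

set_option autoImplicit false

/-!
# S2289, the `PSU₃` side (helper2)

* `psu_insert_equiv`: adding to a presentation of `S` a relator whose image normally generates `N`
  presents `S ⧸ N`.
* `psu_center_eq`: the centre of `SU₃(q)` is the normal closure of the scalar matrix
  `ζ ^ ((q² - 1) / gcd(3, q + 1))`, `ζ` a generator of `Fˣ`.
* `psu_h_pow_scalar`: the power `(q² - 1) / gcd(3, q + 1)` of the torus element `u3_h q ζ` is that scalar.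
* `psu_pres`, `psu_pres_finset`: from a presentation of `SU₃(q)` to one of `PSU₃(q)` with one more relator.
-/

namespace Cfsg.Agent.SU3Pres

open Matrix Cfsg

/-! ### One more relator -/

section insert

variable {α : Type*} {S : Type*} [Group S]

/-- Adding to a presentation of `S` a relator whose image normally generates the normal subgroup `N`
gives a presentation of `S ⧸ N`. -/
theorem psu_insert_equiv (rels : Set (FreeGroup α)) (r : FreeGroup α)
    (e : PresentedGroup rels ≃* S) (N : Subgroup S) [hNn : N.Normal]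
    (hN : Subgroup.normalClosure {e (PresentedGroup.mk rels r)} = N) :
    Nonempty (PresentedGroup (insert r rels) ≃* S ⧸ N) := by
  -- the surjection from the free group
  let φ : FreeGroup α →* S ⧸ N :=
    (QuotientGroup.mk' N).comp (e.toMonoidHom.comp (PresentedGroup.mk rels))
  have hφ : ∀ w, φ w = QuotientGroup.mk' N (e (PresentedGroup.mk rels w)) := fun w => rfl
  have hsurj : Function.Surjective φ := by
    intro y
    obtain ⟨s, rfl⟩ := QuotientGroup.mk'_surjective N y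
    obtain ⟨t, rfl⟩ := e.surjective s
    obtain ⟨w, rfl⟩ := PresentedGroup.mk_surjective rels t
    exact ⟨w, rfl⟩
  have hrN : e (PresentedGroup.mk rels r) ∈ N := by
    rw [← hN]
    exact Subgroup.subset_normalClosure (Set.mem_singleton _)
  -- the kernel
  have hker : φ.ker = Subgroup.normalClosure (insert r rels) := by
    apply le_antisymm
    · -- `ker φ ≤ K`
      set K := Subgroup.normalClosure (insert r rels) with hK
      have hle : Subgroup.normalClosure rels ≤ K.comap (MonoidHom.id (FreeGroup α)) := by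
        rw [Subgroup.comap_id]
        exact Subgroup.normalClosure_mono (Set.subset_insert r rels)
      let ψ : PresentedGroup rels →* FreeGroup α ⧸ K :=
        QuotientGroup.map (Subgroup.normalClosure rels) K (MonoidHom.id (FreeGroup α)) hle
      have hψ : ∀ w, ψ (PresentedGroup.mk rels w) = QuotientGroup.mk' K w := fun w => rfl
      have hψr : PresentedGroup.mk rels r ∈ ψ.ker := by
        rw [MonoidHom.mem_ker, hψ, QuotientGroup.mk'_apply, QuotientGroup.eq_one_iff]
        exact Subgroup.subset_normalClosure (Set.mem_insert r rels)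
      -- `N ≤` the preimage of `ker ψ`
      have hNle : N ≤ (ψ.ker).comap e.symm.toMonoidHom := by
        rw [← hN]
        apply Subgroup.normalClosure_le_normal
        intro x hx
        rw [Set.mem_singleton_iff] at hx
        rw [hx, SetLike.mem_coe, Subgroup.mem_comap]
        change e.symm (e (PresentedGroup.mk rels r)) ∈ ψ.ker
        rw [MulEquiv.symm_apply_apply]
        exact hψr
      intro w hw
      rw [MonoidHom.mem_ker, hφ, QuotientGroup.mk'_apply, QuotientGroup.eq_one_iff] at hw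
      have h1 := hNle hw
      rw [Subgroup.mem_comap] at h1
      change e.symm (e (PresentedGroup.mk rels w)) ∈ ψ.ker at h1
      rw [MulEquiv.symm_apply_apply, MonoidHom.mem_ker, hψ, QuotientGroup.mk'_apply,
        QuotientGroup.eq_one_iff] at h1
      exact h1
    · apply Subgroup.normalClosure_le_normal
      intro s hs
      rw [SetLike.mem_coe, MonoidHom.mem_ker, hφ, QuotientGroup.mk'_apply, QuotientGroup.eq_one_iff]
      rcases hs with rfl | hs
      · exact hrN
      · have : PresentedGroup.mk rels s = 1 := PresentedGroup.one_of_mem hs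
        rw [this, map_one]
        exact one_mem N
  exact ⟨(QuotientGroup.quotientMulEquivOfEq hker.symm).trans
    (QuotientGroup.quotientKerEquivOfSurjective φ hsurj)⟩

end insert

/-! ### The centre of `SU₃(q)` -/

section center

variable {F : Type*} [Field F] [Fintype F] {q : ℕ}

/-- the exponent `(q² - 1) / gcd(3, q + 1)` -/
def psu_m (q : ℕ) : ℕ := (q ^ 2 - 1) / Nat.gcd 3 (q + 1)

theorem psu_m_mul (q : ℕ) : psu_m q * Nat.gcd 3 (q + 1) = q ^ 2 - 1 := by
  unfold psu_m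
  apply Nat.div_mul_cancel
  have h1 : Nat.gcd 3 (q + 1) ∣ q + 1 := Nat.gcd_dvd_right _ _
  have h2 : q ^ 2 - 1 = (q - 1) * (q + 1) := by
    rcases Nat.eq_zero_or_pos q with rfl | hq
    · rfl
    · obtain ⟨k, rfl⟩ : ∃ k, q = k + 1 := ⟨q - 1, by omega⟩
      have : (k + 1) ^ 2 - 1 = k * (k + 1 + 1) := by
        apply Nat.sub_eq_of_eq_add; ring
      rw [this]; rfl
  rw [h2]
  exact Dvd.dvd.mul_left h1 _

theorem psu_order_zeta (hF : Fintype.card F = q ^ 2) (ζ : Fˣ)
    (hζ : ∀ a : Fˣ, a ∈ Subgroup.zpowers ζ) : orderOf ζ = q ^ 2 - 1 := by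
  rw [orderOf_eq_card_of_forall_mem_zpowers hζ, Nat.card_units, Nat.card_eq_fintype_card, hF]

/-- the scalar `ω = ζ ^ m` has `ω ^ gcd(3, q+1) = 1` -/
theorem psu_omega_pow (hF : Fintype.card F = q ^ 2) (ζ : Fˣ) :
    (ζ ^ psu_m q) ^ Nat.gcd 3 (q + 1) = 1 := by
  rw [← pow_mul, psu_m_mul, ← hF, ← Nat.card_eq_fintype_card, ← Nat.card_units]
  exact pow_card_eq_one'

theorem psu_omega_pow_three (hF : Fintype.card F = q ^ 2) (ζ : Fˣ) : (ζ ^ psu_m q) ^ 3 = 1 := by
  obtain ⟨k, hk⟩ := Nat.gcd_dvd_left 3 (q + 1)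
  conv_lhs => rw [hk]
  rw [pow_mul, psu_omega_pow hF, one_pow]

theorem psu_omega_pow_q (hF : Fintype.card F = q ^ 2) (ζ : Fˣ) : (ζ ^ psu_m q) ^ (q + 1) = 1 := by
  obtain ⟨k, hk⟩ := Nat.gcd_dvd_right 3 (q + 1)
  conv_lhs => rw [hk]
  rw [pow_mul, psu_omega_pow hF, one_pow]

/-- A unit killed by `gcd(3, q+1)` is a power of `ω = ζ ^ m`. -/
theorem psu_mem_powers (hF : Fintype.card F = q ^ 2) (ζ : Fˣ)
    (hζ : ∀ a : Fˣ, a ∈ Subgroup.zpowers ζ) (ξ : Fˣ) (hξ : ξ ^ Nat.gcd 3 (q + 1) = 1) :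
    ∃ j : ℕ, ξ = (ζ ^ psu_m q) ^ j := by
  have hd : 0 < Nat.gcd 3 (q + 1) := Nat.gcd_pos_of_pos_left _ (by norm_num)
  obtain ⟨k, hk⟩ := Subgroup.mem_zpowers_iff.mp (hζ ξ)
  have h1 : ζ ^ (k * (Nat.gcd 3 (q + 1) : ℤ)) = 1 := by
    rw [_root_.zpow_mul, hk, zpow_natCast, hξ]
  have h2 : ((orderOf ζ : ℕ) : ℤ) ∣ k * (Nat.gcd 3 (q + 1) : ℤ) :=
    orderOf_dvd_iff_zpow_eq_one.mpr h1
  rw [psu_order_zeta hF ζ hζ, ← psu_m_mul q, Nat.cast_mul] at h2
  have h3 : ((psu_m q : ℕ) : ℤ) ∣ k :=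
    Int.dvd_of_mul_dvd_mul_right (by exact_mod_cast hd.ne') h2
  obtain ⟨j, hj⟩ := h3
  have h4 : ξ ∈ Subgroup.zpowers (ζ ^ psu_m q) := by
    rw [Subgroup.mem_zpowers_iff]
    refine ⟨j, ?_⟩
    rw [← hk, hj, _root_.zpow_mul, zpow_natCast]
  have h5 := (mem_powers_iff_mem_zpowers (x := ζ ^ psu_m q) (y := ξ)).mpr h4
  obtain ⟨n, hn⟩ := (Submonoid.mem_powers_iff _ _).mp h5
  exact ⟨n, hn.symm⟩

/-- **The centre of `SU₃(q)`** is the normal closure of any element whose matrix is the scalar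
`ζ ^ ((q² - 1) / gcd(3, q + 1))`. -/
theorem psu_center_eq (hF : Fintype.card F = q ^ 2) (ζ : Fˣ)
    (hζ : ∀ a : Fˣ, a ∈ Subgroup.zpowers ζ) (z : ↥(Cfsg.SU 3 F q))
    (hz : ((z.1 : SpecialLinearGroup (Fin 3) F) : Matrix (Fin 3) (Fin 3) F) =
      ((ζ : F) ^ psu_m q) • (1 : Matrix (Fin 3) (Fin 3) F)) :
    Subgroup.normalClosure {z} = Subgroup.center ↥(Cfsg.SU 3 F q) := by
  have hzc : z ∈ Subgroup.center ↥(Cfsg.SU 3 F q) := by
    rw [Subgroup.mem_center_iff]
    intro g
    apply Subtype.ext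
    apply Subtype.ext
    change (g.1 : Matrix (Fin 3) (Fin 3) F) * (z.1 : Matrix (Fin 3) (Fin 3) F) =
      (z.1 : Matrix (Fin 3) (Fin 3) F) * (g.1 : Matrix (Fin 3) (Fin 3) F)
    rw [hz, Matrix.mul_smul, Matrix.smul_mul, Matrix.mul_one, Matrix.one_mul]
  apply le_antisymm
  · apply Subgroup.normalClosure_le_normal
    intro x hx
    rw [Set.mem_singleton_iff] at hx
    rw [hx]
    exact hzc
  · intro c hc
    obtain ⟨ξ, hξ1, hξ3, rfl⟩ :=
      Cfsg.Agent.Helper8.SUCenter.center_eq_scal hF (by norm_num : 1 ≤ 3) c hc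
    have hξ0 : ξ ≠ 0 := by
      rintro rfl
      rw [zero_pow (by norm_num)] at hξ3
      exact zero_ne_one hξ3
    set ξu : Fˣ := Units.mk0 ξ hξ0 with hξu
    have e3 : ξu ^ 3 = 1 := by
      apply Units.ext
      rw [Units.val_pow_eq_pow_val, Units.val_one]
      exact hξ3
    have eq1 : ξu ^ (q + 1) = 1 := by
      apply Units.ext
      rw [Units.val_pow_eq_pow_val, Units.val_one, pow_succ']
      exact hξ1
    have ed : ξu ^ Nat.gcd 3 (q + 1) = 1 := pow_gcd_eq_one.mpr ⟨e3, eq1⟩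
    obtain ⟨j, hj⟩ := psu_mem_powers hF ζ hζ ξu ed
    have hcz : Cfsg.Agent.Helper8.SUCenter.scal hF ξ hξ1 hξ3 = z ^ j := by
      apply Subtype.ext
      apply Subtype.ext
      rw [SubgroupClass.coe_pow, Matrix.SpecialLinearGroup.coe_pow, hz, smul_pow, one_pow]
      change ξ • (1 : Matrix (Fin 3) (Fin 3) F) = _
      congr 1
      have := congrArg (fun u : Fˣ => (u : F)) hj
      simp only [Units.val_pow_eq_pow_val] at this
      rw [← this, hξu, Units.val_mk0]
    rw [hcz]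
    exact Subgroup.pow_mem _ (Subgroup.subset_normalClosure (Set.mem_singleton z)) j

/-- the power `(q² - 1) / gcd(3, q + 1)` of the torus element is scalar -/
theorem psu_h_pow_scalar (hF : Fintype.card F = q ^ 2) (ζ : Fˣ) :
    (((u3_h q ζ : SpecialLinearGroup (Fin 3) F) ^ psu_m q : SpecialLinearGroup (Fin 3) F) :
      Matrix (Fin 3) (Fin 3) F) = ((ζ : F) ^ psu_m q) • (1 : Matrix (Fin 3) (Fin 3) F) := by
  rw [← u3_h_pow, u3_h_coe, Units.val_pow_eq_pow_val]
  set ω : F := (ζ : F) ^ psu_m q with hω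
  have h3 : ω ^ 3 = 1 := by
    have := congrArg (fun u : Fˣ => (u : F)) (psu_omega_pow_three hF ζ)
    simpa [Units.val_pow_eq_pow_val] using this
  have hq1 : ω ^ (q + 1) = 1 := by
    have := congrArg (fun u : Fˣ => (u : F)) (psu_omega_pow_q hF ζ)
    simpa [Units.val_pow_eq_pow_val] using this
  have hω0 : ω ≠ 0 := pow_ne_zero _ ζ.ne_zero
  -- `ω ^ q = ω⁻¹ = ω ^ 2`
  have hq : ω ^ q = ω⁻¹ := by
    apply eq_inv_of_mul_eq_one_left
    rw [← pow_succ]
    exact hq1
  have hinv : ω⁻¹ = ω ^ 2 := by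
    symm
    apply eq_inv_of_mul_eq_one_left
    rw [← h3]; ring
  ext i j
  fin_cases i <;> fin_cases j <;> simp [hq]
  · -- middle entry: `ω⁻¹ * ω⁻¹ = ω`
    rw [hinv, ← pow_add]
    have : ω ^ (2 + 2) = ω ^ 3 * ω := by ring
    rw [this, h3, one_mul]

/-- conjugates: if the matrix of `x` is `P * u3_h q ζ * P'` with `P * P' = 1`, then the power
`(q² - 1) / gcd(3, q + 1)` of `x` is the scalar. -/
theorem psu_conj_pow_scalar (hF : Fintype.card F = q ^ 2) (ζ : Fˣ)
    (P P' : Matrix (Fin 3) (Fin 3) F) (hPP' : P * P' = 1) (x : ↥(Cfsg.SU 3 F q))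
    (hx : ((x.1 : SpecialLinearGroup (Fin 3) F) : Matrix (Fin 3) (Fin 3) F) =
      P * ((u3_h q ζ : SpecialLinearGroup (Fin 3) F) : Matrix (Fin 3) (Fin 3) F) * P') :
    ((((x ^ psu_m q : ↥(Cfsg.SU 3 F q))).1 : SpecialLinearGroup (Fin 3) F) :
      Matrix (Fin 3) (Fin 3) F) = ((ζ : F) ^ psu_m q) • (1 : Matrix (Fin 3) (Fin 3) F) := by
  have hP'P : P' * P = 1 := (_root_.mul_eq_one_comm).mp hPP'
  have hpow : ∀ (A : Matrix (Fin 3) (Fin 3) F) (n : ℕ), (P * A * P') ^ n = P * A ^ n * P' := by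
    intro A n
    induction n with
    | zero => rw [pow_zero, pow_zero, Matrix.mul_one, hPP']
    | succ n ih =>
      rw [pow_succ, ih, pow_succ]
      calc P * A ^ n * P' * (P * A * P') = P * A ^ n * (P' * P) * A * P' := by
            simp only [Matrix.mul_assoc]
        _ = P * (A ^ n * A) * P' := by rw [hP'P, Matrix.mul_one]; simp only [Matrix.mul_assoc]
  rw [SubgroupClass.coe_pow, Matrix.SpecialLinearGroup.coe_pow, hx, hpow,
    ← Matrix.SpecialLinearGroup.coe_pow, psu_h_pow_scalar hF ζ, Matrix.mul_smul, Matrix.mul_one,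
    Matrix.smul_mul, hPP']

end center

/-! ### From `SU₃` to `PSU₃` -/

section main

variable {F : Type*} [Field F] [Fintype F] {q : ℕ} {α : Type*}

/-- **From a presentation of `SU₃(q)` to one of `PSU₃(q)`**: one more relator, whose image is the scalar
`ζ ^ ((q² - 1) / gcd(3, q + 1))`. -/
theorem psu_pres (hF : Fintype.card F = q ^ 2) (ζ : Fˣ) (hζ : ∀ a : Fˣ, a ∈ Subgroup.zpowers ζ)
    (rels : Set (FreeGroup α)) (e : PresentedGroup rels ≃* ↥(Cfsg.SU 3 F q)) (r : FreeGroup α)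
    (hr : (((e (PresentedGroup.mk rels r)).1 : SpecialLinearGroup (Fin 3) F) :
      Matrix (Fin 3) (Fin 3) F) = ((ζ : F) ^ psu_m q) • (1 : Matrix (Fin 3) (Fin 3) F)) :
    Nonempty (PresentedGroup (insert r rels) ≃* Cfsg.PSU 3 F q) :=
  psu_insert_equiv rels r e (Subgroup.center ↥(Cfsg.SU 3 F q)) (psu_center_eq hF ζ hζ _ hr)

/-- The same with finite sets of relators and the count. -/
theorem psu_pres_finset [DecidableEq (FreeGroup α)] (hF : Fintype.card F = q ^ 2) (ζ : Fˣ)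
    (hζ : ∀ a : Fˣ, a ∈ Subgroup.zpowers ζ) (rels : Finset (FreeGroup α)) (n : ℕ)
    (hn : rels.card ≤ n)
    (e : PresentedGroup (↑rels : Set (FreeGroup α)) ≃* ↥(Cfsg.SU 3 F q)) (r : FreeGroup α)
    (hr : (((e (PresentedGroup.mk (↑rels : Set (FreeGroup α)) r)).1 :
      SpecialLinearGroup (Fin 3) F) : Matrix (Fin 3) (Fin 3) F) =
        ((ζ : F) ^ psu_m q) • (1 : Matrix (Fin 3) (Fin 3) F)) :
    ∃ rels' : Finset (FreeGroup α), rels'.card ≤ n + 1 ∧
      Nonempty (PresentedGroup (↑rels' : Set (FreeGroup α)) ≃* Cfsg.PSU 3 F q) := by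
  refine ⟨insert r rels, (Finset.card_insert_le r rels).trans (by omega), ?_⟩
  rw [Finset.coe_insert]
  exact psu_pres hF ζ hζ _ e r hr

end main

end Cfsg.Agent.SU3Pres
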