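import Cfsg.Agent.SU3Pres.H5_MatU4
import Cfsg.Agent.Helper8.UnitaryLines

set_option autoImplicit false

/-!
# S2289 (SU_3 presentation), matrix side, layer 5 (helper5): `|UM| = q³`, `|BM| = q³(q²-1)`
-/

namespace Cfsg.Agent.SU3Pres

open Matrix Cfsg Cfsg.Agent.SU3G

section card

variable {F : Type*} [Field F] [Fintype F] {q : ℕ}

/-- the trace `b ↦ b + b^q` as an additive homomorphism -/
def u3_tr (hF : Fintype.card F = q ^ 2) : F →+ F where
  toFun b := b + b ^ q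
  map_zero' := by simp [zero_pow (u3_q_ne hF)]
  map_add' a b := by
    show a + b + (a + b) ^ q = a + a ^ q + (b + b ^ q)
    rw [Cfsg.Agent.Helper7.Herm.add_pow_q hF]; ring

theorem u3_tr_apply (hF : Fintype.card F = q ^ 2) (b : F) : u3_tr hF b = b + b ^ q := rfl

theorem u3_two_le (hF : Fintype.card F = q ^ 2) : 2 ≤ q := by
  have h1 : 1 < Fintype.card F := Fintype.one_lt_card
  rw [hF] at h1
  by_contra h
  have : q ≤ 1 := by omega
  have : q ^ 2 ≤ 1 := by
    calc q ^ 2 ≤ 1 ^ 2 := Nat.pow_le_pow_left this 2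
      _ = 1 := one_pow 2
  omega

theorem u3_mem_range_tr (hF : Fintype.card F = q ^ 2) (c : F) :
    c ∈ (u3_tr hF).range ↔ c ^ q = c := by
  constructor
  · rintro ⟨b, rfl⟩
    exact h1_su_trace_fixed q hF b
  · intro hc
    obtain ⟨b, hb⟩ := h1_su_trace_surj q hF (u3_two_le hF) c hc
    exact ⟨b, hb⟩

theorem u3_card_range_tr (hF : Fintype.card F = q ^ 2) : Nat.card (u3_tr hF).range = q := by
  have h := Cfsg.Agent.Helper8.UnitaryLines.card_fixed hF
  have h2 : Nat.card (u3_tr hF).range = Nat.card {c : F // c ^ q = c} :=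
    Nat.card_congr (Equiv.subtypeEquivRight fun c => u3_mem_range_tr hF c)
  rw [h2, h]

theorem u3_card_ker_tr (hF : Fintype.card F = q ^ 2) : Nat.card (u3_tr hF).ker = q := by
  have hq := u3_two_le hF
  have h1 := AddSubgroup.card_eq_card_quotient_mul_card_addSubgroup (u3_tr hF).ker
  have h2 : Nat.card (F ⧸ (u3_tr hF).ker) = q := by
    rw [Nat.card_congr (QuotientAddGroup.quotientKerEquivRange (u3_tr hF)).toEquiv,
      u3_card_range_tr hF]
  rw [h2, Nat.card_eq_fintype_card, hF, pow_two] at h1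
  exact (Nat.eq_of_mul_eq_mul_left (by omega) h1).symm

/-- the number of unitary pairs `(a,b)` is `q³` -/
theorem u3_card_cond (hF : Fintype.card F = q ^ 2) :
    Nat.card {p : F × F // u3_cond q p.1 p.2} = q ^ 3 := by
  have hex : ∀ a : F, ∃ β : F, β + β ^ q = -(a * a ^ q) := by
    intro a
    apply h1_su_trace_surj q hF (u3_two_le hF)
    rw [h5_neg_pow_q hF, mul_pow, Cfsg.Agent.Helper7.Herm.pow_q_pow_q hF, mul_comm]
  choose β hβ using hex
  let e : {p : F × F // u3_cond q p.1 p.2} ≃ F × (u3_tr hF).ker :=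
    { toFun := fun p => (p.1.1, ⟨p.1.2 - β p.1.1, by
        rw [AddMonoidHom.mem_ker, map_sub, u3_tr_apply, u3_tr_apply, hβ]
        have := p.2
        unfold u3_cond at this
        linear_combination this⟩)
      invFun := fun r => ⟨(r.1, r.2.1 + β r.1), by
        have h1 : u3_tr hF r.2.1 = 0 := r.2.2
        rw [u3_tr_apply] at h1
        show r.2.1 + β r.1 + (r.2.1 + β r.1) ^ q + r.1 * r.1 ^ q = 0
        rw [Cfsg.Agent.Helper7.Herm.add_pow_q hF]
        linear_combination h1 + hβ r.1⟩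
      left_inv := by
        rintro ⟨⟨a, b⟩, h⟩
        apply Subtype.ext
        show (a, b - β a + β a) = (a, b)
        rw [sub_add_cancel]
      right_inv := by
        rintro ⟨a, ⟨c, hc⟩⟩
        show (a, (⟨c + β a - β a, _⟩ : (u3_tr hF).ker)) = (a, ⟨c, hc⟩)
        congr 1
        apply Subtype.ext
        show c + β a - β a = c
        rw [add_sub_cancel_right] }
  rw [Nat.card_congr e, Nat.card_prod, u3_card_ker_tr hF, Nat.card_eq_fintype_card, hF]
  ring

theorem u3_card_UM (hF : Fintype.card F = q ^ 2) : Nat.card (u3_UM hF) = q ^ 3 := by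
  rw [← u3_card_cond hF]
  symm
  apply Nat.card_congr
  refine Equiv.ofBijective
    (fun p : {p : F × F // u3_cond q p.1 p.2} =>
      (⟨U q p.1.1 p.1.2, ⟨p.1.1, p.1.2, p.2, rfl⟩⟩ : u3_UM hF)) ⟨?_, ?_⟩
  · rintro ⟨⟨a, b⟩, h⟩ ⟨⟨a', b'⟩, h'⟩ heq
    have h1 : U q a b = U q a' b' := congrArg Subtype.val heq
    obtain ⟨e1, e2⟩ := u3_U_injective h1
    apply Subtype.ext
    show (a, b) = (a', b')
    rw [e1, e2]
  · rintro ⟨g, a, b, h, rfl⟩
    exact ⟨⟨(a, b), h⟩, rfl⟩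

theorem u3_card_BM (hF : Fintype.card F = q ^ 2) :
    Nat.card (u3_BM hF) = q ^ 3 * (q ^ 2 - 1) := by
  have h1 : Nat.card ({p : F × F // u3_cond q p.1 p.2} × Fˣ) = q ^ 3 * (q ^ 2 - 1) := by
    classical
    rw [Nat.card_prod, u3_card_cond hF, Nat.card_eq_fintype_card, Fintype.card_units, hF]
  rw [← h1]
  symm
  apply Nat.card_congr
  refine Equiv.ofBijective
    (fun r : {p : F × F // u3_cond q p.1 p.2} × Fˣ =>
      (⟨U q r.1.1.1 r.1.1.2 * u3_h q r.2, ⟨r.1.1.1, r.1.1.2, r.2, r.1.2, rfl⟩⟩ : u3_BM hF))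
    ⟨?_, ?_⟩
  · rintro ⟨⟨⟨a, b⟩, h⟩, z⟩ ⟨⟨⟨a', b'⟩, h'⟩, z'⟩ heq
    have h1 : U q a b * u3_h q z = U q a' b' * u3_h q z' := congrArg Subtype.val heq
    obtain ⟨e1, e2, e3⟩ := u3_Uh_injective h1
    subst e1 e2 e3
    rfl
  · rintro ⟨g, a, b, z, h, rfl⟩
    exact ⟨(⟨(a, b), h⟩, z), rfl⟩

end card

end Cfsg.Agent.SU3Pres
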