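import Mathlib
import Cfsg.Agent.SU3Pres.H5_MatU5
import Cfsg.Agent.SU3G.H4_TR

/-!
# S2289, piece `Transfer` (helper7): `SUJ F q ≃* SU 3 F q` and the lower bound for `|SUJ F q|`

* `suj_equiv hF : ↥(SUJ F q) ≃* ↥(Cfsg.SU 3 F q)`: conjugation by the base change matrix `h4_P l c` of the
  S2283 swarm (`SU3G/H4_TR.lean`);
* `suj_equiv_coe` : the underlying matrix of `suj_equiv hF M` is `P * M * P'` with `P * P' = 1 = P' * P`;
* `suj_card_ge hF : q ^ 3 * (q ^ 2 - 1) * (1 + q ^ 3) ≤ Nat.card ↥(SUJ F q)` (Bruhat cells are disjoint and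
  parametrised injectively).
-/

set_option autoImplicit false

namespace Cfsg.Agent.SU3Pres

open Matrix Cfsg Cfsg.Agent.SU3G

section transfer

variable {F : Type*} [Field F] [Fintype F] {q : ℕ}

/-- the generic transfer along a base change `P` turning `hJ` into the standard Hermitian form -/
def tf_equiv (P P' : Matrix (Fin 3) (Fin 3) F) (h : P * P' = 1) (h' : P' * P = 1)
    (hP : ∀ x y : Fin 3 → F, hermForm 3 F q (P *ᵥ x) (P *ᵥ y) = hJ q x y) :
    ↥(SUJ F q) ≃* ↥(Cfsg.SU 3 F q) where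
  toFun M := ⟨h4_conj P P' h h' M.1, h4_conj_mem_SU P P' h h' hP M.2⟩
  invFun A := ⟨h4_conj P' P h' h A.1, h4_conj_mem_SUJ P P' h h' hP A.2⟩
  left_inv M := Subtype.ext (h4_conj_conj P P' h h' M.1)
  right_inv A := Subtype.ext (h4_conj_conj P' P h' h A.1)
  map_mul' M N := Subtype.ext (map_mul (h4_conj P P' h h') M.1 N.1)

theorem tf_exists (hF : Fintype.card F = q ^ 2) :
    ∃ (P P' : Matrix (Fin 3) (Fin 3) F) (h : P * P' = 1) (h' : P' * P = 1),
      ∀ x y : Fin 3 → F, hermForm 3 F q (P *ᵥ x) (P *ᵥ y) = hJ q x y := by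
  obtain ⟨l, hl⟩ := nt_eps (q := q) hF
  obtain ⟨c, hc⟩ := nt_trace (q := q) hF
  have hl0 : l ≠ 0 := by
    rintro rfl
    rw [zero_pow (by omega)] at hl
    exact absurd hl (by norm_num)
  exact ⟨h4_P l c, h4_P' l c, h4_P_mul_P' l c hl0, h4_P'_mul_P l c hl0, h4_herm_P hF hl hc⟩

/-- **the transfer isomorphism** `SUJ F q ≃* SU 3 F q` -/
noncomputable def suj_equiv (hF : Fintype.card F = q ^ 2) : ↥(SUJ F q) ≃* ↥(Cfsg.SU 3 F q) :=
  tf_equiv (tf_exists hF).choose (tf_exists hF).choose_spec.choose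
    (tf_exists hF).choose_spec.choose_spec.choose
    (tf_exists hF).choose_spec.choose_spec.choose_spec.choose
    (tf_exists hF).choose_spec.choose_spec.choose_spec.choose_spec

/-- the transfer isomorphism is conjugation by an invertible matrix -/
theorem suj_equiv_coe (hF : Fintype.card F = q ^ 2) :
    ∃ P P' : Matrix (Fin 3) (Fin 3) F, P * P' = 1 ∧ P' * P = 1 ∧
      ∀ M : ↥(SUJ F q), (((suj_equiv hF M : ↥(Cfsg.SU 3 F q)) : SpecialLinearGroup (Fin 3) F) :
        Matrix (Fin 3) (Fin 3) F) = P * ((M : SpecialLinearGroup (Fin 3) F) :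
          Matrix (Fin 3) (Fin 3) F) * P' :=
  ⟨(tf_exists hF).choose, (tf_exists hF).choose_spec.choose,
    (tf_exists hF).choose_spec.choose_spec.choose,
    (tf_exists hF).choose_spec.choose_spec.choose_spec.choose, fun _ => rfl⟩

/-- scalar matrices are fixed by the transfer -/
theorem suj_equiv_scalar (hF : Fintype.card F = q ^ 2) (M : ↥(SUJ F q)) (c : F)
    (hM : ((M : SpecialLinearGroup (Fin 3) F) : Matrix (Fin 3) (Fin 3) F) = c • 1) :
    (((suj_equiv hF M : ↥(Cfsg.SU 3 F q)) : SpecialLinearGroup (Fin 3) F) :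
        Matrix (Fin 3) (Fin 3) F) = c • 1 := by
  obtain ⟨P, P', h, -, hc⟩ := suj_equiv_coe hF
  rw [hc, hM, Matrix.mul_smul, Matrix.mul_one, Matrix.smul_mul, h]

/-! ### the lower bound for the order -/

/-- the Bruhat parametrisation `BM ⊔ BM × UM → SUJ` -/
def tf_cell (hF : Fintype.card F = q ^ 2) : ↥(u3_BM hF) ⊕ (↥(u3_BM hF) × ↥(u3_UM hF)) → ↥(SUJ F q)
  | Sum.inl b => ⟨b.1, u3_BM_le_SUJ hF b.2⟩
  | Sum.inr bx => ⟨bx.1.1 * u3_t * bx.2.1,
      (SUJ F q).mul_mem ((SUJ F q).mul_mem (u3_BM_le_SUJ hF bx.1.2) (u3_t_mem hF))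
        (u3_UM_le_SUJ hF bx.2.2)⟩

theorem tf_cell_injective (hF : Fintype.card F = q ^ 2) : Function.Injective (tf_cell hF) := by
  rintro (b | ⟨b, x⟩) (b' | ⟨b', x'⟩) h
  · have := congrArg Subtype.val h
    exact congrArg Sum.inl (Subtype.ext this)
  · exfalso
    have := congrArg Subtype.val h
    simp only [tf_cell] at this
    exact u3_btx_not_mem hF b'.2 x'.2 (this ▸ b.2)
  · exfalso
    have := congrArg Subtype.val h
    simp only [tf_cell] at this
    exact u3_btx_not_mem hF b.2 x.2 (this ▸ b'.2)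
  · have := congrArg Subtype.val h
    simp only [tf_cell] at this
    obtain ⟨e1, e2⟩ := u3_btx_unique hF b.2 b'.2 x.2 x'.2 this
    have e1' : b = b' := Subtype.ext e1
    have e2' : x = x' := Subtype.ext e2
    rw [e1', e2']

/-- `|SUJ F q| ≥ q³(q²-1)(1+q³)` -/
theorem suj_card_ge (hF : Fintype.card F = q ^ 2) :
    q ^ 3 * (q ^ 2 - 1) * (1 + q ^ 3) ≤ Nat.card ↥(SUJ F q) := by
  have h := Nat.card_le_card_of_injective (tf_cell hF) (tf_cell_injective hF)
  rw [Nat.card_sum, Nat.card_prod, u3_card_BM hF, u3_card_UM hF] at h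
  calc q ^ 3 * (q ^ 2 - 1) * (1 + q ^ 3)
      = q ^ 3 * (q ^ 2 - 1) + q ^ 3 * (q ^ 2 - 1) * q ^ 3 := by ring
    _ ≤ _ := h

end transfer

end Cfsg.Agent.SU3Pres
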