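import Cfsg.Agent.SU3Pres.TSide
import Cfsg.Agent.SU3Pres.H2_PSU
import Cfsg.Agent.SU3Pres.Transfer

/-!
# S2289, piece `Asm` (helper7): from the presentation of `SUJ F q` by a list of relators to the statement

`pres_SUJ` (TSide) gives `PresentedGroup {r | r ∈ l} ≃* SUJ F q` with `l.length ≤ 19`; here the list is turned
into a `Finset`, the model `SUJ F q` is replaced by `Cfsg.SU 3 F q` (`suj_equiv`), and `PSU 3 F q` is
obtained with one more relator (`psu_pres`, helper2).
-/

set_option autoImplicit false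

namespace Cfsg.Agent.SU3Pres

open Matrix Cfsg Cfsg.Agent.SU3G

/-- presented groups on equal sets of relators -/
def asm_congr {α : Type*} {R R' : Set (FreeGroup α)} (h : R = R') :
    PresentedGroup R ≃* PresentedGroup R' := by
  subst h
  exact MulEquiv.refl _

theorem asm_congr_of {α : Type*} {R R' : Set (FreeGroup α)} (h : R = R') (i : α) :
    asm_congr h (PresentedGroup.of i) = PresentedGroup.of i := by
  subst h
  rfl

section asm

variable {F : Type*} [Field F] [Fintype F] {q : ℕ}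

theorem asm_four_le (hF : Fintype.card F = q ^ 2) (h2 : q ≠ 2) (h3 : q ≠ 3) : 4 ≤ q := by
  have h1 : 1 < Fintype.card F := Fintype.one_lt_card
  rw [hF] at h1
  have h0 : q ≠ 0 := by rintro rfl; norm_num at h1
  have h1' : q ≠ 1 := by rintro rfl; norm_num at h1
  omega

/-- **`SU_3(q)`: 3 generators, at most 19 relators.** -/
theorem asm_SU (hF : Fintype.card F = q ^ 2) (hq : 4 ≤ q) :
    ∃ rels : Finset (FreeGroup (Fin 3)), rels.card ≤ 19 ∧
      Nonempty (PresentedGroup (↑rels : Set (FreeGroup (Fin 3))) ≃* ↥(Cfsg.SU 3 F q)) := by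
  classical
  obtain ⟨ζ, hζ, l, hl, e, -⟩ := pres_SUJ hF hq
  refine ⟨l.toFinset, (List.toFinset_card_le l).trans hl, ⟨?_⟩⟩
  have hset : (↑l.toFinset : Set (FreeGroup (Fin 3))) = {r | r ∈ l} := by
    ext r; simp
  exact ((asm_congr hset).trans e).trans (suj_equiv hF)

/-- **`PSU_3(q)`: 3 generators, at most 20 relators.** -/
theorem asm_PSU (hF : Fintype.card F = q ^ 2) (hq : 4 ≤ q) :
    ∃ rels : Finset (FreeGroup (Fin 3)), rels.card ≤ 20 ∧
      Nonempty (PresentedGroup (↑rels : Set (FreeGroup (Fin 3))) ≃* Cfsg.PSU 3 F q) := by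
  classical
  obtain ⟨ζ, hζ, l, hl, e, he⟩ := pres_SUJ hF hq
  have hset : (↑l.toFinset : Set (FreeGroup (Fin 3))) = {r | r ∈ l} := by
    ext r; simp
  obtain ⟨P, P', hPP', -, hcoe⟩ := suj_equiv_coe hF
  refine psu_pres_finset hF ζ hζ l.toFinset 19 ((List.toFinset_card_le l).trans hl)
    (((asm_congr hset).trans e).trans (suj_equiv hF)) ((FreeGroup.of 1) ^ psu_m q) ?_
  rw [map_pow, map_pow]
  apply psu_conj_pow_scalar hF ζ P P' hPP'
  have h1 : PresentedGroup.mk (↑l.toFinset : Set (FreeGroup (Fin 3))) (FreeGroup.of 1) =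
      PresentedGroup.of 1 := rfl
  rw [h1, MulEquiv.trans_apply, MulEquiv.trans_apply, asm_congr_of, hcoe, he]

end asm

end Cfsg.Agent.SU3Pres
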