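import Cfsg.Agent.SL2Pres.A0

set_option autoImplicit false

/-!
# S2289 piece A0v (helper1): two more "commutation from one relation" lemmas

* `a0v_linear`: `u` commutes with `cj h u 1` and `cj h u k = u * cj h u 1` ⟹ all `cj h u i` commute.
* `a0v_cube`: `u` commutes with `cj h u 1, 2, 3` and
  `cj h u k = cj h u 3 * cj h u 2 ^ 3 * cj h u 1 ^ 3 * u` ⟹ all `cj h u i` commute.
-/

namespace Cfsg.Agent.SU3Pres

open Cfsg.Agent.SL2Pres

variable {G : Type*} [Group G]

/-- A0, linear shape. -/
theorem a0v_linear (h u : G) (k : ℤ) (h1 : Commute u (cj h u 1)) (hk : cj h u k = u * cj h u 1) :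
    ∀ i j : ℤ, Commute (cj h u i) (cj h u j) := by
  set S : ℤ → Prop := fun d => Commute u (cj h u d) with hS
  have hS0 : S 0 := by
    show Commute u (cj h u 0)
    rw [cj_zero]
  have hneg : ∀ d, S d → S (-d) := fun d hd => a0_commute_neg h u d hd
  have hrelj : ∀ j : ℤ, cj h u (j + k) = cj h u j * cj h u (j + 1) := by
    intro j
    have := congrArg (MulAut.conj (h ^ j)) hk
    rw [(MulAut.conj (h ^ j)).map_mul, a0_mulAut_cj, a0_mulAut_cj, a0_mulAut_self] at this
    exact this
  have rule_k : ∀ j, S j → S (j + 1) → S (j + k) := by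
    intro j a b
    show Commute _ _
    rw [hrelj j]
    exact a.mul_right b
  have rule_0 : ∀ j, S (j + 1) → S (j + k) → S j := by
    intro j b d
    show Commute _ _
    have : cj h u j = cj h u (j + k) * (cj h u (j + 1))⁻¹ := by
      rw [hrelj j]
      group
    rw [this]
    exact d.mul_right b.inv_right
  have rule_1 : ∀ j, S j → S (j + k) → S (j + 1) := by
    intro j a d
    show Commute _ _
    have : cj h u (j + 1) = (cj h u j)⁻¹ * cj h u (j + k) := by
      rw [hrelj j]
      group
    rw [this]
    exact a.inv_right.mul_right d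
  have hSm1 : S (-1) := hneg 1 h1
  have hA : ∀ m : ℕ, S ((m : ℤ) - 1) ∧ S (k + (m : ℤ) - 1) := by
    intro m
    induction m with
    | zero =>
      refine ⟨by simpa using hSm1, ?_⟩
      have := rule_k (-1) hSm1 (by norm_num; exact hS0)
      rwa [show (-1 : ℤ) + k = k + ((0 : ℕ) : ℤ) - 1 by push_cast; ring] at this
    | succ m ih =>
      obtain ⟨a1, b1⟩ := ih
      have hm : S (((m + 1 : ℕ) : ℤ) - 1) := by
        have := rule_1 ((m : ℤ) - 1) a1
          (by rwa [show (m : ℤ) - 1 + k = k + (m : ℤ) - 1 by ring])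
        rwa [show (m : ℤ) - 1 + 1 = ((m + 1 : ℕ) : ℤ) - 1 by push_cast; ring] at this
      refine ⟨hm, ?_⟩
      have := rule_0 (-(k + ((m + 1 : ℕ) : ℤ) - 1))
        (by
          have := hneg _ b1
          rwa [show -(k + (m : ℤ) - 1) = -(k + ((m + 1 : ℕ) : ℤ) - 1) + 1 by push_cast; ring]
            at this)
        (by
          have := hneg _ hm
          rwa [show -(((m + 1 : ℕ) : ℤ) - 1) = -(k + ((m + 1 : ℕ) : ℤ) - 1) + k by ring] at this)
      have := hneg _ this
      rwa [neg_neg] at this
  have hall : ∀ d : ℤ, S d := by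
    intro d
    rcases le_or_gt 0 d with hd | hd
    · have := (hA (d + 1).toNat).1
      rwa [Int.toNat_of_nonneg (by omega), add_sub_cancel_right] at this
    · have := (hA (-d + 1).toNat).1
      rw [Int.toNat_of_nonneg (by omega), add_sub_cancel_right] at this
      have := hneg _ this
      rwa [neg_neg] at this
  intro i j
  exact (cj_commute_iff h u i j).mpr (hall (j - i))

/-- A0, cube shape. -/
theorem a0v_cube (h u : G) (k : ℤ) (h1 : Commute u (cj h u 1)) (h2 : Commute u (cj h u 2))
    (h3 : Commute u (cj h u 3))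
    (hk : cj h u k = cj h u 3 * cj h u 2 ^ 3 * cj h u 1 ^ 3 * u) :
    ∀ i j : ℤ, Commute (cj h u i) (cj h u j) := by
  set S : ℤ → Prop := fun d => Commute u (cj h u d) with hS
  have hS0 : S 0 := by
    show Commute u (cj h u 0)
    rw [cj_zero]
  have hneg : ∀ d, S d → S (-d) := fun d hd => a0_commute_neg h u d hd
  have hrelj : ∀ j : ℤ, cj h u (j + k) =
      cj h u (j + 3) * cj h u (j + 2) ^ 3 * cj h u (j + 1) ^ 3 * cj h u j := by
    intro j
    have := congrArg (MulAut.conj (h ^ j)) hk
    rw [(MulAut.conj (h ^ j)).map_mul, (MulAut.conj (h ^ j)).map_mul,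
      (MulAut.conj (h ^ j)).map_mul, map_pow, map_pow, a0_mulAut_cj,
      a0_mulAut_cj, a0_mulAut_cj, a0_mulAut_cj, a0_mulAut_self] at this
    exact this
  have rule_k : ∀ j, S j → S (j + 1) → S (j + 2) → S (j + 3) → S (j + k) := by
    intro j a b c d
    show Commute _ _
    rw [hrelj j]
    exact ((d.mul_right (c.pow_right 3)).mul_right (b.pow_right 3)).mul_right a
  have rule_0 : ∀ j, S (j + 1) → S (j + 2) → S (j + 3) → S (j + k) → S j := by
    intro j b c d e
    show Commute _ _
    have : cj h u j =
        (cj h u (j + 3) * cj h u (j + 2) ^ 3 * cj h u (j + 1) ^ 3)⁻¹ * cj h u (j + k) := by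
      rw [hrelj j]
      group
    rw [this]
    exact (((d.mul_right (c.pow_right 3)).mul_right (b.pow_right 3)).inv_right).mul_right e
  have rule_3 : ∀ j, S j → S (j + 1) → S (j + 2) → S (j + k) → S (j + 3) := by
    intro j a b c e
    show Commute _ _
    have : cj h u (j + 3) =
        cj h u (j + k) * (cj h u (j + 2) ^ 3 * cj h u (j + 1) ^ 3 * cj h u j)⁻¹ := by
      rw [hrelj j]
      group
    rw [this]
    exact e.mul_right ((((c.pow_right 3).mul_right (b.pow_right 3)).mul_right a).inv_right)
  have hS1 : S 1 := h1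
  have hS2 : S 2 := h2
  have hS3 : S 3 := h3
  have hSm1 : S (-1) := hneg 1 h1
  have hSm2 : S (-2) := hneg 2 h2
  have hSm3 : S (-3) := hneg 3 h3
  have hk0 : S k := by
    have := rule_k 0 hS0 (by simpa using hS1) (by simpa using hS2) (by simpa using hS3)
    simpa using this
  have hk1 : S (k - 1) := by
    have := rule_k (-1) hSm1 (by simpa using hS0) (by norm_num; exact hS1)
      (by norm_num; exact hS2)
    rwa [show (-1 : ℤ) + k = k - 1 by ring] at this
  have hk2 : S (k - 2) := by
    have := rule_k (-2) hSm2 (by norm_num; exact hSm1) (by norm_num; exact hS0)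
      (by norm_num; exact hS1)
    rwa [show (-2 : ℤ) + k = k - 2 by ring] at this
  have hk3 : S (k - 3) := by
    have := rule_k (-3) hSm3 (by norm_num; exact hSm2) (by norm_num; exact hSm1)
      (by norm_num; exact hS0)
    rwa [show (-3 : ℤ) + k = k - 3 by ring] at this
  have hA : ∀ m : ℕ, S ((m : ℤ) - 3) ∧ S (k + (m : ℤ) - 3) := by
    intro m
    induction m using Nat.strong_induction_on with
    | _ m ih =>
      rcases Nat.lt_or_ge m 4 with hm | hm
      · interval_cases m
        · exact ⟨by simpa using hSm3, by simpa using hk3⟩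
        · refine ⟨by norm_num; exact hSm2, ?_⟩
          rwa [show k + ((1 : ℕ) : ℤ) - 3 = k - 2 by push_cast; ring]
        · refine ⟨by norm_num; exact hSm1, ?_⟩
          rwa [show k + ((2 : ℕ) : ℤ) - 3 = k - 1 by push_cast; ring]
        · refine ⟨by norm_num; exact hS0, ?_⟩
          rwa [show k + ((3 : ℕ) : ℤ) - 3 = k by push_cast; ring]
      · obtain ⟨a1, b1⟩ := ih (m - 1) (by omega)
        obtain ⟨a2, b2⟩ := ih (m - 2) (by omega)
        obtain ⟨a3, b3⟩ := ih (m - 3) (by omega)
        have c1 : ((m - 1 : ℕ) : ℤ) = (m : ℤ) - 1 := by omega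
        have c2 : ((m - 2 : ℕ) : ℤ) = (m : ℤ) - 2 := by omega
        have c3 : ((m - 3 : ℕ) : ℤ) = (m : ℤ) - 3 := by omega
        rw [c1] at a1 b1
        rw [c2] at a2 b2
        rw [c3] at a3 b3
        -- S (m - 3) from rule_3 at j = m - 6
        have hm3 : S ((m : ℤ) - 3) := by
          have := rule_3 ((m : ℤ) - 6)
            (by rwa [show (m : ℤ) - 6 = (m : ℤ) - 3 - 3 by ring])
            (by rwa [show (m : ℤ) - 6 + 1 = (m : ℤ) - 2 - 3 by ring])
            (by rwa [show (m : ℤ) - 6 + 2 = (m : ℤ) - 1 - 3 by ring])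
            (by rwa [show (m : ℤ) - 6 + k = k + ((m : ℤ) - 3) - 3 by ring])
          rwa [show (m : ℤ) - 6 + 3 = (m : ℤ) - 3 by ring] at this
        refine ⟨hm3, ?_⟩
        have := rule_0 (-(k + (m : ℤ) - 3))
          (by
            have := hneg _ b1
            rwa [show -(k + ((m : ℤ) - 1) - 3) = -(k + (m : ℤ) - 3) + 1 by ring] at this)
          (by
            have := hneg _ b2
            rwa [show -(k + ((m : ℤ) - 2) - 3) = -(k + (m : ℤ) - 3) + 2 by ring] at this)
          (by
            have := hneg _ b3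
            rwa [show -(k + ((m : ℤ) - 3) - 3) = -(k + (m : ℤ) - 3) + 3 by ring] at this)
          (by
            have := hneg _ hm3
            rwa [show -((m : ℤ) - 3) = -(k + (m : ℤ) - 3) + k by ring] at this)
        have := hneg _ this
        rwa [neg_neg] at this
  have hall : ∀ d : ℤ, S d := by
    intro d
    rcases le_or_gt 0 d with hd | hd
    · have := (hA (d + 3).toNat).1
      rwa [Int.toNat_of_nonneg (by omega), add_sub_cancel_right] at this
    · have := (hA (-d + 3).toNat).1
      rw [Int.toNat_of_nonneg (by omega), add_sub_cancel_right] at this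
      have := hneg _ this
      rwa [neg_neg] at this
  intro i j
  exact (cj_commute_iff h u i j).mpr (hall (j - i))

end Cfsg.Agent.SU3Pres
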