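import Cfsg.Agent.SL2Pres.A0

set_option autoImplicit false

/-!
# S2289 piece Central (helper1): the 3-step centrality lemma

If `w` commutes with `u`, `cj h u 1`, `cj h u 2`, with `h₁ = h ^ (q-1)`, with all `cj h w n`, and
`cj h u 3` is a product of `h₁`-conjugates of `u`, `cj h u 1`, `cj h u 2` and of a `polyProd h w P`,
then `w` commutes with every `cj h u j` (`h` of finite order).
-/

namespace Cfsg.Agent.SU3Pres

open Cfsg.Agent.SL2Pres Polynomial

variable {G : Type*} [Group G]

/-- the commutator word `w = u X₁ u⁻¹ X₁⁻¹`, `X₁ = h u h⁻¹` -/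
def cw (h u : G) : G := u * cj h u 1 * u⁻¹ * (cj h u 1)⁻¹

theorem ct_commute_cj {w y g : G} (hg : Commute w g) (hy : Commute w y) (n : ℤ) :
    Commute w (cj g y n) := by
  unfold cj
  exact ((hg.zpow_right n).mul_right hy).mul_right (hg.zpow_right (-n))

theorem ct_commute_polyProd {p : ℕ} {w g : G} (hg : Commute w g) (y : G) (hy : Commute w y)
    (P : (ZMod p)[X]) : Commute w (polyProd g y P) := by
  unfold polyProd
  apply Commute.list_prod_right
  intro x hx
  rw [List.mem_map] at hx
  obtain ⟨i, _, rfl⟩ := hx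
  exact (ct_commute_cj hg hy _).pow_right _

theorem ct_commute_polyProd' {p : ℕ} {w h : G} (y : G) (hy : ∀ n : ℤ, Commute w (cj h y n))
    (P : (ZMod p)[X]) : Commute w (polyProd h y P) := by
  unfold polyProd
  apply Commute.list_prod_right
  intro x hx
  rw [List.mem_map] at hx
  obtain ⟨i, _, rfl⟩ := hx
  exact (hy _).pow_right _

theorem ct_conj_pow_self (h : G) (m : ℤ) (n : ℕ) : MulAut.conj (h ^ m) (h ^ n) = h ^ n := by
  rw [MulAut.conj_apply]
  have : Commute (h ^ m) (h ^ n) := (Commute.refl h).zpow_left m |>.pow_right n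
  rw [this.eq, mul_assoc, mul_inv_cancel, mul_one]

theorem ct_conj_self (h : G) (m : ℤ) : MulAut.conj (h ^ m) h = h := by
  have := ct_conj_pow_self h m 1
  simpa using this

theorem ct_cj_cj (h w : G) (m i : ℤ) : cj h (cj h w m) i = cj h w (i + m) := by
  have := a0_mulAut_cj h w i m
  rw [MulAut.conj_apply] at this
  rw [← this, ← a0_conj_self]

theorem ct_cj_period (h u : G) (N : ℕ) (hord : h ^ N = 1) (j t : ℤ) :
    cj h u (j + N * t) = cj h u j := by
  have hz : h ^ ((N : ℤ) * t) = 1 := by
    rw [zpow_mul, zpow_natCast, hord, one_zpow]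
  unfold cj
  rw [zpow_add, hz, mul_one, neg_add, zpow_add, zpow_neg (h) ((N : ℤ) * t), hz, inv_one, mul_one]

/-- 3-step centrality lemma. -/
theorem central_three {p : ℕ} (h u w : G) (q N : ℕ) (hN : 0 < N) (hord : h ^ N = 1)
    (Q0 Q1 Q2 P7 : (ZMod p)[X])
    (c0 : Commute w u) (c1 : Commute w (cj h u 1)) (c2 : Commute w (cj h u 2))
    (c3 : Commute w (h ^ (q - 1)))
    (cW : ∀ n : ℤ, Commute w (cj h w n))
    (c4 : cj h u 3 = polyProd (h ^ (q - 1)) u Q0 * polyProd (h ^ (q - 1)) (cj h u 1) Q1 *
            polyProd (h ^ (q - 1)) (cj h u 2) Q2 * polyProd h w P7) :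
    ∀ j : ℤ, Commute w (cj h u j) := by
  -- natural numbers first
  have hnat : ∀ j : ℕ, Commute w (cj h u (j : ℤ)) := by
    intro j
    induction j using Nat.strong_induction_on with
    | _ j ih =>
      rcases Nat.lt_or_ge j 3 with hj | hj
      · interval_cases j
        · simpa [cj_zero] using c0
        · simpa using c1
        · simpa using c2
      · obtain ⟨m, rfl⟩ : ∃ m, j = m + 3 := ⟨j - 3, by omega⟩
        have e1 : cj h u ((m + 3 : ℕ) : ℤ) = MulAut.conj (h ^ (m : ℤ)) (cj h u 3) := by
          rw [a0_mulAut_cj]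
          push_cast
          rfl
        rw [e1, c4, map_mul, map_mul, map_mul]
        have f : ∀ (y : G) (Q : (ZMod p)[X]),
            MulAut.conj (h ^ (m : ℤ)) (polyProd (h ^ (q - 1)) y Q) =
              polyProd (h ^ (q - 1)) (MulAut.conj (h ^ (m : ℤ)) y) Q := by
          intro y Q
          have := map_polyProd ((MulAut.conj (h ^ (m : ℤ))).toMonoidHom) (h ^ (q - 1)) y Q
          simp only [MulEquiv.coe_toMonoidHom] at this
          rw [this, ct_conj_pow_self]
        have f' : MulAut.conj (h ^ (m : ℤ)) (polyProd h w P7) = polyProd h (cj h w m) P7 := by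
          have := map_polyProd ((MulAut.conj (h ^ (m : ℤ))).toMonoidHom) h w P7
          simp only [MulEquiv.coe_toMonoidHom] at this
          rw [this, ct_conj_self, a0_mulAut_self]
        rw [f, f, f, f', a0_mulAut_self, a0_mulAut_cj, a0_mulAut_cj]
        have i0 : Commute w (cj h u (m : ℤ)) := ih m (by omega)
        have i1 : Commute w (cj h u ((m : ℤ) + 1)) := by
          have := ih (m + 1) (by omega)
          simpa using this
        have i2 : Commute w (cj h u ((m : ℤ) + 2)) := by
          have := ih (m + 2) (by omega)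
          simpa using this
        refine (((ct_commute_polyProd c3 _ i0 Q0).mul_right
          (ct_commute_polyProd c3 _ i1 Q1)).mul_right
          (ct_commute_polyProd c3 _ i2 Q2)).mul_right ?_
        apply ct_commute_polyProd'
        intro n
        rw [ct_cj_cj]
        exact cW _
  intro j
  -- reduce modulo N
  have hNz : (N : ℤ) ≠ 0 := by exact_mod_cast hN.ne'
  have hj : j = j % (N : ℤ) + (N : ℤ) * (j / (N : ℤ)) := (Int.emod_add_mul_ediv j N).symm
  rw [hj, ct_cj_period h u N hord]
  have hnn : 0 ≤ j % (N : ℤ) := Int.emod_nonneg j hNz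
  have := hnat (j % (N : ℤ)).toNat
  rwa [Int.toNat_of_nonneg hnn] at this

end Cfsg.Agent.SU3Pres
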