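import Cfsg.Agent.SU3Pres.A0v
import Cfsg.Agent.SU3Pres.Central
import Cfsg.Agent.SL2Pres.A1
import Cfsg.Agent.Sp4Pres.H5_BorelA

/-!
# Presentation of `SU₃(q)`: the Borel count (piece BorelCount, helper9)

If `u h : G` satisfy the Borel relators of the blueprint and `h ^ (q²-1) = 1`, then `⟨u, h⟩` is finite
of order at most `q³ (q² - 1)`.
-/

set_option autoImplicit false

namespace Cfsg.Agent.SU3Pres

open Cfsg.Agent.SL2Pres Cfsg.Agent.Sp4Pres Polynomial

section tools

variable {G : Type*} [Group G]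

/-- `polyProd h u P` lies in every subgroup containing all `cj h u i` -/
theorem bc_polyProd_mem {p : ℕ} (h u : G) (P : (ZMod p)[X]) (S : Subgroup G)
    (hS : ∀ i : ℤ, cj h u i ∈ S) : polyProd h u P ∈ S := by
  unfold polyProd
  apply Subgroup.list_prod_mem
  intro x hx
  rw [List.mem_map] at hx
  obtain ⟨i, _, rfl⟩ := hx
  exact S.pow_mem (hS _) _

/-- `polyProd h u P` commutes with everything commuting with all `cj h u i` -/
theorem bc_polyProd_commute {p : ℕ} (h u y : G) (P : (ZMod p)[X])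
    (hy : ∀ i : ℤ, Commute (cj h u i) y) : Commute (polyProd h u P) y := by
  have := bc_polyProd_mem h u P (Subgroup.centralizer {y}) (by
    intro i
    rw [Subgroup.mem_centralizer_iff]
    intro z hz
    rw [Set.mem_singleton_iff] at hz
    rw [hz]; exact ((hy i).eq).symm)
  rw [Subgroup.mem_centralizer_iff] at this
  exact (this y rfl).symm

/-- `cj` only depends on the exponent modulo the order of `h` -/
theorem bc_cj_emod (h u : G) (N : ℕ) (hN : h ^ N = 1) (n : ℤ) : cj h u n = cj h u (n % (N : ℤ)) := by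
  have e : ∀ m : ℤ, h ^ m = h ^ (m % (N : ℤ)) :=
    fun m => zpow_eq_zpow_emod m (by rw [zpow_natCast]; exact hN)
  unfold cj
  have e2 : h ^ (-(n % (N : ℤ))) = h ^ (-n) := by
    rw [zpow_neg, zpow_neg, ← e n]
  rw [e2, ← e n]

/-- every `cj h u n` is a `cj h u m` with `m : ℕ` -/
theorem bc_cj_nat (h u : G) (N : ℕ) (hN0 : 0 < N) (hN : h ^ N = 1) (n : ℤ) :
    ∃ m : ℕ, cj h u n = cj h u (m : ℤ) := by
  have h1 := Int.emod_nonneg n (by exact_mod_cast hN0.ne' : (N : ℤ) ≠ 0)
  refine ⟨(n % (N : ℤ)).toNat, ?_⟩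
  rw [Int.toNat_of_nonneg h1]
  exact bc_cj_emod h u N hN n

/-- the class-two power identity: if `[a,b]` commutes with `a` then `[a^n, b] = [a,b]^n` -/
theorem bc_comm_pow (a b : G) (hc : Commute (a * b * a⁻¹ * b⁻¹) a) (n : ℕ) :
    a ^ n * b * (a ^ n)⁻¹ * b⁻¹ = (a * b * a⁻¹ * b⁻¹) ^ n := by
  induction n with
  | zero => simp
  | succ n ih =>
    have e : a ^ (n + 1) * b * (a ^ (n + 1))⁻¹ * b⁻¹ =
        a * (a ^ n * b * (a ^ n)⁻¹ * b⁻¹) * a⁻¹ * (a * b * a⁻¹ * b⁻¹) := by
      rw [pow_succ']; group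
    rw [e, ih]
    have hc' : Commute ((a * b * a⁻¹ * b⁻¹) ^ n) a := hc.pow_left n
    rw [← hc'.eq, mul_inv_cancel_right, pow_succ]

end tools

section core

variable {G : Type*} [Group G]

/-- conjugation by `h` and `h⁻¹` preserves the closure of the `cj h w n` -/
theorem bc_conj_closure (h w : G) (e : ℤ) (z : G)
    (hz : z ∈ Subgroup.closure (Set.range (cj h w))) :
    h ^ e * z * (h ^ e)⁻¹ ∈ Subgroup.closure (Set.range (cj h w)) := by
  induction hz using Subgroup.closure_induction with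
  | mem x hx =>
    obtain ⟨n, rfl⟩ := hx
    rw [cj_conj']
    exact Subgroup.subset_closure ⟨_, rfl⟩
  | one => simp
  | mul x y _ _ ihx ihy =>
    have : h ^ e * (x * y) * (h ^ e)⁻¹ = (h ^ e * x * (h ^ e)⁻¹) * (h ^ e * y * (h ^ e)⁻¹) := by group
    rw [this]; exact Subgroup.mul_mem _ ihx ihy
  | inv x _ ihx =>
    have : h ^ e * x⁻¹ * (h ^ e)⁻¹ = (h ^ e * x * (h ^ e)⁻¹)⁻¹ := by group
    rw [this]; exact Subgroup.inv_mem _ ihx

/-- **Borel count, generated case.** -/
theorem bc_core {F : Type*} [Field F] [Fintype F] {p : ℕ} [Fact p.Prime] [Algebra (ZMod p) F]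
    {Fq : Type*} [Field Fq] [Fintype Fq] [Algebra (ZMod p) Fq]
    (q : ℕ) (hq : 2 ≤ q) (hF : Fintype.card F = q ^ 2) (hFq : Fintype.card Fq ≤ q)
    (g1 : F) (hg1 : Algebra.adjoin (ZMod p) {g1} = ⊤)
    (g2 : Fq) (hg2 : Algebra.adjoin (ZMod p) {g2} = ⊤)
    (u h : G) (hgen : Subgroup.closure ({u, h} : Set G) = ⊤) (hord : h ^ (q ^ 2 - 1) = 1)
    (P1 P4 P7 Q0 Q1 Q2 : (ZMod p)[X]) (k2 : ℤ)
    (b1 : u ^ p = polyProd h (cw h u) P1)
    (b3 : (∃ (k : ℤ) (P3 : (ZMod p)[X]), cj h u k = u * cj h u 1 * polyProd h (cw h u) P3) ∨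
          (∃ (k : ℤ) (P22 P23 P3 : (ZMod p)[X]),
              u * cj h u 2 * u⁻¹ * (cj h u 2)⁻¹ = polyProd h (cw h u) P22 ∧
              u * cj h u 3 * u⁻¹ * (cj h u 3)⁻¹ = polyProd h (cw h u) P23 ∧
              cj h u k = cj h u 3 * cj h u 2 ^ 3 * cj h u 1 ^ 3 * u * polyProd h (cw h u) P3))
    (b4 : polyProd h u (minpoly (ZMod p) g1) = polyProd h (cw h u) P4)
    (c0 : Commute (cw h u) u) (c1 : Commute (cw h u) (cj h u 1))
    (c2 : Commute (cw h u) (cj h u 2)) (c3 : Commute (cw h u) (h ^ (q - 1)))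
    (c4 : cj h u 3 = polyProd (h ^ (q - 1)) u Q0 * polyProd (h ^ (q - 1)) (cj h u 1) Q1 *
            polyProd (h ^ (q - 1)) (cj h u 2) Q2 * polyProd h (cw h u) P7)
    (b8 : polyProd h (cw h u) (minpoly (ZMod p) g2) = 1)
    (b8' : Commute (cw h u) (cj h (cw h u) 1))
    (b8'' : cj h (cw h u) k2 = cw h u * cj h (cw h u) 1) :
    Finite G ∧ Nat.card G ≤ q ^ 3 * (q ^ 2 - 1) := by
  classical
  set w := cw h u with hw
  set N := q ^ 2 - 1 with hNdef
  have hq2 : 4 ≤ q ^ 2 := by nlinarith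
  have hN0 : 0 < N := by omega
  -- Step 1: the `W_n` commute
  have hW : ∀ i j : ℤ, Commute (cj h w i) (cj h w j) := a0v_linear h w k2 b8' b8''
  -- Step 2: centrality
  have hcen : ∀ j : ℤ, Commute w (cj h u j) :=
    central_three h u w q N hN0 hord Q0 Q1 Q2 P7 (by rw [hw]; exact c0) c1 c2 c3
      (fun n => by have := hW 0 n; rwa [cj_zero] at this) c4
  have hWX : ∀ n j : ℤ, Commute (cj h w n) (cj h u j) := by
    intro n j
    have h0 := hcen (j - n)
    have h1 : Commute (h ^ n * w * (h ^ n)⁻¹) (h ^ n * cj h u (j - n) * (h ^ n)⁻¹) := by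
      unfold Commute SemiconjBy at h0 ⊢
      calc h ^ n * w * (h ^ n)⁻¹ * (h ^ n * cj h u (j - n) * (h ^ n)⁻¹)
          = h ^ n * (w * cj h u (j - n)) * (h ^ n)⁻¹ := by group
        _ = h ^ n * (cj h u (j - n) * w) * (h ^ n)⁻¹ := by rw [h0]
        _ = _ := by group
    have e1 : h ^ n * w * (h ^ n)⁻¹ = cj h w n := by simp [cj, zpow_neg]
    rw [cj_conj', e1] at h1
    rwa [show n + (j - n) = j by ring] at h1
  -- the central subgroup
  set Z : Subgroup G := Subgroup.closure (Set.range (cj h w)) with hZ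
  have hWZ : ∀ n : ℤ, cj h w n ∈ Z := fun n => Subgroup.subset_closure ⟨n, rfl⟩
  have hwZ : w ∈ Z := by have := hWZ 0; rwa [cj_zero] at this
  have hPZ : ∀ P : (ZMod p)[X], polyProd h w P ∈ Z := fun P => bc_polyProd_mem h w P Z hWZ
  have hZX : ∀ z ∈ Z, ∀ j : ℤ, Commute z (cj h u j) := by
    intro z hz j
    have : Z ≤ Subgroup.centralizer {cj h u j} := by
      rw [hZ, Subgroup.closure_le]
      rintro _ ⟨n, rfl⟩
      rw [SetLike.mem_coe, Subgroup.mem_centralizer_iff]
      intro y hy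
      rw [Set.mem_singleton_iff] at hy
      rw [hy]; exact ((hWX n j).eq).symm
    have h1 := this hz
    rw [Subgroup.mem_centralizer_iff] at h1
    exact (h1 _ rfl).symm
  have hZu : ∀ z ∈ Z, Commute z u := by
    intro z hz; have := hZX z hz 0; rwa [cj_zero] at this
  -- `w ^ p = 1`
  have hwp : w ^ p = 1 := by
    have e1 := bc_comm_pow u (cj h u 1) (by rw [← cw, ← hw]; exact c0) p
    rw [← cw, ← hw] at e1
    rw [← e1]
    have hc : Commute (u ^ p) (cj h u 1) := by
      rw [b1]; exact hZX _ (hPZ P1) 1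
    rw [hc.eq, mul_inv_cancel_right, mul_inv_cancel]
  -- `Z` is normal
  have hZn : Z.Normal := by
    rw [← Subgroup.normalizer_eq_top_iff, eq_top_iff, ← hgen, Subgroup.closure_le]
    intro g hg
    rcases hg with hg | hg
    · -- `u` centralises `Z`
      rw [hg, SetLike.mem_coe, Subgroup.mem_normalizer_iff]
      intro z
      constructor
      · intro hz
        rw [← (hZu z hz).eq, mul_inv_cancel_right]; exact hz
      · intro hz
        have h1 := (hZu _ hz).eq
        have e : z = u * z * u⁻¹ := by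
          calc z = u⁻¹ * ((u * z * u⁻¹) * u) := by group
            _ = u⁻¹ * (u * (u * z * u⁻¹)) := by rw [h1]
            _ = u * z * u⁻¹ := by group
        rw [e]; exact hz
    · rw [Set.mem_singleton_iff] at hg
      rw [hg, SetLike.mem_coe, Subgroup.mem_normalizer_iff]
      intro z
      constructor
      · intro hz
        have := bc_conj_closure h w 1 z hz
        rwa [zpow_one] at this
      · intro hz
        have := bc_conj_closure h w (-1) _ hz
        rw [zpow_neg, zpow_one, inv_inv] at this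
        have e : h⁻¹ * (h * z * h⁻¹) * h = z := by group
        rwa [e] at this
  -- `Z` is small
  obtain ⟨zz, zadd, zz1, zconj⟩ := exists_hom g2 hg2 h w hwp hW b8
  have hZle : Z ≤ bor_X zz zadd := by
    rw [hZ, Subgroup.closure_le]
    rintro _ ⟨n, rfl⟩
    obtain ⟨m, hm⟩ := bc_cj_nat h w N hN0 hord n
    rw [hm, SetLike.mem_coe]
    have h1 := x_conj_pow zz h g2 zconj m 1
    have e : cj h w (m : ℤ) = h ^ m * zz 1 * (h ^ m)⁻¹ := by rw [zz1]; simp [cj, zpow_neg]
    rw [e, h1]
    exact bor_mem_X zz zadd _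
  obtain ⟨hfinX, hcardX⟩ := bor_X_card zz zadd
  have hfinZ : Finite Z :=
    Finite.of_injective (Subgroup.inclusion hZle) (Subgroup.inclusion_injective hZle)
  have hcardZ : Nat.card Z ≤ q := (Subgroup.card_le_of_le hZle).trans (hcardX.trans hFq)
  -- the quotient
  haveI := hZn
  set π : G →* G ⧸ Z := QuotientGroup.mk' Z with hπ
  have hπZ : ∀ z ∈ Z, π z = 1 := fun z hz => (QuotientGroup.eq_one_iff z).mpr hz
  set ub := π u with hub
  set hb := π h with hhb
  have hπcj : ∀ n, π (cj h u n) = cj hb ub n := fun n => map_cj π h u n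
  have hπw : π w = 1 := hπZ w hwZ
  have comm_of : ∀ a b : G ⧸ Z, a * b * a⁻¹ * b⁻¹ = 1 → Commute a b := by
    intro a b hab
    unfold Commute SemiconjBy
    rw [mul_inv_eq_one, mul_inv_eq_iff_eq_mul] at hab
    exact hab
  have hc1 : Commute ub (cj hb ub 1) := by
    apply comm_of
    rw [← hπw, hw, cw, map_mul, map_mul, map_mul, map_inv, map_inv, hπcj]
  have hcommQ : ∀ i j : ℤ, Commute (cj hb ub i) (cj hb ub j) := by
    rcases b3 with ⟨k, P3, hk⟩ | ⟨k, P22, P23, P3, h22, h23, hk⟩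
    · apply a0v_linear hb ub k hc1
      have := congrArg π hk
      rw [map_mul, map_mul, hπcj, hπcj, hπZ _ (hPZ P3), mul_one] at this
      exact this
    · have hc2 : Commute ub (cj hb ub 2) := by
        apply comm_of
        have := congrArg π h22
        rw [map_mul, map_mul, map_mul, map_inv, map_inv, hπcj, hπZ _ (hPZ P22)] at this
        exact this
      have hc3 : Commute ub (cj hb ub 3) := by
        apply comm_of
        have := congrArg π h23
        rw [map_mul, map_mul, map_mul, map_inv, map_inv, hπcj, hπZ _ (hPZ P23)] at this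
        exact this
      apply a0v_cube hb ub k hc1 hc2 hc3
      have := congrArg π hk
      rw [map_mul, map_mul, map_mul, map_mul, map_pow, map_pow, hπcj, hπcj, hπcj, hπcj,
        hπZ _ (hPZ P3), mul_one] at this
      exact this
  have hubp : ub ^ p = 1 := by rw [hub, ← map_pow, b1, hπZ _ (hPZ P1)]
  have hmQ : polyProd hb ub (minpoly (ZMod p) g1) = 1 := by
    rw [hub, hhb, ← map_polyProd π h u, b4, hπZ _ (hPZ P4)]
  obtain ⟨xx, xadd, xx1, xconj⟩ := exists_hom g1 hg1 hb ub hubp hcommQ hmQ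
  obtain ⟨hfinU, hcardU⟩ := bor_X_card xx xadd
  have hbN : hb ^ N = 1 := by rw [hhb, ← map_pow, hord, map_one]
  have hnorm : Subgroup.zpowers hb ≤
      Subgroup.normalizer ((bor_X xx xadd : Subgroup (G ⧸ Z)) : Set (G ⧸ Z)) := by
    apply bor_le_normalizer
    intro y hy
    obtain ⟨e, rfl⟩ := Subgroup.mem_zpowers_iff.mp hy
    have e1 : hb ^ e = hb ^ (e % (N : ℤ)) :=
      zpow_eq_zpow_emod e (by rw [zpow_natCast]; exact hbN)
    have h1 := Int.emod_nonneg e (by exact_mod_cast hN0.ne' : (N : ℤ) ≠ 0)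
    have e2 : hb ^ e = hb ^ (e % (N : ℤ)).toNat := by
      rw [e1, ← zpow_natCast hb, Int.toNat_of_nonneg h1]
    rw [e2]
    apply bor_cj_X
    intro c
    rw [x_conj_pow xx hb g1 xconj]
    exact bor_mem_X xx xadd _
  have hfo : IsOfFinOrder hb := isOfFinOrder_iff_pow_eq_one.mpr ⟨N, hN0, hbN⟩
  have hcardA : Nat.card (Subgroup.zpowers hb) ≤ N := by
    rw [Nat.card_zpowers]; exact orderOf_le_of_pow_eq_one hN0 hbN
  haveI : Finite (Subgroup.zpowers hb) := by
    apply Nat.finite_of_card_ne_zero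
    rw [Nat.card_zpowers]; exact (hfo.orderOf_pos).ne'
  obtain ⟨hfinS, hcardS⟩ := bor_card_sup (Subgroup.zpowers hb) (bor_X xx xadd) hnorm
  have htop : (⊤ : Subgroup (G ⧸ Z)) ≤ Subgroup.zpowers hb ⊔ bor_X xx xadd := by
    have h1 : Subgroup.map π (Subgroup.closure {u, h}) = ⊤ := by
      rw [hgen]; exact Subgroup.map_top_of_surjective π (QuotientGroup.mk'_surjective Z)
    rw [← h1, MonoidHom.map_closure, Subgroup.closure_le]
    rintro _ ⟨g, hg, rfl⟩
    rcases hg with hg | hg
    · rw [hg]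
      apply Subgroup.mem_sup_right
      show π u ∈ bor_X xx xadd
      rw [← hub, ← xx1]; exact bor_mem_X xx xadd 1
    · rw [Set.mem_singleton_iff] at hg
      rw [hg]
      apply Subgroup.mem_sup_left
      exact Subgroup.mem_zpowers hb
  have hQfin : Finite (G ⧸ Z) := by
    have : Finite (⊤ : Subgroup (G ⧸ Z)) :=
      Finite.of_injective (Subgroup.inclusion htop) (Subgroup.inclusion_injective htop)
    exact Finite.of_equiv _ Subgroup.topEquiv.toEquiv
  have hQcard : Nat.card (G ⧸ Z) ≤ N * q ^ 2 := by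
    calc Nat.card (G ⧸ Z) = Nat.card (⊤ : Subgroup (G ⧸ Z)) := Subgroup.card_top.symm
      _ ≤ Nat.card ↥(Subgroup.zpowers hb ⊔ bor_X xx xadd) := Subgroup.card_le_of_le htop
      _ ≤ Nat.card (Subgroup.zpowers hb) * Nat.card (bor_X xx xadd) := hcardS
      _ ≤ N * q ^ 2 := Nat.mul_le_mul hcardA (hcardU.trans hF.le)
  haveI : Finite G := Finite.of_equiv _ (Subgroup.groupEquivQuotientProdSubgroup (s := Z)).symm
  refine ⟨inferInstance, ?_⟩
  rw [Subgroup.card_eq_card_quotient_mul_card_subgroup Z]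
  calc Nat.card (G ⧸ Z) * Nat.card Z ≤ (N * q ^ 2) * q := Nat.mul_le_mul hQcard hcardZ
    _ = q ^ 3 * N := by ring

end core

section final

variable {G : Type*} [Group G]

/-- **Borel count.** -/
theorem borel_card_le {F : Type*} [Field F] [Fintype F] {p : ℕ} [Fact p.Prime] [Algebra (ZMod p) F]
    {Fq : Type*} [Field Fq] [Fintype Fq] [Algebra (ZMod p) Fq]
    (q : ℕ) (hq : 2 ≤ q) (hF : Fintype.card F = q ^ 2) (hFq : Fintype.card Fq ≤ q)
    (g1 : F) (hg1 : Algebra.adjoin (ZMod p) {g1} = ⊤)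
    (g2 : Fq) (hg2 : Algebra.adjoin (ZMod p) {g2} = ⊤)
    (u h : G) (hord : h ^ (q ^ 2 - 1) = 1)
    (P1 P4 P7 Q0 Q1 Q2 : (ZMod p)[X]) (k2 : ℤ)
    (b1 : u ^ p = polyProd h (cw h u) P1)
    (b3 : (∃ (k : ℤ) (P3 : (ZMod p)[X]), cj h u k = u * cj h u 1 * polyProd h (cw h u) P3) ∨
          (∃ (k : ℤ) (P22 P23 P3 : (ZMod p)[X]),
              u * cj h u 2 * u⁻¹ * (cj h u 2)⁻¹ = polyProd h (cw h u) P22 ∧
              u * cj h u 3 * u⁻¹ * (cj h u 3)⁻¹ = polyProd h (cw h u) P23 ∧
              cj h u k = cj h u 3 * cj h u 2 ^ 3 * cj h u 1 ^ 3 * u * polyProd h (cw h u) P3))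
    (b4 : polyProd h u (minpoly (ZMod p) g1) = polyProd h (cw h u) P4)
    (c0 : Commute (cw h u) u) (c1 : Commute (cw h u) (cj h u 1))
    (c2 : Commute (cw h u) (cj h u 2)) (c3 : Commute (cw h u) (h ^ (q - 1)))
    (c4 : cj h u 3 = polyProd (h ^ (q - 1)) u Q0 * polyProd (h ^ (q - 1)) (cj h u 1) Q1 *
            polyProd (h ^ (q - 1)) (cj h u 2) Q2 * polyProd h (cw h u) P7)
    (b8 : polyProd h (cw h u) (minpoly (ZMod p) g2) = 1)
    (b8' : Commute (cw h u) (cj h (cw h u) 1))
    (b8'' : cj h (cw h u) k2 = cw h u * cj h (cw h u) 1) :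
    Finite (Subgroup.closure ({u, h} : Set G)) ∧
      Nat.card (Subgroup.closure ({u, h} : Set G)) ≤ q ^ 3 * (q ^ 2 - 1) := by
  set K := Subgroup.closure ({u, h} : Set G) with hK
  have huK : u ∈ K := Subgroup.subset_closure (by simp)
  have hhK : h ∈ K := Subgroup.subset_closure (by simp)
  set u' : K := ⟨u, huK⟩ with hu'
  set h' : K := ⟨h, hhK⟩ with hh'
  have inj : Function.Injective K.subtype := Subgroup.subtype_injective K
  have eu : K.subtype u' = u := rfl
  have eh : K.subtype h' = h := rfl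
  have ecw : K.subtype (cw h' u') = cw h u := by
    simp only [cw, map_mul, map_inv, map_cj, eu, eh]
  have hgen : Subgroup.closure ({u', h'} : Set K) = ⊤ := by
    have h1 := Subgroup.closure_closure_coe_preimage (k := ({u, h} : Set G))
    have e : ((↑) : Subgroup.closure ({u, h} : Set G) → G) ⁻¹' ({u, h} : Set G) = {u', h'} := by
      ext x
      simp only [Set.mem_preimage, Set.mem_insert_iff, Set.mem_singleton_iff]
      constructor
      · rintro (hx | hx)
        · left; exact Subtype.ext hx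
        · right; exact Subtype.ext hx
      · rintro (hx | hx)
        · left; rw [hx]
        · right; rw [hx]
    rw [e] at h1
    exact h1
  have comm_of : ∀ a b : K, Commute (K.subtype a) (K.subtype b) → Commute a b := by
    intro a b hab
    unfold Commute SemiconjBy at hab ⊢
    apply inj
    rw [map_mul, map_mul]; exact hab
  exact bc_core q hq hF hFq g1 hg1 g2 hg2 u' h' hgen
    (inj (by rw [map_pow, eh, map_one]; exact hord)) P1 P4 P7 Q0 Q1 Q2 k2
    (inj (by rw [map_pow, map_polyProd, eu, eh, ecw]; exact b1))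
    (by
      rcases b3 with ⟨k, P3, hk⟩ | ⟨k, P22, P23, P3, h22, h23, hk⟩
      · left
        refine ⟨k, P3, inj ?_⟩
        simp only [map_mul, map_cj, map_polyProd, eu, eh, ecw]; exact hk
      · right
        refine ⟨k, P22, P23, P3, inj ?_, inj ?_, inj ?_⟩
        · simp only [map_mul, map_inv, map_cj, map_polyProd, eu, eh, ecw]; exact h22
        · simp only [map_mul, map_inv, map_cj, map_polyProd, eu, eh, ecw]; exact h23
        · simp only [map_mul, map_pow, map_cj, map_polyProd, eu, eh, ecw]; exact hk)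
    (inj (by simp only [map_polyProd, eu, eh, ecw]; exact b4))
    (comm_of _ _ (by rw [ecw, eu]; exact c0))
    (comm_of _ _ (by rw [ecw, map_cj, eu, eh]; exact c1))
    (comm_of _ _ (by rw [ecw, map_cj, eu, eh]; exact c2))
    (comm_of _ _ (by rw [ecw, map_pow, eh]; exact c3))
    (inj (by simp only [map_mul, map_pow, map_cj, map_polyProd, eu, eh, ecw]; exact c4))
    (inj (by simp only [map_polyProd, map_one, eh, ecw]; exact b8))
    (comm_of _ _ (by rw [map_cj, ecw, eh]; exact b8'))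
    (inj (by simp only [map_mul, map_cj, eh, ecw]; exact b8''))

end final

end Cfsg.Agent.SU3Pres
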