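import Mathlib
import Cfsg.Agent.SL2Pres.Fd
import Cfsg.Agent.SU3G.H1_NTIface

/-!
# S2289 swarm, piece `Field` (helper4): finite field facts for the Borel relators of `SU_3(q)`

`F` a field with `q ^ 2` elements, `ζ` a generator of `Fˣ`, `g₁ = ζ² (ζ^q)⁻¹` (`fld_g1`, the action of the torus
on `U/Z`), `g₂ = ζ^(q+1)` (`fld_g2`, the action on `Z`), `γ = g₁^(q-1)`.

* `fld_adjoin_g1` : `Algebra.adjoin (ZMod p) {g₁} = ⊤` for `q > 2`;
* `fld_Fq`, `fld_g2'`, `fld_card_Fq`, `fld_adjoin_g2'`, `fld_minpoly_g2'`, `fld_exists_poly_fixed`: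
  the subfield `F_p(g₂)` with at most `q` elements, generated by `g₂`, containing all `x` with `x ^ q = x`;
* `fld_exists_k_linear` : `∃ k, g₁ ^ k = g₁ + 1` if `3 ∤ q + 1`;
* `fld_exists_k_cube` : `∃ k, g₁ ^ k = (g₁ + 1) ^ 3`;
* `fld_exists_k2` : `∃ k₂, g₂ ^ k₂ = g₂ + 1` for `q > 3`;
* `fld_exists_Q` : `g₁ ^ 3 = Q₀(γ) + Q₁(γ) g₁ + Q₂(γ) g₁ ^ 2`.
-/

set_option autoImplicit false
set_option linter.unusedSectionVars false

namespace Cfsg.Agent.SU3Pres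

open Polynomial Cfsg.Agent.SL2Pres Cfsg.Agent.SU3G

section field

variable {F : Type*} [Field F] [Fintype F]

/-- the action of `h = h(ζ)` on `U / Z(U)` -/
def fld_g1 (q : ℕ) (ζ : Fˣ) : F := (ζ : F) ^ 2 * ((ζ : F) ^ q)⁻¹

/-- the action of `h = h(ζ)` on `Z(U)` -/
def fld_g2 (q : ℕ) (ζ : Fˣ) : F := (ζ : F) ^ (q + 1)

theorem fld_orderOf {q : ℕ} (hF : Fintype.card F = q ^ 2) (ζ : Fˣ)
    (hζ : ∀ a : Fˣ, a ∈ Subgroup.zpowers ζ) : orderOf ζ = q ^ 2 - 1 := by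
  classical
  rw [orderOf_eq_card_of_forall_mem_zpowers hζ, Nat.card_eq_fintype_card, Fintype.card_units, hF]

theorem fld_q_sq {q : ℕ} (hq : 1 ≤ q) : q ^ 2 - 1 = (q - 1) * (q + 1) := by
  obtain ⟨k, rfl⟩ : ∃ k, q = k + 1 := ⟨q - 1, by omega⟩
  simp only [Nat.add_sub_cancel]
  have : (k + 1) ^ 2 = k * (k + 1 + 1) + 1 := by ring
  omega

/-- `ζ ^ a = ζ ^ b` (in `F`) gives `q² - 1 ∣ a - b` -/
theorem fld_dvd_sub {q : ℕ} (hF : Fintype.card F = q ^ 2) (ζ : Fˣ)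
    (hζ : ∀ a : Fˣ, a ∈ Subgroup.zpowers ζ) (a b : ℕ) (hab : b ≤ a)
    (h : (ζ : F) ^ a = (ζ : F) ^ b) : q ^ 2 - 1 ∣ a - b := by
  have := Cfsg.Agent.SL3G.h1_dvd_of_pow_eq ζ a b hab h
  rwa [fld_orderOf hF ζ hζ] at this

theorem fld_g1_ne_zero (q : ℕ) (ζ : Fˣ) : fld_g1 q ζ ≠ 0 :=
  mul_ne_zero (pow_ne_zero 2 ζ.ne_zero) (inv_ne_zero (pow_ne_zero q ζ.ne_zero))

/-- `g₁ ^ n = 1` gives `q² - 1 ∣ (q - 2) n` -/
theorem fld_g1_pow_eq_one {q : ℕ} (hF : Fintype.card F = q ^ 2) (ζ : Fˣ)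
    (hζ : ∀ a : Fˣ, a ∈ Subgroup.zpowers ζ) (n : ℕ) (h : fld_g1 q ζ ^ n = 1) :
    q ^ 2 - 1 ∣ (q - 2) * n := by
  have hq := h1_su_two_le hF
  have hz : ((ζ : F) ^ q) ^ n ≠ 0 := pow_ne_zero n (pow_ne_zero q ζ.ne_zero)
  unfold fld_g1 at h
  rw [mul_pow, inv_pow, mul_inv_eq_one₀ hz, ← pow_mul, ← pow_mul] at h
  have := fld_dvd_sub hF ζ hζ (q * n) (2 * n) (Nat.mul_le_mul_right n hq) h.symm
  rwa [← Nat.sub_mul] at this

/-- cardinality data of an intermediate field -/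
theorem fld_if_data {p : ℕ} [Fact p.Prime] [Algebra (ZMod p) F] (K : IntermediateField (ZMod p) F) :
    2 ≤ Nat.card K ∧ Fintype.card F = Nat.card K ^ Module.finrank K F ∧
      ∀ x ∈ K, x ≠ 0 → x ^ (Nat.card K - 1) = 1 := by
  classical
  let _ : Fintype K := Fintype.ofFinite K
  refine ⟨?_, ?_, ?_⟩
  · rw [Nat.card_eq_fintype_card]; exact Fintype.one_lt_card
  · rw [Nat.card_eq_fintype_card]; exact Module.card_eq_pow_finrank (K := K) (V := F)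
  · intro x hx hx0
    have hz0 : (⟨x, hx⟩ : K) ≠ 0 := by
      intro h0
      exact hx0 (congrArg Subtype.val h0)
    have h1 := FiniteField.pow_card_sub_one_eq_one (⟨x, hx⟩ : K) hz0
    rw [Nat.card_eq_fintype_card]
    have h2 := congrArg Subtype.val h1
    simpa using h2

/-- `Algebra.adjoin (ZMod p) {g} = ⊤` as soon as `F` has degree one over `F_p(g)` -/
theorem fld_adjoin_eq_top {p : ℕ} [Fact p.Prime] [Algebra (ZMod p) F] (g : F)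
    (h : Module.finrank (IntermediateField.adjoin (ZMod p) {g}) F = 1) :
    Algebra.adjoin (ZMod p) {g} = ⊤ := by
  have h1 := IntermediateField.finrank_eq_one_iff_eq_top.1 h
  have h2 := IntermediateField.adjoin_simple_toSubalgebra_of_isAlgebraic
    (Algebra.IsAlgebraic.isAlgebraic (R := ZMod p) g)
  rw [← h2, h1]
  rfl

/-- **`F = F_p[g₁]`** for `q > 2` -/
theorem fld_adjoin_g1 {p : ℕ} [Fact p.Prime] [Algebra (ZMod p) F] {q : ℕ}
    (hF : Fintype.card F = q ^ 2) (hq : 2 < q) (ζ : Fˣ) (hζ : ∀ a : Fˣ, a ∈ Subgroup.zpowers ζ) :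
    Algebra.adjoin (ZMod p) {fld_g1 q ζ} = ⊤ := by
  apply fld_adjoin_eq_top
  obtain ⟨hk2, hcard, hpow⟩ := fld_if_data (IntermediateField.adjoin (ZMod p) {fld_g1 q ζ})
  obtain ⟨k, hk⟩ : ∃ k : ℕ, k = Nat.card (IntermediateField.adjoin (ZMod p) {fld_g1 q ζ}) := ⟨_, rfl⟩
  obtain ⟨m, hm⟩ : ∃ m : ℕ,
    m = Module.finrank (IntermediateField.adjoin (ZMod p) {fld_g1 q ζ}) F := ⟨_, rfl⟩
  rw [← hk] at hk2 hcard hpow
  rw [← hm] at hcard ⊢
  have h1 := hpow _ (IntermediateField.mem_adjoin_simple_self (ZMod p) (fld_g1 q ζ))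
    (fld_g1_ne_zero q ζ)
  have hd := fld_g1_pow_eq_one hF ζ hζ _ h1
  rw [hF] at hcard
  by_contra hm1
  rcases Nat.lt_or_ge m 2 with hm2 | hm2
  · have hm0 : m = 0 := by omega
    rw [hm0, pow_zero] at hcard
    nlinarith
  · have h2 : k ^ 2 ≤ q ^ 2 := by
      rw [hcard]; exact Nat.pow_le_pow_right (by omega) hm2
    have hkq : k ≤ q := by
      by_contra hlt
      push Not at hlt
      nlinarith
    have hpos : 0 < (q - 2) * (k - 1) := Nat.mul_pos (by omega) (by omega)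
    have hle := Nat.le_of_dvd hpos hd
    have h3 : (q - 2) * (k - 1) ≤ (q - 2) * (q - 1) := Nat.mul_le_mul_left _ (by omega)
    obtain ⟨j, rfl⟩ : ∃ j, q = j + 3 := ⟨q - 3, by omega⟩
    have e1 : j + 3 - 2 = j + 1 := by omega
    have e2 : j + 3 - 1 = j + 2 := by omega
    rw [e1, e2] at h3
    rw [e1] at hle
    have e3 : (j + 3) ^ 2 - 1 = j * j + 6 * j + 8 := by
      have : (j + 3) ^ 2 = j * j + 6 * j + 9 := by ring
      omega
    rw [e3] at hle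
    nlinarith

/-! ### the subfield `F_p(g₂)` -/

/-- the subfield generated by `g₂`; it is the fixed field of `x ↦ x ^ q` -/
def fld_Fq (p : ℕ) [Fact p.Prime] [Algebra (ZMod p) F] (q : ℕ) (ζ : Fˣ) :
    IntermediateField (ZMod p) F := IntermediateField.adjoin (ZMod p) {fld_g2 q ζ}

/-- `g₂` as an element of `F_p(g₂)` -/
def fld_g2' (p : ℕ) [Fact p.Prime] [Algebra (ZMod p) F] (q : ℕ) (ζ : Fˣ) : fld_Fq p q ζ :=
  ⟨fld_g2 q ζ, IntermediateField.mem_adjoin_simple_self (ZMod p) (fld_g2 q ζ)⟩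

theorem fld_g2'_coe (p : ℕ) [Fact p.Prime] [Algebra (ZMod p) F] (q : ℕ) (ζ : Fˣ) :
    ((fld_g2' p q ζ : fld_Fq p q ζ) : F) = fld_g2 q ζ := rfl

/-- the elements of `F_p(g)` are the values at `g` of the polynomials over `ZMod p` -/
theorem fld_mem_adjoin_iff {p : ℕ} [Fact p.Prime] [Algebra (ZMod p) F] (g x : F) :
    x ∈ IntermediateField.adjoin (ZMod p) {g} ↔ ∃ P : (ZMod p)[X], aeval g P = x := by
  have h2 := IntermediateField.adjoin_simple_toSubalgebra_of_isAlgebraic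
    (Algebra.IsAlgebraic.isAlgebraic (R := ZMod p) g)
  rw [← IntermediateField.mem_toSubalgebra, h2, Algebra.adjoin_singleton_eq_range_aeval]
  exact Iff.rfl

/-- the Frobenius `x ↦ x ^ q` as an algebra homomorphism over the prime field -/
noncomputable def fld_bar {p : ℕ} [Fact p.Prime] [Algebra (ZMod p) F] {q : ℕ}
    (hF : Fintype.card F = q ^ 2) : F →ₐ[ZMod p] F :=
  { h1_su_bar q hF with
    commutes' := by
      intro r
      have h : (h1_su_bar q hF).comp (algebraMap (ZMod p) F) = algebraMap (ZMod p) F :=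
        Subsingleton.elim _ _
      exact DFunLike.congr_fun h r }

theorem fld_bar_apply {p : ℕ} [Fact p.Prime] [Algebra (ZMod p) F] {q : ℕ}
    (hF : Fintype.card F = q ^ 2) (x : F) : fld_bar (p := p) hF x = x ^ q := rfl

theorem fld_g2_fixed {q : ℕ} (hF : Fintype.card F = q ^ 2) (ζ : Fˣ) :
    fld_g2 q ζ ^ q = fld_g2 q ζ := by
  unfold fld_g2
  rw [← pow_mul, add_mul, one_mul, ← sq, ← hF, pow_add, FiniteField.pow_card, mul_comm, ← pow_succ]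

/-- the elements of `F_p(g₂)` are fixed by the Frobenius -/
theorem fld_Fq_fixed {p : ℕ} [Fact p.Prime] [Algebra (ZMod p) F] {q : ℕ}
    (hF : Fintype.card F = q ^ 2) (ζ : Fˣ) (x : F) (hx : x ∈ fld_Fq p q ζ) : x ^ q = x := by
  obtain ⟨P, rfl⟩ := (fld_mem_adjoin_iff _ _).1 hx
  rw [← fld_bar_apply (p := p) hF, ← Polynomial.aeval_algHom_apply, fld_bar_apply, fld_g2_fixed hF]

/-- `F_p(g₂)` has at most `q` elements -/
theorem fld_card_Fq {p : ℕ} [Fact p.Prime] [Algebra (ZMod p) F] {q : ℕ}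
    (hF : Fintype.card F = q ^ 2) (ζ : Fˣ) [Fintype (fld_Fq p q ζ)] :
    Fintype.card (fld_Fq p q ζ) ≤ q := by
  classical
  have hq := h1_su_two_le hF
  have hdeg : (X ^ q - X : F[X]).natDegree = q := FiniteField.X_pow_card_sub_X_natDegree_eq F hq
  have hne : (X ^ q - X : F[X]) ≠ 0 := FiniteField.X_pow_card_sub_X_ne_zero F hq
  calc Fintype.card (fld_Fq p q ζ)
      = (Finset.univ.image (fun x : fld_Fq p q ζ => (x : F))).card := by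
        rw [Finset.card_image_of_injective _ Subtype.val_injective, Finset.card_univ]
    _ ≤ (X ^ q - X : F[X]).roots.toFinset.card := by
        apply Finset.card_le_card
        intro x hx
        obtain ⟨y, -, rfl⟩ := Finset.mem_image.1 hx
        rw [Multiset.mem_toFinset, mem_roots hne, IsRoot.def, eval_sub, eval_pow, eval_X,
          fld_Fq_fixed hF ζ _ y.2, sub_self]
    _ ≤ Multiset.card (X ^ q - X : F[X]).roots := Multiset.toFinset_card_le _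
    _ ≤ q := by
        have := card_roots' (X ^ q - X : F[X])
        rwa [hdeg] at this

/-- `g₂` generates `F_p(g₂)` as an algebra -/
theorem fld_adjoin_g2' {p : ℕ} [Fact p.Prime] [Algebra (ZMod p) F] (q : ℕ) (ζ : Fˣ) :
    Algebra.adjoin (ZMod p) {fld_g2' p q ζ} = ⊤ := by
  rw [eq_top_iff]
  intro x _
  obtain ⟨P, hP⟩ := (fld_mem_adjoin_iff _ _).1 x.2
  rw [Algebra.adjoin_singleton_eq_range_aeval]
  refine ⟨P, ?_⟩
  apply Subtype.ext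
  have := Polynomial.aeval_algHom_apply (fld_Fq p q ζ).val (fld_g2' p q ζ) P
  rw [IntermediateField.val_mk] at this
  simp only [IntermediateField.coe_val] at this
  show ((aeval (fld_g2' p q ζ) P : fld_Fq p q ζ) : F) = x
  rw [← this, fld_g2'_coe, hP]

/-- the minimal polynomial of `g₂` does not depend on the field -/
theorem fld_minpoly_g2' {p : ℕ} [Fact p.Prime] [Algebra (ZMod p) F] (q : ℕ) (ζ : Fˣ) :
    minpoly (ZMod p) (fld_g2' p q ζ) = minpoly (ZMod p) (fld_g2 q ζ) :=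
  IntermediateField.minpoly_eq _

/-! ### powers of `g₁` -/

/-- `g₁ ^ (q + 2) = ζ ^ 3` -/
theorem fld_g1_pow {q : ℕ} (hF : Fintype.card F = q ^ 2) (ζ : Fˣ) :
    fld_g1 q ζ ^ (q + 2) = (ζ : F) ^ 3 := by
  have hz : ((ζ : F) ^ q) ^ (q + 2) ≠ 0 := pow_ne_zero _ (pow_ne_zero q ζ.ne_zero)
  have hq2 : (ζ : F) ^ (q * q) = ζ := by
    have := FiniteField.pow_card (ζ : F)
    rwa [hF, sq] at this
  unfold fld_g1
  rw [mul_pow, inv_pow, mul_inv_eq_iff_eq_mul₀ hz, ← pow_mul, ← pow_mul]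
  have e : (ζ : F) ^ (q * (q + 2)) = (ζ : F) ^ (q * q) * (ζ : F) ^ (q * 2) := by
    rw [← pow_add]; congr 1; ring
  rw [e, hq2, ← pow_succ', ← pow_add]
  congr 1; ring

/-- `ζ` is a power of `g₁` when `3 ∤ q + 1` -/
theorem fld_zeta_pow_g1 {q : ℕ} (hF : Fintype.card F = q ^ 2) (h3 : ¬ 3 ∣ q + 1) (ζ : Fˣ) :
    ∃ j : ℕ, fld_g1 q ζ ^ j = (ζ : F) := by
  have hq := h1_su_two_le hF
  have hq2 : (ζ : F) ^ (q ^ 2) = ζ := by
    have := FiniteField.pow_card (ζ : F)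
    rwa [hF] at this
  have hcases : q % 3 = 0 ∨ q % 3 = 1 := by omega
  rcases hcases with h0 | h1
  · -- `3 ∣ q`
    obtain ⟨m, hm⟩ : 3 ∣ q ^ 2 := Dvd.dvd.pow (Nat.dvd_of_mod_eq_zero h0) (by norm_num)
    refine ⟨(q + 2) * m, ?_⟩
    rw [pow_mul, fld_g1_pow hF, ← pow_mul, ← hm, hq2]
  · -- `3 ∣ q - 1`
    obtain ⟨m, hm⟩ : 3 ∣ q - 1 := (Nat.modEq_iff_dvd' (by omega)).1 (by
      show 1 % 3 = q % 3
      rw [h1])
    refine ⟨(q + 2) * m + 1, ?_⟩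
    rw [pow_succ, pow_mul, fld_g1_pow hF, ← pow_mul, ← hm]
    unfold fld_g1
    have hz : (ζ : F) ^ q ≠ 0 := pow_ne_zero q ζ.ne_zero
    have e : (ζ : F) ^ q = (ζ : F) ^ (q - 1) * ζ := by
      rw [← pow_succ]; congr 1; omega
    field_simp
    rw [e]

theorem fld_g1_add_one_ne_zero {q : ℕ} (hF : Fintype.card F = q ^ 2) (hq : 2 < q) (ζ : Fˣ)
    (hζ : ∀ a : Fˣ, a ∈ Subgroup.zpowers ζ) : fld_g1 q ζ + 1 ≠ 0 := by
  intro h
  have h1 : fld_g1 q ζ ^ 2 = 1 := by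
    have : fld_g1 q ζ = -1 := by linear_combination h
    rw [this]; ring
  have hd := fld_g1_pow_eq_one hF ζ hζ 2 h1
  have hle := Nat.le_of_dvd (Nat.mul_pos (by omega) (by norm_num)) hd
  obtain ⟨j, rfl⟩ : ∃ j, q = j + 3 := ⟨q - 3, by omega⟩
  have e3 : (j + 3) ^ 2 - 1 = j * j + 6 * j + 8 := by
    have : (j + 3) ^ 2 = j * j + 6 * j + 9 := by ring
    omega
  rw [e3] at hle
  have e1 : j + 3 - 2 = j + 1 := by omega
  rw [e1] at hle
  nlinarith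

/-- **linear shape**: `g₁ ^ k = g₁ + 1` when `3 ∤ q + 1` -/
theorem fld_exists_k_linear {q : ℕ} (hF : Fintype.card F = q ^ 2) (hq : 2 < q) (h3 : ¬ 3 ∣ q + 1)
    (ζ : Fˣ) (hζ : ∀ a : Fˣ, a ∈ Subgroup.zpowers ζ) :
    ∃ k : ℕ, fld_g1 q ζ ^ k = fld_g1 q ζ + 1 := by
  obtain ⟨n, hn⟩ := fd_exists_pow' ζ hζ _ (fld_g1_add_one_ne_zero hF hq ζ hζ)
  obtain ⟨j, hj⟩ := fld_zeta_pow_g1 hF h3 ζ
  exact ⟨j * n, by rw [pow_mul, hj, hn]⟩

/-- **cube shape**: `g₁ ^ k = (g₁ + 1) ^ 3` -/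
theorem fld_exists_k_cube {q : ℕ} (hF : Fintype.card F = q ^ 2) (hq : 2 < q)
    (ζ : Fˣ) (hζ : ∀ a : Fˣ, a ∈ Subgroup.zpowers ζ) :
    ∃ k : ℕ, fld_g1 q ζ ^ k = (fld_g1 q ζ + 1) ^ 3 := by
  obtain ⟨n, hn⟩ := fd_exists_pow' ζ hζ _ (fld_g1_add_one_ne_zero hF hq ζ hζ)
  exact ⟨(q + 2) * n, by rw [pow_mul, fld_g1_pow hF, ← hn, ← pow_mul, ← pow_mul, mul_comm]⟩

/-! ### powers of `g₂` -/

/-- the non-zero fixed points of the Frobenius are the powers of `g₂` -/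
theorem fld_fixed_pow {q : ℕ} (hF : Fintype.card F = q ^ 2) (ζ : Fˣ)
    (hζ : ∀ a : Fˣ, a ∈ Subgroup.zpowers ζ) (x : F) (hx : x ^ q = x) (hx0 : x ≠ 0) :
    ∃ j : ℕ, fld_g2 q ζ ^ j = x := by
  have hq := h1_su_two_le hF
  obtain ⟨n, hn⟩ := fd_exists_pow' ζ hζ x hx0
  have h1 : (ζ : F) ^ (n * q) = (ζ : F) ^ n := by rw [pow_mul, hn, hx]
  have hd := fld_dvd_sub hF ζ hζ (n * q) n (Nat.le_mul_of_pos_right n (by omega)) h1
  have e : n * q - n = (q - 1) * n := by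
    obtain ⟨j, rfl⟩ : ∃ j, q = j + 1 := ⟨q - 1, by omega⟩
    simp only [Nat.add_sub_cancel]
    rw [Nat.mul_succ, Nat.add_sub_cancel, mul_comm]
  rw [e, fld_q_sq (by omega)] at hd
  have hd' : q + 1 ∣ n := (Nat.mul_dvd_mul_iff_left (by omega : 0 < q - 1)).1 hd
  obtain ⟨j, hj⟩ := hd'
  refine ⟨j, ?_⟩
  unfold fld_g2
  rw [← pow_mul, ← hj, hn]

/-- every fixed point of the Frobenius is a polynomial in `g₂` -/
theorem fld_exists_poly_fixed {p : ℕ} [Fact p.Prime] [Algebra (ZMod p) F] {q : ℕ}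
    (hF : Fintype.card F = q ^ 2) (ζ : Fˣ) (hζ : ∀ a : Fˣ, a ∈ Subgroup.zpowers ζ) (x : F)
    (hx : x ^ q = x) : ∃ P : (ZMod p)[X], aeval (fld_g2 q ζ) P = x := by
  by_cases hx0 : x = 0
  · exact ⟨0, by rw [hx0, map_zero]⟩
  · obtain ⟨j, hj⟩ := fld_fixed_pow hF ζ hζ x hx hx0
    exact ⟨X ^ j, by rw [map_pow, aeval_X, hj]⟩

theorem fld_fixed_mem_Fq {p : ℕ} [Fact p.Prime] [Algebra (ZMod p) F] {q : ℕ}
    (hF : Fintype.card F = q ^ 2) (ζ : Fˣ) (hζ : ∀ a : Fˣ, a ∈ Subgroup.zpowers ζ) (x : F)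
    (hx : x ^ q = x) : x ∈ fld_Fq p q ζ :=
  (fld_mem_adjoin_iff _ _).2 (fld_exists_poly_fixed hF ζ hζ x hx)

/-- `g₂ ^ k₂ = g₂ + 1` for `q > 3` -/
theorem fld_exists_k2 {q : ℕ} (hF : Fintype.card F = q ^ 2) (hq : 3 < q)
    (ζ : Fˣ) (hζ : ∀ a : Fˣ, a ∈ Subgroup.zpowers ζ) :
    ∃ k2 : ℕ, fld_g2 q ζ ^ k2 = fld_g2 q ζ + 1 := by
  apply fld_fixed_pow hF ζ hζ
  · rw [h1_su_add_pow q hF, fld_g2_fixed hF, one_pow]
  · intro h
    have h1 : (ζ : F) ^ (2 * (q + 1)) = (ζ : F) ^ 0 := by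
      have : fld_g2 q ζ = -1 := by linear_combination h
      unfold fld_g2 at this
      rw [mul_comm, pow_mul, this, pow_zero]; ring
    have hd := fld_dvd_sub hF ζ hζ _ 0 (Nat.zero_le _) h1
    rw [Nat.sub_zero, fld_q_sq (by omega)] at hd
    have hd' : q - 1 ∣ 2 := (Nat.mul_dvd_mul_iff_right (by omega : 0 < q + 1)).1 hd
    have := Nat.le_of_dvd (by norm_num) hd'
    omega

/-! ### `g₁ ^ 3` over `F_p(γ)`, `γ = g₁ ^ (q - 1)` -/

/-- `[F : F_p(γ)] ≤ 3` -/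
theorem fld_finrank_gamma {p : ℕ} [Fact p.Prime] [Algebra (ZMod p) F] {q : ℕ}
    (hF : Fintype.card F = q ^ 2) (ζ : Fˣ) (hζ : ∀ a : Fˣ, a ∈ Subgroup.zpowers ζ) :
    Module.finrank (IntermediateField.adjoin (ZMod p) {fld_g1 q ζ ^ (q - 1)}) F ≤ 3 := by
  have hq := h1_su_two_le hF
  obtain ⟨hk2, hcard, hpow⟩ :=
    fld_if_data (IntermediateField.adjoin (ZMod p) {fld_g1 q ζ ^ (q - 1)})
  obtain ⟨k, hk⟩ : ∃ k : ℕ,
    k = Nat.card (IntermediateField.adjoin (ZMod p) {fld_g1 q ζ ^ (q - 1)}) := ⟨_, rfl⟩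
  obtain ⟨m, hm⟩ : ∃ m : ℕ,
    m = Module.finrank (IntermediateField.adjoin (ZMod p) {fld_g1 q ζ ^ (q - 1)}) F := ⟨_, rfl⟩
  rw [← hk] at hk2 hcard hpow
  rw [← hm] at hcard ⊢
  have h1 := hpow _ (IntermediateField.mem_adjoin_simple_self (ZMod p) (fld_g1 q ζ ^ (q - 1)))
    (pow_ne_zero _ (fld_g1_ne_zero q ζ))
  rw [← pow_mul] at h1
  have hd := fld_g1_pow_eq_one hF ζ hζ _ h1
  -- `(q + 1) ∣ (q - 2) (k - 1)`
  have hd2 : q + 1 ∣ (q - 2) * (k - 1) := by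
    rw [fld_q_sq (by omega)] at hd
    have e : (q - 2) * ((q - 1) * (k - 1)) = (q - 1) * ((q - 2) * (k - 1)) := by ring
    rw [e] at hd
    exact (Nat.mul_dvd_mul_iff_left (by omega : 0 < q - 1)).1 hd
  -- `(q + 1) ∣ 3 (k - 1)`
  have hd3 : q + 1 ∣ 3 * (k - 1) := by
    have e : (q - 2) * (k - 1) + 3 * (k - 1) = (q + 1) * (k - 1) := by
      rw [← add_mul]; congr 1; omega
    have h2 : q + 1 ∣ (q - 2) * (k - 1) + 3 * (k - 1) := by rw [e]; exact dvd_mul_right _ _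
    exact (Nat.dvd_add_right hd2).1 h2
  have hle := Nat.le_of_dvd (Nat.mul_pos (by norm_num) (by omega)) hd3
  rw [hF] at hcard
  by_contra hm4
  push Not at hm4
  have h4 : k ^ 4 ≤ q ^ 2 := by
    rw [hcard]; exact Nat.pow_le_pow_right (by omega) hm4
  have hk2q : k ^ 2 ≤ q := by
    by_contra hlt
    push Not at hlt
    have : q ^ 2 < (k ^ 2) ^ 2 := Nat.pow_lt_pow_left hlt (by norm_num)
    have e : (k ^ 2) ^ 2 = k ^ 4 := by ring
    omega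
  have h3k : q + 4 ≤ 3 * k := by omega
  nlinarith

/-- **`g₁ ^ 3 = Q₀(γ) + Q₁(γ) g₁ + Q₂(γ) g₁ ^ 2`** -/
theorem fld_exists_Q {p : ℕ} [Fact p.Prime] [Algebra (ZMod p) F] {q : ℕ}
    (hF : Fintype.card F = q ^ 2) (ζ : Fˣ) (hζ : ∀ a : Fˣ, a ∈ Subgroup.zpowers ζ) :
    ∃ Q0 Q1 Q2 : (ZMod p)[X], fld_g1 q ζ ^ 3 =
      aeval (fld_g1 q ζ ^ (q - 1)) Q0 + aeval (fld_g1 q ζ ^ (q - 1)) Q1 * fld_g1 q ζ +
        aeval (fld_g1 q ζ ^ (q - 1)) Q2 * fld_g1 q ζ ^ 2 := by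
  classical
  obtain ⟨K, hK⟩ : ∃ K : IntermediateField (ZMod p) F,
    K = IntermediateField.adjoin (ZMod p) {fld_g1 q ζ ^ (q - 1)} := ⟨_, rfl⟩
  have hfin : Module.finrank K F ≤ 3 := by rw [hK]; exact fld_finrank_gamma hF ζ hζ
  obtain ⟨g, hg⟩ : ∃ g : F, g = fld_g1 q ζ := ⟨_, rfl⟩
  rw [← hg]
  have hint : IsIntegral K g := Algebra.IsIntegral.isIntegral g
  have hmon : (minpoly K g).Monic := minpoly.monic hint
  have hdeg : (minpoly K g).natDegree ≤ 3 := le_trans (minpoly.natDegree_le g) hfin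
  have hne1 : minpoly K g ≠ 1 := minpoly.ne_one K g
  obtain ⟨r, hr⟩ : ∃ r : K[X], r = (X ^ 3 : K[X]) %ₘ minpoly K g := ⟨_, rfl⟩
  have hrdeg : r.natDegree < 3 := by
    rw [hr]
    exact lt_of_lt_of_le (natDegree_modByMonic_lt _ hmon hne1) hdeg
  have hrg : aeval g r = g ^ 3 := by
    rw [hr, aeval_modByMonic_eq_self_of_root (minpoly.aeval K g), map_pow, aeval_X]
  rw [aeval_eq_sum_range' hrdeg] at hrg
  have hmem : ∀ x : F, x ∈ K → x ∈ IntermediateField.adjoin (ZMod p) {g ^ (q - 1)} := by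
    intro x hx
    rw [hg, ← hK]; exact hx
  have hcoef : ∀ i : ℕ, ∃ Q : (ZMod p)[X], aeval (g ^ (q - 1)) Q = ((r.coeff i : K) : F) := by
    intro i
    exact (fld_mem_adjoin_iff _ _).1 (hmem _ (r.coeff i).2)
  obtain ⟨Q0, hQ0⟩ := hcoef 0
  obtain ⟨Q1, hQ1⟩ := hcoef 1
  obtain ⟨Q2, hQ2⟩ := hcoef 2
  refine ⟨Q0, Q1, Q2, ?_⟩
  rw [hQ0, hQ1, hQ2, ← hrg]
  simp only [Finset.sum_range_succ, Finset.sum_range_zero, zero_add, pow_zero, pow_one]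
  simp only [IntermediateField.smul_def, smul_eq_mul, mul_one]

/-! ### further small facts -/

theorem fld_g2_eq (q : ℕ) (ζ : Fˣ) : fld_g2 q ζ = (ζ : F) * (ζ : F) ^ q := by
  unfold fld_g2; rw [pow_succ']

theorem fld_g2_ne_zero (q : ℕ) (ζ : Fˣ) : fld_g2 q ζ ≠ 0 := pow_ne_zero _ ζ.ne_zero

/-- `N(g₁) = g₂` -/
theorem fld_g1_norm {q : ℕ} (hF : Fintype.card F = q ^ 2) (ζ : Fˣ) :
    fld_g1 q ζ * fld_g1 q ζ ^ q = fld_g2 q ζ := by
  have hz : (ζ : F) ^ q ≠ 0 := pow_ne_zero q ζ.ne_zero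
  have hZ : ((ζ : F) ^ 2) ^ q = ((ζ : F) ^ q) ^ 2 := by rw [← pow_mul, ← pow_mul, mul_comm]
  unfold fld_g1
  rw [fld_g2_eq, mul_pow, inv_pow, h1_su_frob q hF, hZ]
  field_simp

/-- `g₁` is not fixed by the Frobenius (`q > 2`), so `γ₀ = g₁ - g₁ ^ q ≠ 0` -/
theorem fld_g1_not_fixed {q : ℕ} (hF : Fintype.card F = q ^ 2) (hq : 2 < q) (ζ : Fˣ)
    (hζ : ∀ a : Fˣ, a ∈ Subgroup.zpowers ζ) : fld_g1 q ζ ^ q ≠ fld_g1 q ζ := by
  intro h
  have h1 : fld_g1 q ζ ^ (q - 1) = 1 := by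
    have h0 := fld_g1_ne_zero q ζ
    have e : fld_g1 q ζ ^ q = fld_g1 q ζ ^ (q - 1) * fld_g1 q ζ := by
      rw [← pow_succ]; congr 1; omega
    rw [e] at h
    exact mul_right_cancel₀ h0 (by rw [h, one_mul])
  have hd := fld_g1_pow_eq_one hF ζ hζ _ h1
  rw [fld_q_sq (by omega), mul_comm (q - 2)] at hd
  have hd' : q + 1 ∣ q - 2 := (Nat.mul_dvd_mul_iff_left (by omega : 0 < q - 1)).1 hd
  have := Nat.le_of_dvd (by omega) hd'
  omega

/-- every element of `F` is a polynomial in `g₁` (`q > 2`) -/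
theorem fld_exists_poly_g1 {p : ℕ} [Fact p.Prime] [Algebra (ZMod p) F] {q : ℕ}
    (hF : Fintype.card F = q ^ 2) (hq : 2 < q) (ζ : Fˣ) (hζ : ∀ a : Fˣ, a ∈ Subgroup.zpowers ζ)
    (a : F) : ∃ A : (ZMod p)[X], aeval (fld_g1 q ζ) A = a :=
  exists_poly _ (fld_adjoin_g1 hF hq ζ hζ) a

/-- the values of the polynomials at `g₂` are fixed by the Frobenius -/
theorem fld_aeval_g2_fixed {p : ℕ} [Fact p.Prime] [Algebra (ZMod p) F] {q : ℕ}
    (hF : Fintype.card F = q ^ 2) (ζ : Fˣ) (C : (ZMod p)[X]) :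
    (aeval (fld_g2 q ζ) C) ^ q = aeval (fld_g2 q ζ) C :=
  fld_Fq_fixed hF ζ _ ((fld_mem_adjoin_iff _ _).2 ⟨C, rfl⟩)

/-- **the imaginary line** `{β | β + β̄ = 0}` is `F_p[g₂] γ₀` for every `γ₀ ≠ 0` on it -/
theorem fld_imag_line {p : ℕ} [Fact p.Prime] [Algebra (ZMod p) F] {q : ℕ}
    (hF : Fintype.card F = q ^ 2) (ζ : Fˣ) (hζ : ∀ a : Fˣ, a ∈ Subgroup.zpowers ζ) {γ₀ : F}
    (hγ₀ : γ₀ ≠ 0) (hγ : γ₀ + γ₀ ^ q = 0) (β : F) :
    β + β ^ q = 0 ↔ ∃ C : (ZMod p)[X], β = aeval (fld_g2 q ζ) C * γ₀ := by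
  have hγq : γ₀ ^ q = -γ₀ := by linear_combination hγ
  constructor
  · intro hβ
    have hβq : β ^ q = -β := by linear_combination hβ
    have hfix : (β / γ₀) ^ q = β / γ₀ := by rw [div_pow, hβq, hγq, neg_div_neg_eq]
    obtain ⟨C, hC⟩ := fld_exists_poly_fixed (p := p) hF ζ hζ _ hfix
    exact ⟨C, by rw [hC, div_mul_cancel₀ _ hγ₀]⟩
  · rintro ⟨C, rfl⟩
    rw [mul_pow, fld_aeval_g2_fixed hF, hγq]; ring

end field

end Cfsg.Agent.SU3Pres
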