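import Cfsg.Agent.SU3Pres.Central

set_option autoImplicit false

/-!
# S2289 piece Hyp (helper1): the relator data, the relations as hypotheses and as generic words

Everything is stated for arbitrary elements `u h t` of an arbitrary group `G`; the words of the
presentation are obtained with `G := FreeGroup (Fin 3)` (and `FreeGroup (Fin 2)` for the Borel group).
-/

namespace Cfsg.Agent.SU3Pres

open Cfsg.Agent.SL2Pres Polynomial

variable {G : Type*} [Group G] {G' : Type*} [Group G']

/-- the polynomials and exponents of the Borel relators -/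
structure BData (p : ℕ) where
  m1 : (ZMod p)[X]
  m2 : (ZMod p)[X]
  P1 : (ZMod p)[X]
  P4 : (ZMod p)[X]
  P7 : (ZMod p)[X]
  Q0 : (ZMod p)[X]
  Q1 : (ZMod p)[X]
  Q2 : (ZMod p)[X]
  k2 : ℤ
  cube : Bool
  k : ℤ
  P3 : (ZMod p)[X]
  P22 : (ZMod p)[X]
  P23 : (ZMod p)[X]

/-- the polynomials and the torus exponent of one rank-one relator -/
structure SData (p : ℕ) where
  A : (ZMod p)[X]
  C : (ZMod p)[X]
  A1 : (ZMod p)[X]
  C1 : (ZMod p)[X]
  A2 : (ZMod p)[X]
  C2 : (ZMod p)[X]
  j : ℕ

/-- the word `polyProd h u A * polyProd h w C` (a general element of the unipotent group) -/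
noncomputable def uword {p : ℕ} (u h : G) (A C : (ZMod p)[X]) : G :=
  polyProd h u A * polyProd h (cw h u) C

/-- the Borel relations -/
structure BRel {p : ℕ} (D : BData p) (q : ℕ) (u h : G) : Prop where
  b1 : u ^ p = polyProd h (cw h u) D.P1
  b3l : D.cube = false → cj h u D.k = u * cj h u 1 * polyProd h (cw h u) D.P3
  b3c : D.cube = true →
    (u * cj h u 2 * u⁻¹ * (cj h u 2)⁻¹ = polyProd h (cw h u) D.P22 ∧
     u * cj h u 3 * u⁻¹ * (cj h u 3)⁻¹ = polyProd h (cw h u) D.P23 ∧
     cj h u D.k = cj h u 3 * cj h u 2 ^ 3 * cj h u 1 ^ 3 * u * polyProd h (cw h u) D.P3)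
  b4 : polyProd h u D.m1 = polyProd h (cw h u) D.P4
  c0 : Commute (cw h u) u
  c1 : Commute (cw h u) (cj h u 1)
  c2 : Commute (cw h u) (cj h u 2)
  c3 : Commute (cw h u) (h ^ (q - 1))
  c4 : cj h u 3 = polyProd (h ^ (q - 1)) u D.Q0 * polyProd (h ^ (q - 1)) (cj h u 1) D.Q1 *
            polyProd (h ^ (q - 1)) (cj h u 2) D.Q2 * polyProd h (cw h u) D.P7
  b8 : polyProd h (cw h u) D.m2 = 1
  b8' : Commute (cw h u) (cj h (cw h u) 1)
  b8'' : cj h (cw h u) D.k2 = cw h u * cj h (cw h u) 1

/-- one rank-one relation `t x t = x₁ h^j t x₂` -/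
def SRel {p : ℕ} (S : SData p) (u h t : G) : Prop :=
  t * uword u h S.A S.C * t = uword u h S.A1 S.C1 * h ^ S.j * t * uword u h S.A2 S.C2

/-- the rank-one relations -/
structure RRel {p : ℕ} (Ss : List (SData p)) (q : ℕ) (u h t : G) : Prop where
  n1 : t * h * t⁻¹ = (h ^ q)⁻¹
  n2 : t * t = 1
  seeds : ∀ S ∈ Ss, SRel S u h t

/-! ### the words -/

/-- the word of the relation `L = R` -/
def rw_ (L R : G) : G := L * R⁻¹

theorem rw_eq_one (L R : G) : rw_ L R = 1 ↔ L = R := by
  unfold rw_; exact mul_inv_eq_one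

theorem map_rw_ (f : G →* G') (L R : G) : f (rw_ L R) = rw_ (f L) (f R) := by
  simp [rw_]

/-- the word of the relation `Commute a b` -/
def cm_ (a b : G) : G := a * b * (b * a)⁻¹

theorem cm_eq_one (a b : G) : cm_ a b = 1 ↔ Commute a b := by
  unfold cm_; rw [mul_inv_eq_one]; rfl

theorem map_cm_ (f : G →* G') (a b : G) : f (cm_ a b) = cm_ (f a) (f b) := by
  simp [cm_]

theorem map_cw (f : G →* G') (h u : G) : f (cw h u) = cw (f h) (f u) := by
  simp [cw, map_cj]

theorem map_uword {p : ℕ} (f : G →* G') (u h : G) (A C : (ZMod p)[X]) :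
    f (uword u h A C) = uword (f u) (f h) A C := by
  simp [uword, map_polyProd, map_cw]

/-- the `b3` words -/
noncomputable def b3words {p : ℕ} (D : BData p) (u h : G) : List G :=
  if D.cube = true then
    [rw_ (u * cj h u 2 * u⁻¹ * (cj h u 2)⁻¹) (polyProd h (cw h u) D.P22),
     rw_ (u * cj h u 3 * u⁻¹ * (cj h u 3)⁻¹) (polyProd h (cw h u) D.P23),
     rw_ (cj h u D.k)
       (cj h u 3 * cj h u 2 ^ 3 * cj h u 1 ^ 3 * u * polyProd h (cw h u) D.P3)]
  else [rw_ (cj h u D.k) (u * cj h u 1 * polyProd h (cw h u) D.P3)]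

/-- the remaining Borel words -/
noncomputable def b0words {p : ℕ} (D : BData p) (q : ℕ) (u h : G) : List G :=
  [rw_ (u ^ p) (polyProd h (cw h u) D.P1),
   rw_ (polyProd h u D.m1) (polyProd h (cw h u) D.P4),
   cm_ (cw h u) u, cm_ (cw h u) (cj h u 1), cm_ (cw h u) (cj h u 2),
   cm_ (cw h u) (h ^ (q - 1)),
   rw_ (cj h u 3) (polyProd (h ^ (q - 1)) u D.Q0 * polyProd (h ^ (q - 1)) (cj h u 1) D.Q1 *
            polyProd (h ^ (q - 1)) (cj h u 2) D.Q2 * polyProd h (cw h u) D.P7),
   polyProd h (cw h u) D.m2,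
   cm_ (cw h u) (cj h (cw h u) 1),
   rw_ (cj h (cw h u) D.k2) (cw h u * cj h (cw h u) 1)]

/-- all Borel words -/
noncomputable def bwords {p : ℕ} (D : BData p) (q : ℕ) (u h : G) : List G :=
  b3words D u h ++ b0words D q u h

/-- the word of a rank-one relation -/
noncomputable def sword {p : ℕ} (S : SData p) (u h t : G) : G :=
  rw_ (t * uword u h S.A S.C * t) (uword u h S.A1 S.C1 * h ^ S.j * t * uword u h S.A2 S.C2)

/-- the rank-one words -/
noncomputable def rwords {p : ℕ} (Ss : List (SData p)) (q : ℕ) (u h t : G) : List G :=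
  [rw_ (t * h * t⁻¹) ((h ^ q)⁻¹), t * t] ++ Ss.map (fun S => sword S u h t)

/-- all words -/
noncomputable def allwords {p : ℕ} (D : BData p) (Ss : List (SData p)) (q : ℕ) (u h t : G) :
    List G :=
  bwords D q u h ++ rwords Ss q u h t

theorem b3words_length_le {p : ℕ} (D : BData p) (u h : G) : (b3words D u h).length ≤ 3 := by
  unfold b3words; split_ifs <;> simp

theorem bwords_length_le {p : ℕ} (D : BData p) (q : ℕ) (u h : G) :
    (bwords D q u h).length ≤ 13 := by
  have := b3words_length_le D u h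
  simp only [bwords, b0words, List.length_append, List.length_cons, List.length_nil]
  omega

theorem allwords_length_le {p : ℕ} (D : BData p) (Ss : List (SData p)) (q : ℕ) (u h t : G) :
    (allwords D Ss q u h t).length ≤ 15 + Ss.length := by
  have := bwords_length_le D q u h
  simp only [allwords, rwords, List.length_append, List.length_cons, List.length_nil,
    List.length_map]
  omega

theorem map_b3words {p : ℕ} (f : G →* G') (D : BData p) (u h : G) :
    (b3words D u h).map f = b3words D (f u) (f h) := by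
  unfold b3words
  split_ifs <;>
    simp [map_rw_, map_cj, map_polyProd, map_cw]

theorem map_b0words {p : ℕ} (f : G →* G') (D : BData p) (q : ℕ) (u h : G) :
    (b0words D q u h).map f = b0words D q (f u) (f h) := by
  simp [b0words, map_rw_, map_cm_, map_cj, map_polyProd, map_cw]

theorem map_bwords {p : ℕ} (f : G →* G') (D : BData p) (q : ℕ) (u h : G) :
    (bwords D q u h).map f = bwords D q (f u) (f h) := by
  rw [bwords, List.map_append, map_b3words, map_b0words, bwords]

theorem map_sword {p : ℕ} (f : G →* G') (S : SData p) (u h t : G) :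
    f (sword S u h t) = sword S (f u) (f h) (f t) := by
  simp [sword, map_rw_, map_uword]

theorem map_rwords {p : ℕ} (f : G →* G') (Ss : List (SData p)) (q : ℕ) (u h t : G) :
    (rwords Ss q u h t).map f = rwords Ss q (f u) (f h) (f t) := by
  simp [rwords, map_rw_, map_sword]

theorem map_allwords {p : ℕ} (f : G →* G') (D : BData p) (Ss : List (SData p)) (q : ℕ)
    (u h t : G) :
    (allwords D Ss q u h t).map f = allwords D Ss q (f u) (f h) (f t) := by
  rw [allwords, List.map_append, map_bwords, map_rwords, allwords]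

theorem brel_iff {p : ℕ} (D : BData p) (q : ℕ) (u h : G) :
    BRel D q u h ↔ ∀ r ∈ bwords D q u h, r = 1 := by
  constructor
  · intro H r hr
    rw [bwords, List.mem_append] at hr
    rcases hr with hr | hr
    · unfold b3words at hr
      split_ifs at hr with hc
      · obtain ⟨e1, e2, e3⟩ := H.b3c hc
        simp only [List.mem_cons, List.not_mem_nil, or_false] at hr
        rcases hr with rfl | rfl | rfl
        · exact (rw_eq_one _ _).2 e1
        · exact (rw_eq_one _ _).2 e2
        · exact (rw_eq_one _ _).2 e3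
      · have hc' : D.cube = false := by simpa using hc
        simp only [List.mem_cons, List.not_mem_nil, or_false] at hr
        subst hr
        exact (rw_eq_one _ _).2 (H.b3l hc')
    · simp only [b0words, List.mem_cons, List.not_mem_nil, or_false] at hr
      rcases hr with rfl | rfl | rfl | rfl | rfl | rfl | rfl | rfl | rfl | rfl
      · exact (rw_eq_one _ _).2 H.b1
      · exact (rw_eq_one _ _).2 H.b4
      · exact (cm_eq_one _ _).2 H.c0
      · exact (cm_eq_one _ _).2 H.c1
      · exact (cm_eq_one _ _).2 H.c2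
      · exact (cm_eq_one _ _).2 H.c3
      · exact (rw_eq_one _ _).2 H.c4
      · exact H.b8
      · exact (cm_eq_one _ _).2 H.b8'
      · exact (rw_eq_one _ _).2 H.b8''
  · intro H
    have H0 : ∀ r ∈ b0words D q u h, r = 1 := fun r hr => H r (by
      rw [bwords, List.mem_append]; exact Or.inr hr)
    have H3 : ∀ r ∈ b3words D u h, r = 1 := fun r hr => H r (by
      rw [bwords, List.mem_append]; exact Or.inl hr)
    simp only [b0words, List.mem_cons, List.not_mem_nil, or_false, forall_eq_or_imp,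
      forall_eq, rw_eq_one, cm_eq_one] at H0
    obtain ⟨h1, h4, hc0, hc1, hc2, hc3, hc4, h8, h8', h8''⟩ := H0
    refine ⟨h1, ?_, ?_, h4, hc0, hc1, hc2, hc3, hc4, h8, h8', h8''⟩
    · intro hc
      unfold b3words at H3
      rw [if_neg (by simp [hc])] at H3
      simpa [rw_eq_one] using H3
    · intro hc
      unfold b3words at H3
      rw [if_pos hc] at H3
      simpa [rw_eq_one] using H3

theorem rrel_iff {p : ℕ} (Ss : List (SData p)) (q : ℕ) (u h t : G) :
    RRel Ss q u h t ↔ ∀ r ∈ rwords Ss q u h t, r = 1 := by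
  constructor
  · intro H r hr
    simp only [rwords, List.cons_append, List.nil_append, List.mem_cons, List.mem_map] at hr
    rcases hr with rfl | rfl | ⟨S, hS, rfl⟩
    · exact (rw_eq_one _ _).2 H.n1
    · exact H.n2
    · exact (rw_eq_one _ _).2 (H.seeds S hS)
  · intro H
    refine ⟨?_, ?_, ?_⟩
    · exact (rw_eq_one _ _).1 (H _ (by simp [rwords]))
    · exact H _ (by simp [rwords])
    · intro S hS
      exact (rw_eq_one _ _).1 (H _ (by
        simp only [rwords, List.cons_append, List.nil_append, List.mem_cons, List.mem_map]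
        exact Or.inr (Or.inr ⟨S, hS, rfl⟩)))

theorem allrel_iff {p : ℕ} (D : BData p) (Ss : List (SData p)) (q : ℕ) (u h t : G) :
    (BRel D q u h ∧ RRel Ss q u h t) ↔ ∀ r ∈ allwords D Ss q u h t, r = 1 := by
  rw [brel_iff, rrel_iff, allwords]
  simp only [List.mem_append]
  constructor
  · rintro ⟨h1, h2⟩ r (hr | hr)
    · exact h1 r hr
    · exact h2 r hr
  · intro H
    exact ⟨fun r hr => H r (Or.inl hr), fun r hr => H r (Or.inr hr)⟩

theorem BRel.map {p : ℕ} {D : BData p} {q : ℕ} {u h : G} (H : BRel D q u h) (f : G →* G') :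
    BRel D q (f u) (f h) := by
  rw [brel_iff] at H ⊢
  intro r hr
  rw [← map_bwords, List.mem_map] at hr
  obtain ⟨r0, hr0, rfl⟩ := hr
  rw [H r0 hr0, map_one]

theorem RRel.map {p : ℕ} {Ss : List (SData p)} {q : ℕ} {u h t : G} (H : RRel Ss q u h t)
    (f : G →* G') : RRel Ss q (f u) (f h) (f t) := by
  rw [rrel_iff] at H ⊢
  intro r hr
  rw [← map_rwords, List.mem_map] at hr
  obtain ⟨r0, hr0, rfl⟩ := hr
  rw [H r0 hr0, map_one]

/-- `n1`, `n2` force `h ^ (q² - 1) = 1`. -/
theorem hpow_of_n {q : ℕ} (hq : 1 ≤ q) {h t : G} (n1 : t * h * t⁻¹ = (h ^ q)⁻¹)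
    (n2 : t * t = 1) : h ^ (q ^ 2 - 1) = 1 := by
  have ht : t⁻¹ = t := inv_eq_of_mul_eq_one_left n2
  rw [ht] at n1
  -- t h^q t = (t h t)^q
  have e1 : t * h ^ q * t = (t * h * t) ^ q := by
    have : t * h ^ q * t = t * h ^ q * t⁻¹ := by rw [ht]
    rw [this, ← conj_pow, ht]
  have e2 : h = t * (t * h * t) * t := by
    have : t * (t * h * t) * t = (t * t) * h * (t * t) := by group
    rw [this, n2, one_mul, mul_one]
  have e3 : h = h ^ (q ^ 2) := by
    have e4 : t * (h ^ q)⁻¹ * t = (t * h ^ q * t)⁻¹ := by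
      have : (t * h ^ q * t)⁻¹ = t⁻¹ * (h ^ q)⁻¹ * t⁻¹ := by group
      rw [this, ht]
    calc h = t * (t * h * t) * t := e2
      _ = t * (h ^ q)⁻¹ * t := by rw [n1]
      _ = (t * h ^ q * t)⁻¹ := e4
      _ = ((t * h * t) ^ q)⁻¹ := by rw [e1]
      _ = (((h ^ q)⁻¹) ^ q)⁻¹ := by rw [n1]
      _ = h ^ (q ^ 2) := by rw [inv_pow, inv_inv, ← pow_mul, sq]
  have hq2 : 1 ≤ q ^ 2 := Nat.one_le_pow _ _ hq
  have e5 : h ^ (q ^ 2) = h ^ (q ^ 2 - 1) * h := by
    rw [← pow_succ]; congr 1; omega
  have e6 : h ^ (q ^ 2 - 1) * h = 1 * h := by rw [one_mul, ← e5, ← e3]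
  exact mul_right_cancel e6

end Cfsg.Agent.SU3Pres
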