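import Mathlib
import Cfsg.Agent.SU3Pres.H5_MatU5
import Cfsg.Agent.SU3Pres.Field
import Cfsg.Agent.SU3Pres.Hyp

/-!
# S2289 swarm, piece `ModelWords` (helper5), proofs: the matrix side of the words

`h := u3_h q z` (`z : Fˣ`), `g₁ := fld_g1 q z`, `g₂ := fld_g2 q z`.

* `mw_a M` : the `a`-coordinate (entry `(0,1)`); additive on `u3_UM hF`, multiplied by `g₁` under conjugation by `h`;
* `mw_cj_U` : `cj h (U a b) i = U (g₁^i a) (g₂^i b)`;
* `mw_polyProd_U0` (a), `mw_polyProd_central` (b), `mw_cw_U`, `mw_cw0` (c), `mw_surj0` (d), `mw_gen0` (e),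
  `mw_eq_mod_central` (f).
`u3_cond q a b` is definitionally `Ucond q a b` (`Omega.lean`).
-/

set_option autoImplicit false

namespace Cfsg.Agent.SU3Pres

open Matrix Cfsg Cfsg.Agent.SU3G Cfsg.Agent.SL2Pres Polynomial

section modelwords

variable {F : Type*} [Field F] [Fintype F] {q : ℕ}

/-- the `a`-coordinate of a matrix: its `(0,1)` entry -/
def mw_a (M : SpecialLinearGroup (Fin 3) F) : F := (M : Matrix (Fin 3) (Fin 3) F) 0 1

omit [Fintype F] in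
@[simp] theorem mw_a_U (a b : F) : mw_a (U q a b) = a := by
  simp [mw_a, U_coe]

theorem mw_a_one : mw_a (1 : SpecialLinearGroup (Fin 3) F) = 0 := by
  simp [mw_a]

theorem mw_a_mul (hF : Fintype.card F = q ^ 2) {L R : SpecialLinearGroup (Fin 3) F}
    (hL : L ∈ u3_UM hF) (hR : R ∈ u3_UM hF) : mw_a (L * R) = mw_a L + mw_a R := by
  obtain ⟨a, b, _, rfl⟩ := hL
  obtain ⟨a', b', _, rfl⟩ := hR
  rw [h5_U_mul hF, mw_a_U, mw_a_U, mw_a_U]

theorem mw_a_inv (hF : Fintype.card F = q ^ 2) {L : SpecialLinearGroup (Fin 3) F}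
    (hL : L ∈ u3_UM hF) : mw_a L⁻¹ = -mw_a L := by
  obtain ⟨a, b, _, rfl⟩ := hL
  rw [h5_U_inv hF, mw_a_U, mw_a_U]

theorem mw_a_pow (hF : Fintype.card F = q ^ 2) {L : SpecialLinearGroup (Fin 3) F}
    (hL : L ∈ u3_UM hF) (n : ℕ) : mw_a (L ^ n) = (n : F) * mw_a L := by
  induction n with
  | zero => simp [mw_a_one]
  | succ n ih =>
    rw [pow_succ, mw_a_mul hF ((u3_UM hF).pow_mem hL n) hL, ih]
    push_cast; ring

/-- an element of `UM` is `U (mw_a L) b` -/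
theorem mw_eq_U (hF : Fintype.card F = q ^ 2) {L : SpecialLinearGroup (Fin 3) F}
    (hL : L ∈ u3_UM hF) : ∃ b : F, u3_cond q (mw_a L) b ∧ L = U q (mw_a L) b := by
  obtain ⟨a, b, h, rfl⟩ := hL
  exact ⟨b, by rwa [mw_a_U], by rw [mw_a_U]⟩

/-- an element of `UM` with `a`-coordinate `0` is central: `U 0 β`, `β + β^q = 0` -/
theorem mw_central_of_a_zero (hF : Fintype.card F = q ^ 2) {L : SpecialLinearGroup (Fin 3) F}
    (hL : L ∈ u3_UM hF) (h0 : mw_a L = 0) : ∃ β : F, β + β ^ q = 0 ∧ L = U q 0 β := by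
  obtain ⟨b, hb, e⟩ := mw_eq_U hF hL
  rw [h0] at hb e
  refine ⟨b, ?_, e⟩
  have : b + b ^ q + 0 * 0 ^ q = 0 := hb
  rwa [zero_mul, add_zero] at this

/-! ### conjugation by the torus -/

/-- `g₁` of a power -/
theorem mw_g1_pow (z : Fˣ) (n : ℕ) : fld_g1 q (z ^ n) = fld_g1 q z ^ n := by
  unfold fld_g1
  rw [Units.val_pow_eq_pow_val, mul_pow, inv_pow, ← pow_mul, ← pow_mul, ← pow_mul, ← pow_mul,
    mul_comm n 2, mul_comm n q]

theorem mw_g2_pow (z : Fˣ) (n : ℕ) : fld_g2 q (z ^ n) = fld_g2 q z ^ n := by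
  unfold fld_g2
  rw [Units.val_pow_eq_pow_val, ← pow_mul, ← pow_mul, mul_comm]

theorem mw_g1_zpow (z : Fˣ) (i : ℤ) : fld_g1 q (z ^ i) = fld_g1 q z ^ i := by
  unfold fld_g1
  rw [Units.val_zpow_eq_zpow_val, mul_zpow, _root_.inv_zpow, ← zpow_natCast, ← zpow_natCast,
    ← zpow_natCast, ← zpow_natCast, ← _root_.zpow_mul, ← _root_.zpow_mul, ← _root_.zpow_mul,
    ← _root_.zpow_mul, mul_comm i, mul_comm i]

theorem mw_g2_zpow (z : Fˣ) (i : ℤ) : fld_g2 q (z ^ i) = fld_g2 q z ^ i := by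
  unfold fld_g2
  rw [Units.val_zpow_eq_zpow_val, ← zpow_natCast, ← zpow_natCast, ← _root_.zpow_mul,
    ← _root_.zpow_mul, mul_comm]

/-- `h(z) U(a,b) h(z)⁻¹ = U(g₁ a, g₂ b)` -/
theorem mw_conj_U (hF : Fintype.card F = q ^ 2) (z : Fˣ) (a b : F) :
    u3_h q z * U q a b * (u3_h q z)⁻¹ = U q (fld_g1 q z * a) (fld_g2 q z * b) := by
  rw [u3_h_conj_U hF, fld_g2_eq]
  rfl

/-- `cj h (U a b) i = U (g₁^i a) (g₂^i b)` (`i : ℤ`, field `zpow`) -/
theorem mw_cj_U (hF : Fintype.card F = q ^ 2) (z : Fˣ) (a b : F) (i : ℤ) :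
    cj (u3_h q z) (U q a b) i = U q (fld_g1 q z ^ i * a) (fld_g2 q z ^ i * b) := by
  unfold cj
  rw [_root_.zpow_neg, ← u3_h_zpow, mw_conj_U hF, mw_g1_zpow, mw_g2_zpow]

/-- `cj h (U a b) n = U (g₁^n a) (g₂^n b)` (`n : ℕ`) -/
theorem mw_cj_U_nat (hF : Fintype.card F = q ^ 2) (z : Fˣ) (a b : F) (n : ℕ) :
    cj (u3_h q z) (U q a b) (n : ℤ) = U q (fld_g1 q z ^ n * a) (fld_g2 q z ^ n * b) := by
  rw [mw_cj_U hF, zpow_natCast, zpow_natCast]

theorem mw_cj_mem (hF : Fintype.card F = q ^ 2) (z : Fˣ) {L : SpecialLinearGroup (Fin 3) F}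
    (hL : L ∈ u3_UM hF) (i : ℤ) : cj (u3_h q z) L i ∈ u3_UM hF := by
  obtain ⟨a, b, h, rfl⟩ := hL
  unfold cj
  rw [_root_.zpow_neg, ← u3_h_zpow, u3_h_conj_U hF]
  exact ⟨_, _, u3_cond_conj hF _ h, rfl⟩

theorem mw_a_cj (hF : Fintype.card F = q ^ 2) (z : Fˣ) {L : SpecialLinearGroup (Fin 3) F}
    (hL : L ∈ u3_UM hF) (i : ℤ) : mw_a (cj (u3_h q z) L i) = fld_g1 q z ^ i * mw_a L := by
  obtain ⟨a, b, h, rfl⟩ := hL
  rw [mw_cj_U hF, mw_a_U, mw_a_U]

theorem mw_a_cj_nat (hF : Fintype.card F = q ^ 2) (z : Fˣ) {L : SpecialLinearGroup (Fin 3) F}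
    (hL : L ∈ u3_UM hF) (n : ℕ) :
    mw_a (cj (u3_h q z) L (n : ℤ)) = fld_g1 q z ^ n * mw_a L := by
  rw [mw_a_cj hF z hL, zpow_natCast]

/-- `cw h L = [L, h L h⁻¹] ∈ UM` -/
theorem mw_cw_mem (hF : Fintype.card F = q ^ 2) (z : Fˣ) {L : SpecialLinearGroup (Fin 3) F}
    (hL : L ∈ u3_UM hF) : cw (u3_h q z) L ∈ u3_UM hF := by
  unfold cw
  have h1 := mw_cj_mem hF z hL 1
  exact (u3_UM hF).mul_mem ((u3_UM hF).mul_mem ((u3_UM hF).mul_mem hL h1)
    ((u3_UM hF).inv_mem hL)) ((u3_UM hF).inv_mem h1)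

/-- (c), general form: `cw h (U a b) = U 0 (g₁ a a^q − a (g₁ a)^q)` -/
theorem mw_cw_U (hF : Fintype.card F = q ^ 2) (z : Fˣ) (a b : F) :
    cw (u3_h q z) (U q a b) =
      U q 0 (fld_g1 q z * a * a ^ q - a * (fld_g1 q z * a) ^ q) := by
  unfold cw
  rw [mw_cj_U hF, zpow_one, zpow_one, u3_U_comm hF]

/-- `γ₀ = g₁ − g₁^q` -/
def mw_gamma (q : ℕ) (z : Fˣ) : F := fld_g1 q z - fld_g1 q z ^ q

/-- (c): `cw h (U 1 b₀) = U 0 γ₀` -/
theorem mw_cw0 (hF : Fintype.card F = q ^ 2) (z : Fˣ) (b0 : F) :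
    cw (u3_h q z) (U q 1 b0) = U q 0 (mw_gamma q z) := by
  rw [mw_cw_U hF, mul_one, one_pow, mul_one, one_mul]
  rfl

theorem mw_gamma_imag (hF : Fintype.card F = q ^ 2) (z : Fˣ) :
    mw_gamma q z + mw_gamma q z ^ q = 0 := by
  unfold mw_gamma
  rw [sub_eq_add_neg, Cfsg.Agent.Helper7.Herm.add_pow_q hF, h5_neg_pow_q hF,
    Cfsg.Agent.Helper7.Herm.pow_q_pow_q hF]
  ring

theorem mw_gamma_ne_zero (hF : Fintype.card F = q ^ 2) (hq : 2 < q) (ζ : Fˣ)
    (hζ : ∀ a : Fˣ, a ∈ Subgroup.zpowers ζ) : mw_gamma q ζ ≠ 0 := by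
  intro h
  apply fld_g1_not_fixed hF hq ζ hζ
  unfold mw_gamma at h
  exact (sub_eq_zero.1 h).symm

/-! ### polynomial words -/

section poly

variable {p : ℕ} [Fact p.Prime] [Algebra (ZMod p) F]

theorem mw_list_aux (hF : Fintype.card F = q ^ 2) (z : Fˣ) {L : SpecialLinearGroup (Fin 3) F}
    (hL : L ∈ u3_UM hF) (P : (ZMod p)[X]) (n : ℕ) :
    ((List.range n).map fun i : ℕ => cj (u3_h q z) L (i : ℤ) ^ (P.coeff i).val).prod ∈ u3_UM hF ∧
    mw_a ((List.range n).map fun i : ℕ => cj (u3_h q z) L (i : ℤ) ^ (P.coeff i).val).prod =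
      (∑ i ∈ Finset.range n, P.coeff i • fld_g1 q z ^ i) * mw_a L := by
  haveI : NeZero p := ⟨(Fact.out : p.Prime).ne_zero⟩
  induction n with
  | zero => simp [mw_a_one, (u3_UM hF).one_mem]
  | succ n ih =>
    rw [List.range_succ, List.map_append, List.prod_append, Finset.sum_range_succ]
    simp only [List.map_cons, List.map_nil, List.prod_cons, List.prod_nil, mul_one]
    have hc : cj (u3_h q z) L (n : ℤ) ^ (P.coeff n).val ∈ u3_UM hF :=
      (u3_UM hF).pow_mem (mw_cj_mem hF z hL _) _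
    refine ⟨(u3_UM hF).mul_mem ih.1 hc, ?_⟩
    rw [mw_a_mul hF ih.1 hc, ih.2, mw_a_pow hF (mw_cj_mem hF z hL _), mw_a_cj_nat hF z hL, add_mul]
    congr 1
    rw [Algebra.smul_def, ← mul_assoc]
    congr 2
    conv_rhs => rw [← ZMod.natCast_zmod_val (P.coeff n)]
    rw [map_natCast]

/-- polynomial words of elements of `UM` are in `UM` -/
theorem mw_polyProd_mem (hF : Fintype.card F = q ^ 2) (z : Fˣ) {L : SpecialLinearGroup (Fin 3) F}
    (hL : L ∈ u3_UM hF) (P : (ZMod p)[X]) : polyProd (u3_h q z) L P ∈ u3_UM hF :=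
  (mw_list_aux hF z hL P _).1

/-- (a): the `a`-coordinate of a polynomial word -/
theorem mw_a_polyProd (hF : Fintype.card F = q ^ 2) (z : Fˣ) {L : SpecialLinearGroup (Fin 3) F}
    (hL : L ∈ u3_UM hF) (P : (ZMod p)[X]) :
    mw_a (polyProd (u3_h q z) L P) = aeval (fld_g1 q z) P * mw_a L := by
  rw [aeval_eq_sum_range]
  exact (mw_list_aux hF z hL P _).2

/-- (a), in the form of the blueprint -/
theorem mw_polyProd_U0 (hF : Fintype.card F = q ^ 2) (z : Fˣ) {a b : F} (hab : u3_cond q a b)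
    (P : (ZMod p)[X]) : ∃ b' : F, u3_cond q (aeval (fld_g1 q z) P * a) b' ∧
      polyProd (u3_h q z) (U q a b) P = U q (aeval (fld_g1 q z) P * a) b' := by
  have hL : U q a b ∈ u3_UM hF := ⟨a, b, hab, rfl⟩
  obtain ⟨b', h1, h2⟩ := mw_eq_U hF (mw_polyProd_mem hF z hL P)
  rw [mw_a_polyProd hF z hL, mw_a_U] at h1 h2
  exact ⟨b', h1, h2⟩

/-- (b): polynomial words of central elements -/
theorem mw_polyProd_central (hF : Fintype.card F = q ^ 2) (z : Fˣ) (β : F) (P : (ZMod p)[X]) :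
    polyProd (u3_h q z) (U q 0 β) P = U q 0 (aeval (fld_g2 q z) P * β) := by
  have h := polyProd_eq (fun c : F => U q (0 : F) (c * β)) (by
      intro c d
      show U q (0 : F) ((c + d) * β) = U q 0 (c * β) * U q 0 (d * β)
      rw [h5_U_mul hF]
      congr 1
      · ring
      · ring) (u3_h q z) (U q 0 β) (fld_g2 q z) (by
      show U q (0 : F) (1 * β) = U q 0 β
      rw [one_mul]) (by
      intro c
      show u3_h q z * U q (0 : F) (c * β) * (u3_h q z)⁻¹ = U q 0 (fld_g2 q z * c * β)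
      rw [mw_conj_U hF, mul_zero, mul_assoc]) P
  exact h

/-- (d): every element of `UM` is a word `uword u h A C` (`ζ` a generator, `q > 2`) -/
theorem mw_surj0 (hF : Fintype.card F = q ^ 2) (hq : 2 < q) (ζ : Fˣ)
    (hζ : ∀ a : Fˣ, a ∈ Subgroup.zpowers ζ) (b0 : F) (hb0 : u3_cond q 1 b0)
    {a b : F} (hab : u3_cond q a b) :
    ∃ A C : (ZMod p)[X], uword (U q 1 b0) (u3_h q ζ) A C = U q a b := by
  obtain ⟨A, hA⟩ := fld_exists_poly_g1 (p := p) hF hq ζ hζ a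
  obtain ⟨b', hb', e1⟩ := mw_polyProd_U0 hF ζ hb0 A
  rw [hA, mul_one] at hb' e1
  -- the central defect
  have hL : (U q a b')⁻¹ * U q a b ∈ u3_UM hF :=
    (u3_UM hF).mul_mem ((u3_UM hF).inv_mem ⟨a, b', hb', rfl⟩) ⟨a, b, hab, rfl⟩
  have h0 : mw_a ((U q a b')⁻¹ * U q a b) = 0 := by
    rw [mw_a_mul hF ((u3_UM hF).inv_mem ⟨a, b', hb', rfl⟩) ⟨a, b, hab, rfl⟩,
      mw_a_inv hF ⟨a, b', hb', rfl⟩, mw_a_U, mw_a_U, neg_add_cancel]
  obtain ⟨β, hβ, e2⟩ := mw_central_of_a_zero hF hL h0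
  obtain ⟨C, hC⟩ := (fld_imag_line (p := p) hF ζ hζ (mw_gamma_ne_zero hF hq ζ hζ)
    (mw_gamma_imag hF ζ) β).1 hβ
  refine ⟨A, C, ?_⟩
  unfold uword
  rw [e1, mw_cw0 hF, mw_polyProd_central hF, ← hC, ← e2]
  group

/-- (f): two elements of `UM` with the same `a`-coordinate differ by a central polynomial word -/
theorem mw_eq_mod_central (hF : Fintype.card F = q ^ 2) (hq : 2 < q) (ζ : Fˣ)
    (hζ : ∀ a : Fˣ, a ∈ Subgroup.zpowers ζ) (b0 : F)
    {L R : SpecialLinearGroup (Fin 3) F} (hL : L ∈ u3_UM hF) (hR : R ∈ u3_UM hF)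
    (ha : mw_a L = mw_a R) :
    ∃ C : (ZMod p)[X], L = R * polyProd (u3_h q ζ) (cw (u3_h q ζ) (U q 1 b0)) C := by
  have hRL : R⁻¹ * L ∈ u3_UM hF := (u3_UM hF).mul_mem ((u3_UM hF).inv_mem hR) hL
  have h0 : mw_a (R⁻¹ * L) = 0 := by
    rw [mw_a_mul hF ((u3_UM hF).inv_mem hR) hL, mw_a_inv hF hR, ha, neg_add_cancel]
  obtain ⟨β, hβ, e2⟩ := mw_central_of_a_zero hF hRL h0
  obtain ⟨C, hC⟩ := (fld_imag_line (p := p) hF ζ hζ (mw_gamma_ne_zero hF hq ζ hζ)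
    (mw_gamma_imag hF ζ) β).1 hβ
  refine ⟨C, ?_⟩
  rw [mw_cw0 hF, mw_polyProd_central hF, ← hC, ← e2]
  group

/-- polynomial words are in the subgroup generated by `u`, `h` -/
theorem mw_polyProd_mem_closure {G : Type*} [Group G] (u h : G) (P : (ZMod p)[X]) :
    polyProd h u P ∈ Subgroup.closure ({u, h} : Set G) := by
  unfold polyProd
  apply Subgroup.list_prod_mem
  intro x hx
  rw [List.mem_map] at hx
  obtain ⟨i, _, rfl⟩ := hx
  apply Subgroup.pow_mem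
  unfold cj
  have hu : u ∈ Subgroup.closure ({u, h} : Set G) := Subgroup.subset_closure (by simp)
  have hh : h ∈ Subgroup.closure ({u, h} : Set G) := Subgroup.subset_closure (by simp)
  exact Subgroup.mul_mem _ (Subgroup.mul_mem _ (Subgroup.zpow_mem _ hh _) hu)
    (Subgroup.zpow_mem _ hh _)

end poly

/-- (e): `uM = U 1 b₀` and `h(ζ)` generate the Borel subgroup -/
theorem mw_gen0 (p : ℕ) [Fact p.Prime] [Algebra (ZMod p) F]
    (hF : Fintype.card F = q ^ 2) (hq : 2 < q) (ζ : Fˣ)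
    (hζ : ∀ a : Fˣ, a ∈ Subgroup.zpowers ζ) (b0 : F) (hb0 : u3_cond q 1 b0) :
    Subgroup.closure ({U q 1 b0, u3_h q ζ} : Set (SpecialLinearGroup (Fin 3) F)) = u3_BM hF := by
  apply le_antisymm
  · rw [Subgroup.closure_le]
    rintro x (rfl | rfl)
    · exact u3_UM_le_BM hF ⟨1, b0, hb0, rfl⟩
    · exact u3_HM_le_BM hF ((u3_mem_HM _).2 ⟨ζ, rfl⟩)
  · rintro _ ⟨a, b, z, hab, rfl⟩
    have hu : U q 1 b0 ∈ Subgroup.closure
        ({U q 1 b0, u3_h q ζ} : Set (SpecialLinearGroup (Fin 3) F)) :=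
      Subgroup.subset_closure (by simp)
    have hh : u3_h q ζ ∈ Subgroup.closure
        ({U q 1 b0, u3_h q ζ} : Set (SpecialLinearGroup (Fin 3) F)) :=
      Subgroup.subset_closure (by simp)
    apply Subgroup.mul_mem
    · obtain ⟨A, C, e⟩ := mw_surj0 (p := p) hF hq ζ hζ b0 hb0 hab
      rw [← e]
      unfold uword
      apply Subgroup.mul_mem
      · exact mw_polyProd_mem_closure _ _ A
      · have hcw : cw (u3_h q ζ) (U q 1 b0) ∈ Subgroup.closure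
            ({U q 1 b0, u3_h q ζ} : Set (SpecialLinearGroup (Fin 3) F)) := by
          unfold cw cj
          simp only [zpow_one, _root_.zpow_neg]
          exact Subgroup.mul_mem _ (Subgroup.mul_mem _ (Subgroup.mul_mem _ hu
            (Subgroup.mul_mem _ (Subgroup.mul_mem _ hh hu) (Subgroup.inv_mem _ hh)))
            (Subgroup.inv_mem _ hu))
            (Subgroup.inv_mem _ (Subgroup.mul_mem _ (Subgroup.mul_mem _ hh hu)
              (Subgroup.inv_mem _ hh)))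
        have := mw_polyProd_mem_closure (cw (u3_h q ζ) (U q 1 b0)) (u3_h q ζ) C
        refine (Subgroup.closure_le _).2 ?_ this
        rintro x (rfl | rfl)
        · exact hcw
        · exact hh
    · obtain ⟨k, rfl⟩ := Subgroup.mem_zpowers_iff.1 (hζ z)
      rw [u3_h_zpow]
      exact Subgroup.zpow_mem _ hh _

end modelwords

end Cfsg.Agent.SU3Pres
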