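import Mathlib
import Cfsg.Agent.SU3Pres.H5_ModelWords

/-!
# S2289 swarm, piece `ModelWords` (helper5): the matrix side of the words, with the names and shapes of
helper1's stubs part 3 (`notes/S2289_stubs3.lean.txt`); proofs and the more general `a`-coordinate calculus
(`mw_a`, `mw_a_mul`, `mw_a_cj`, `mw_a_polyProd`, `mw_cj_U`, `mw_eq_mod_central`, …) are in `H5_ModelWords.lean`.
-/

set_option autoImplicit false

namespace Cfsg.Agent.SU3Pres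

open Matrix Cfsg Cfsg.Agent.SU3G Cfsg.Agent.SL2Pres Polynomial

variable {F : Type*} [Field F] [Fintype F] {q : ℕ} {p : ℕ} [Fact p.Prime] [Algebra (ZMod p) F]

omit [Fintype F] in
/-- `b₀ + b₀^q = −1` is the unitary condition for `U(1, b₀)` -/
theorem mw_cond_of {b0 : F} (hb0 : b0 + b0 ^ q = -1) : u3_cond q 1 b0 := by
  unfold u3_cond
  rw [one_pow, mul_one, hb0, neg_add_cancel]

/-- (a) the a-coordinate of a polynomial word -/
theorem mw_polyProd_U (hF : Fintype.card F = q ^ 2) (ζ : Fˣ) (a b : F) (hab : u3_cond q a b)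
    (P : (ZMod p)[X]) :
    ∃ b' : F, u3_cond q (aeval (fld_g1 q ζ) P * a) b' ∧
      polyProd (u3_h q ζ) (U q a b) P = U q (aeval (fld_g1 q ζ) P * a) b' :=
  mw_polyProd_U0 hF ζ hab P

/-- (b) central polynomial words -/
theorem mw_polyProd_Z (hF : Fintype.card F = q ^ 2) (ζ : Fˣ) (β : F) (P : (ZMod p)[X]) :
    polyProd (u3_h q ζ) (U q 0 β) P = U q 0 (aeval (fld_g2 q ζ) P * β) :=
  mw_polyProd_central hF ζ β P

/-- (c) the commutator word in the model -/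
theorem mw_cw (hF : Fintype.card F = q ^ 2) (ζ : Fˣ) (b0 : F) (hb0 : b0 + b0 ^ q = -1) :
    cw (u3_h q ζ) (U q 1 b0) = U q 0 (fld_g1 q ζ - fld_g1 q ζ ^ q) :=
  mw_cw0 hF ζ b0

theorem mw_gamma0_ne (hF : Fintype.card F = q ^ 2) (hq : 3 ≤ q) (ζ : Fˣ)
    (hζ : ∀ x : Fˣ, x ∈ Subgroup.zpowers ζ) : fld_g1 q ζ - fld_g1 q ζ ^ q ≠ 0 :=
  mw_gamma_ne_zero hF hq ζ hζ

/-- (d) every element of `UM` is a word `uword` -/
theorem mw_surj (hF : Fintype.card F = q ^ 2) (hq : 3 ≤ q) (ζ : Fˣ) (hζ : ∀ x : Fˣ, x ∈ Subgroup.zpowers ζ)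
    (b0 : F) (hb0 : b0 + b0 ^ q = -1) (a b : F) (hab : u3_cond q a b) :
    ∃ A C : (ZMod p)[X], uword (U q 1 b0) (u3_h q ζ) A C = U q a b :=
  mw_surj0 hF hq ζ hζ b0 (mw_cond_of hb0) hab

/-- (e) generation of `BM` -/
theorem mw_gen (hF : Fintype.card F = q ^ 2) (hq : 3 ≤ q) (ζ : Fˣ) (hζ : ∀ x : Fˣ, x ∈ Subgroup.zpowers ζ)
    (b0 : F) (hb0 : b0 + b0 ^ q = -1) :
    Subgroup.closure ({U q 1 b0, u3_h q ζ} : Set (SpecialLinearGroup (Fin 3) F)) = u3_BM hF := by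
  obtain ⟨p', hp'⟩ := CharP.exists F
  haveI := hp'
  haveI : Fact p'.Prime := ⟨CharP.char_is_prime F p'⟩
  letI : Algebra (ZMod p') F := ZMod.algebra F p'
  exact mw_gen0 p' hF hq ζ hζ b0 (mw_cond_of hb0)

/-- (f) two elements of `UM` with the same a-coordinate differ by a central word -/
theorem mw_central_fix (hF : Fintype.card F = q ^ 2) (hq : 3 ≤ q) (ζ : Fˣ)
    (hζ : ∀ x : Fˣ, x ∈ Subgroup.zpowers ζ) (b0 : F) (hb0 : b0 + b0 ^ q = -1) (a b b' : F)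
    (hab : u3_cond q a b) (hab' : u3_cond q a b') :
    ∃ C : (ZMod p)[X],
      U q a b = U q a b' * polyProd (u3_h q ζ) (cw (u3_h q ζ) (U q 1 b0)) C :=
  mw_eq_mod_central hF hq ζ hζ b0 ⟨a, b, hab, rfl⟩ ⟨a, b', hab', rfl⟩ (by rw [mw_a_U, mw_a_U])

end Cfsg.Agent.SU3Pres
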