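import Cfsg.Agent.SU3Pres.BorelCount
import Cfsg.Agent.SU3Pres.ModelWords

/-!
# Presentation of `SU₃(q)`: the presented Borel group (piece BorelPres, helper9)

The group presented by the Borel relators `bwords D q u h` and `h ^ (q² - 1)` is the Borel subgroup
`u3_BM` of the model; hence every pair `u h` of a group satisfying these relations is the image of the
model pair under a homomorphism `ρ : u3_BM →* G`.
-/

set_option autoImplicit false

namespace Cfsg.Agent.SU3Pres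

open Matrix Cfsg Cfsg.Agent.SU3G Cfsg.Agent.SL2Pres Polynomial

variable {F : Type*} [Field F] [Fintype F] {q : ℕ} {p : ℕ} [Fact p.Prime] [Algebra (ZMod p) F]

/-- `borel_card_le` for a pair satisfying `BRel`. -/
theorem bp_card_le (hF : Fintype.card F = q ^ 2) (hq : 4 ≤ q) (ζ : Fˣ)
    (hζ : ∀ x : Fˣ, x ∈ Subgroup.zpowers ζ)
    (D : BData p) (hm1 : D.m1 = minpoly (ZMod p) (fld_g1 q ζ))
    (hm2 : D.m2 = minpoly (ZMod p) (fld_g2 q ζ))
    {G : Type*} [Group G] (u h : G) (hG : BRel D q u h) (hord : h ^ (q ^ 2 - 1) = 1) :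
    Finite (Subgroup.closure ({u, h} : Set G)) ∧
      Nat.card (Subgroup.closure ({u, h} : Set G)) ≤ q ^ 3 * (q ^ 2 - 1) := by
  haveI : Fintype (fld_Fq p q ζ) := Fintype.ofFinite _
  have b3 : (∃ (k : ℤ) (P3 : (ZMod p)[X]), cj h u k = u * cj h u 1 * polyProd h (cw h u) P3) ∨
      (∃ (k : ℤ) (P22 P23 P3 : (ZMod p)[X]),
          u * cj h u 2 * u⁻¹ * (cj h u 2)⁻¹ = polyProd h (cw h u) P22 ∧
          u * cj h u 3 * u⁻¹ * (cj h u 3)⁻¹ = polyProd h (cw h u) P23 ∧
          cj h u k = cj h u 3 * cj h u 2 ^ 3 * cj h u 1 ^ 3 * u * polyProd h (cw h u) P3) := by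
    cases hc : D.cube
    · exact Or.inl ⟨D.k, D.P3, hG.b3l hc⟩
    · obtain ⟨e1, e2, e3⟩ := hG.b3c hc
      exact Or.inr ⟨D.k, D.P22, D.P23, D.P3, e1, e2, e3⟩
  have b4 : polyProd h u (minpoly (ZMod p) (fld_g1 q ζ)) = polyProd h (cw h u) D.P4 := by
    rw [← hm1]; exact hG.b4
  have b8 : polyProd h (cw h u) (minpoly (ZMod p) (fld_g2' p q ζ)) = 1 := by
    rw [fld_minpoly_g2', ← hm2]; exact hG.b8
  exact borel_card_le (F := F) (Fq := fld_Fq p q ζ) q (by omega) hF (fld_card_Fq hF ζ)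
    (fld_g1 q ζ) (fld_adjoin_g1 hF (by omega) ζ hζ) (fld_g2' p q ζ) (fld_adjoin_g2' q ζ)
    u h hord D.P1 D.P4 D.P7 D.Q0 D.Q1 D.Q2 D.k2 hG.b1 b3 b4 hG.c0 hG.c1 hG.c2 hG.c3 hG.c4 b8
    hG.b8' hG.b8''

/-- the relators of the Borel presentation -/
noncomputable def bpRels (D : BData p) (q : ℕ) : Set (FreeGroup (Fin 2)) :=
  {r | r ∈ bwords D q (FreeGroup.of 0) (FreeGroup.of 1) ++ [FreeGroup.of (1 : Fin 2) ^ (q ^ 2 - 1)]}

/-- a pair satisfying the relations gives a homomorphism from the presented group -/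
theorem bp_lift_rels (D : BData p) (q : ℕ) {G : Type*} [Group G] (u h : G) (hG : BRel D q u h)
    (hord : h ^ (q ^ 2 - 1) = 1) :
    ∀ r ∈ bpRels D q, FreeGroup.lift (![u, h] : Fin 2 → G) r = 1 := by
  intro r hr
  rw [bpRels, Set.mem_ofPred_eq, List.mem_append] at hr
  rcases hr with hr | hr
  · have h1 : FreeGroup.lift (![u, h] : Fin 2 → G) r ∈
        (bwords D q (FreeGroup.of 0) (FreeGroup.of 1)).map (FreeGroup.lift (![u, h] : Fin 2 → G)) :=
      List.mem_map_of_mem hr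
    rw [map_bwords, FreeGroup.lift_apply_of, FreeGroup.lift_apply_of] at h1
    exact (brel_iff D q u h).1 hG _ h1
  · rw [List.mem_singleton] at hr
    subst hr
    rw [map_pow, FreeGroup.lift_apply_of]
    exact hord

/-- the generators of the presented Borel group satisfy `BRel` -/
theorem bp_pres_brel (D : BData p) (q : ℕ) :
    BRel D q (PresentedGroup.of (rels := bpRels D q) 0) (PresentedGroup.of (rels := bpRels D q) 1) := by
  rw [brel_iff]
  intro r hr
  have e : bwords D q (PresentedGroup.of (rels := bpRels D q) 0)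
      (PresentedGroup.of (rels := bpRels D q) 1) =
      (bwords D q (FreeGroup.of 0) (FreeGroup.of 1)).map (PresentedGroup.mk (bpRels D q)) := by
    rw [map_bwords]; rfl
  rw [e, List.mem_map] at hr
  obtain ⟨r0, hr0, rfl⟩ := hr
  apply PresentedGroup.one_of_mem
  rw [bpRels, Set.mem_ofPred_eq, List.mem_append]
  exact Or.inl hr0

theorem bp_pres_hord (D : BData p) (q : ℕ) :
    (PresentedGroup.of (rels := bpRels D q) 1) ^ (q ^ 2 - 1) = 1 := by
  have : (PresentedGroup.of (rels := bpRels D q) 1) ^ (q ^ 2 - 1) =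
      PresentedGroup.mk (bpRels D q) (FreeGroup.of (1 : Fin 2) ^ (q ^ 2 - 1)) := by
    rw [map_pow]; rfl
  rw [this]
  apply PresentedGroup.one_of_mem
  rw [bpRels, Set.mem_ofPred_eq, List.mem_append]
  exact Or.inr (List.mem_singleton.2 rfl)

theorem bp_range_fin2 {G : Type*} (f : Fin 2 → G) : Set.range f = {f 0, f 1} := by
  ext x
  constructor
  · rintro ⟨i, rfl⟩
    fin_cases i
    · exact Or.inl rfl
    · exact Or.inr rfl
  · rintro (rfl | rfl)
    · exact ⟨0, rfl⟩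
    · exact ⟨1, rfl⟩

theorem bp_pres_gen (D : BData p) (q : ℕ) :
    Subgroup.closure ({PresentedGroup.of (rels := bpRels D q) 0,
      PresentedGroup.of (rels := bpRels D q) 1} : Set (PresentedGroup (bpRels D q))) = ⊤ := by
  rw [← bp_range_fin2 (PresentedGroup.of (rels := bpRels D q))]
  exact PresentedGroup.closure_range_of _

theorem bp_h_pow_card (hF : Fintype.card F = q ^ 2) (ζ : Fˣ) :
    (u3_h q ζ : SpecialLinearGroup (Fin 3) F) ^ (q ^ 2 - 1) = 1 := by
  rw [← u3_h_pow]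
  have : ζ ^ (q ^ 2 - 1) = 1 := by
    rw [← hF, ← Nat.card_eq_fintype_card, ← Nat.card_units]
    exact pow_card_eq_one'
  rw [this, u3_h_one]

/-- **the presented Borel group is `BM`, hence `ρ`.** -/
theorem exists_rho (hF : Fintype.card F = q ^ 2) (hq : 4 ≤ q) (ζ : Fˣ)
    (hζ : ∀ x : Fˣ, x ∈ Subgroup.zpowers ζ) (b0 : F) (hb0 : b0 + b0 ^ q = -1)
    (D : BData p) (hm1 : D.m1 = minpoly (ZMod p) (fld_g1 q ζ))
    (hm2 : D.m2 = minpoly (ZMod p) (fld_g2 q ζ))
    (hD : BRel D q (U q 1 b0) (u3_h q ζ))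
    {G : Type*} [Group G] (u h : G) (hG : BRel D q u h) (hord : h ^ (q ^ 2 - 1) = 1) :
    ∃ ρ : ↥(u3_BM hF) →* G,
      (∀ hu : U q 1 b0 ∈ u3_BM hF, ρ ⟨U q 1 b0, hu⟩ = u) ∧
      (∀ hh : u3_h q ζ ∈ u3_BM hF, ρ ⟨u3_h q ζ, hh⟩ = h) := by
  have hb0' : u3_cond q 1 b0 := by
    unfold u3_cond
    rw [hb0]; simp
  set P := PresentedGroup (bpRels D q) with hP
  set u' : P := PresentedGroup.of 0 with hu'
  set h' : P := PresentedGroup.of 1 with hh'
  -- the card bound
  obtain ⟨hfin, hcard⟩ := bp_card_le hF hq ζ hζ D hm1 hm2 u' h' (bp_pres_brel D q) (bp_pres_hord D q)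
  rw [bp_pres_gen D q] at hfin hcard
  haveI : Finite P := by
    have := hfin
    exact Finite.of_equiv _ (Subgroup.topEquiv (G := P)).toEquiv
  have hcardP : Nat.card P ≤ q ^ 3 * (q ^ 2 - 1) := by
    rw [← Nat.card_congr (Subgroup.topEquiv (G := P)).toEquiv]; exact hcard
  -- the hom onto BM
  set φ : P →* SpecialLinearGroup (Fin 3) F :=
    PresentedGroup.toGroup (f := ![U q 1 b0, u3_h q ζ])
      (bp_lift_rels D q _ _ hD (bp_h_pow_card hF ζ)) with hφ
  have hφu : φ u' = U q 1 b0 := by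
    rw [hφ, hu', PresentedGroup.toGroup.of]; rfl
  have hφh : φ h' = u3_h q ζ := by
    rw [hφ, hh', PresentedGroup.toGroup.of]; rfl
  have hrange : φ.range = u3_BM hF := by
    rw [MonoidHom.range_eq_map, ← bp_pres_gen D q, MonoidHom.map_closure, Set.image_pair, hφu, hφh]
    exact mw_gen0 p hF (by omega) ζ hζ b0 hb0'
  set φ' : P →* ↥(u3_BM hF) := φ.codRestrict (u3_BM hF) (fun x => by
    rw [← hrange]; exact ⟨x, rfl⟩) with hφ'
  have hsurj : Function.Surjective φ' := by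
    rintro ⟨y, hy⟩
    rw [← hrange] at hy
    obtain ⟨x, rfl⟩ := hy
    exact ⟨x, rfl⟩
  have hbij : Function.Bijective φ' :=
    hsurj.bijective_of_nat_card_le (by rw [u3_card_BM hF]; exact hcardP)
  set e : P ≃* ↥(u3_BM hF) := MulEquiv.ofBijective φ' hbij with he
  set ψ : P →* G := PresentedGroup.toGroup (f := ![u, h]) (bp_lift_rels D q u h hG hord) with hψ
  refine ⟨ψ.comp e.symm.toMonoidHom, ?_, ?_⟩
  · intro hu
    have : e.symm ⟨U q 1 b0, hu⟩ = u' := by
      rw [MulEquiv.symm_apply_eq]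
      exact Subtype.ext hφu.symm
    show ψ (e.symm ⟨U q 1 b0, hu⟩) = u
    rw [this, hψ, hu', PresentedGroup.toGroup.of]; rfl
  · intro hh
    have : e.symm ⟨u3_h q ζ, hh⟩ = h' := by
      rw [MulEquiv.symm_apply_eq]
      exact Subtype.ext hφh.symm
    show ψ (e.symm ⟨u3_h q ζ, hh⟩) = h
    rw [this, hψ, hh', PresentedGroup.toGroup.of]; rfl

end Cfsg.Agent.SU3Pres
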