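import Cfsg.Agent.SU3Pres.Hyp
import Cfsg.Agent.SU3Pres.H5_MatU5

set_option autoImplicit false
set_option linter.unusedSectionVars false

/-!
# S2289 piece SeedDef (helper1): the shared definition `SGood`

`SGood q ζ b0 S a b` : the data `S` of a rank-one relator evaluates, in the matrix model with generators
`uM = U q 1 b0`, `hM = u3_h q ζ`, to the rank-one identity `u3_rank_one` of `U q a b`.
-/

namespace Cfsg.Agent.SU3Pres

open Matrix Cfsg Cfsg.Agent.SU3G Cfsg.Agent.SL2Pres Polynomial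

variable {F : Type*} [Field F] [Fintype F] {p : ℕ}

/-- `S` evaluates in the model to the rank-one identity of `U(a,b)` -/
def SGood (q : ℕ) (ζ : Fˣ) (b0 : F) (S : SData p) (a b : F) : Prop :=
  b ≠ 0 ∧ u3_cond q a b ∧
    uword (U q 1 b0) (u3_h q ζ) S.A S.C = U q a b ∧
    uword (U q 1 b0) (u3_h q ζ) S.A1 S.C1 = U q (-a * (b ^ q)⁻¹) b⁻¹ ∧
    (ζ : F) ^ S.j = (b ^ q)⁻¹ ∧
    uword (U q 1 b0) (u3_h q ζ) S.A2 S.C2 = U q (-a * b⁻¹) b⁻¹

theorem SGood.ne_zero {q : ℕ} {ζ : Fˣ} {b0 : F} {S : SData p} {a b : F}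
    (h : SGood q ζ b0 S a b) : b ≠ 0 := h.1

theorem SGood.cond {q : ℕ} {ζ : Fˣ} {b0 : F} {S : SData p} {a b : F}
    (h : SGood q ζ b0 S a b) : u3_cond q a b := h.2.1

theorem SGood.x {q : ℕ} {ζ : Fˣ} {b0 : F} {S : SData p} {a b : F}
    (h : SGood q ζ b0 S a b) : uword (U q 1 b0) (u3_h q ζ) S.A S.C = U q a b := h.2.2.1

theorem SGood.x1 {q : ℕ} {ζ : Fˣ} {b0 : F} {S : SData p} {a b : F}
    (h : SGood q ζ b0 S a b) :
    uword (U q 1 b0) (u3_h q ζ) S.A1 S.C1 = U q (-a * (b ^ q)⁻¹) b⁻¹ := h.2.2.2.1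

theorem SGood.hj {q : ℕ} {ζ : Fˣ} {b0 : F} {S : SData p} {a b : F}
    (h : SGood q ζ b0 S a b) : (ζ : F) ^ S.j = (b ^ q)⁻¹ := h.2.2.2.2.1

theorem SGood.x2 {q : ℕ} {ζ : Fˣ} {b0 : F} {S : SData p} {a b : F}
    (h : SGood q ζ b0 S a b) :
    uword (U q 1 b0) (u3_h q ζ) S.A2 S.C2 = U q (-a * b⁻¹) b⁻¹ := h.2.2.2.2.2

/-- the torus factor of the rank-one identity is a power of `hM` -/
theorem SGood.h_pow {q : ℕ} {ζ : Fˣ} {b0 : F} {S : SData p} {a b : F}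
    (h : SGood q ζ b0 S a b) :
    u3_h q ζ ^ S.j = u3_h q (Units.mk0 (b ^ q)⁻¹ (inv_ne_zero (pow_ne_zero _ h.ne_zero))) := by
  rw [← u3_h_pow]
  congr 1
  apply Units.ext
  rw [Units.val_pow_eq_pow_val, Units.val_mk0]
  exact h.hj

/-- the relator holds in the model -/
theorem sgood_model {q : ℕ} (hF : Fintype.card F = q ^ 2) (ζ : Fˣ) (b0 : F) (S : SData p) (a b : F)
    (hS : SGood q ζ b0 S a b) :
    SRel S (U q 1 b0) (u3_h q ζ) (u3_t : SpecialLinearGroup (Fin 3) F) := by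
  unfold SRel
  rw [hS.x, hS.x1, hS.x2, hS.h_pow]
  exact u3_rank_one hF a b hS.ne_zero hS.cond

end Cfsg.Agent.SU3Pres
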