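import Cfsg.Agent.SU3Pres.GSide
import Cfsg.Agent.SU3Pres.SeedDef

/-!
# S2289 piece `GAsm` (helper6): the `G̃`-side assembly

* `sgood_gsK` : a good seed datum (`SGood`, `SeedDef.lean`) whose relation `SRel S u h t` holds in
  `G̃` gives `gs_K hF ρ t a b` (stubs part 3 of helper1, plus the hypothesis `hb0` which is needed
  for `U q 1 b0 ∈ BM`);
* `compat_of_n` : `n1`, `n2` give `R1Compat` (stubs part 3 verbatim);
* `sgood_model_rrel` : the rank-one relations hold in the model;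
* `ga_card_le` : from `ρ : BM →* G̃` with `ρ uM = u`, `ρ hM = h` (output of `exists_rho`),
  `RRel Ss q u h t`, generation by `u, h, t` and good seed data for `(0, c0)` and
  `(ζ^i, N(ζ^i) bs)`, `i < 3`: `|G̃| ≤ q³(q²−1)(1+q³)`.
-/

set_option autoImplicit false

namespace Cfsg.Agent.SU3Pres

open Matrix Cfsg Cfsg.Agent.SU3G Cfsg.Agent.SL2Pres Polynomial

variable {F : Type*} [Field F] [Fintype F] {q : ℕ} {p : ℕ}

/-- `u3_h q ζ ^ j = u3_h q (1/b̄)` -/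
theorem sd_h_pow (ζ : Fˣ) (j : ℕ) (b : F) (hb : b ≠ 0) (ej : (ζ : F) ^ j = (b ^ q)⁻¹) :
    (u3_h q ζ : SpecialLinearGroup (Fin 3) F) ^ j =
      u3_h q (Units.mk0 (b ^ q)⁻¹ (inv_ne_zero (pow_ne_zero _ hb))) := by
  rw [← u3_h_pow]
  congr 1
  apply Units.ext
  rw [Units.val_pow_eq_pow_val]
  exact ej

/-- the rank-one relations hold in the model as soon as every seed datum is good -/
theorem sgood_model_rrel (hF : Fintype.card F = q ^ 2) (ζ : Fˣ) (b0 : F) (Ss : List (SData p))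
    (hSs : ∀ S ∈ Ss, ∃ a b : F, SGood q ζ b0 S a b) :
    RRel Ss q (U q 1 b0) (u3_h q ζ) (u3_t : SpecialLinearGroup (Fin 3) F) := by
  refine ⟨?_, u3_t_sq, ?_⟩
  · rw [u3_t_inv, u3_t_h hF, ← u3_h_pow, ← u3_h_inv]
  · intro S hS
    obtain ⟨a, b, hab⟩ := hSs S hS
    exact sgood_model hF ζ b0 S a b hab

section gside

variable {G : Type*} [Group G]

/-- `r1_ext` on an element of the Borel subgroup -/
theorem sd_ext_coe (hF : Fintype.card F = q ^ 2) (ρ : ↥(u3_model hF).B →* G)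
    (x : ↥(u3_model hF).B) :
    r1_ext (u3_model hF) ρ (x : SpecialLinearGroup (Fin 3) F) = ρ x := by
  rw [gs_ext_mem hF ρ x.2]

/-- `ρ` of a unipotent word -/
theorem sd_ext_uword (hF : Fintype.card F = q ^ 2) (ρ : ↥(u3_model hF).B →* G)
    (uB hB : ↥(u3_model hF).B) (A C : (ZMod p)[X]) :
    r1_ext (u3_model hF) ρ
        (uword (uB : SpecialLinearGroup (Fin 3) F) (hB : SpecialLinearGroup (Fin 3) F) A C) =
      uword (ρ uB) (ρ hB) A C := by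
  have e : uword (uB : SpecialLinearGroup (Fin 3) F) (hB : SpecialLinearGroup (Fin 3) F) A C =
      ((uword uB hB A C : ↥(u3_model hF).B) : SpecialLinearGroup (Fin 3) F) :=
    (map_uword (u3_model hF).B.subtype uB hB A C).symm
  rw [e, sd_ext_coe, map_uword]

theorem sd_ext_pow (hF : Fintype.card F = q ^ 2) (ρ : ↥(u3_model hF).B →* G)
    (hB : ↥(u3_model hF).B) (n : ℕ) :
    r1_ext (u3_model hF) ρ ((hB : SpecialLinearGroup (Fin 3) F) ^ n) = ρ hB ^ n := by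
  have e : (hB : SpecialLinearGroup (Fin 3) F) ^ n =
      ((hB ^ n : ↥(u3_model hF).B) : SpecialLinearGroup (Fin 3) F) := rfl
  rw [e, sd_ext_coe, map_pow]

theorem sd_ext_zpow (hF : Fintype.card F = q ^ 2) (ρ : ↥(u3_model hF).B →* G)
    (hB : ↥(u3_model hF).B) (n : ℤ) :
    r1_ext (u3_model hF) ρ ((hB : SpecialLinearGroup (Fin 3) F) ^ n) = ρ hB ^ n := by
  have e : (hB : SpecialLinearGroup (Fin 3) F) ^ n =
      ((hB ^ n : ↥(u3_model hF).B) : SpecialLinearGroup (Fin 3) F) := rfl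
  rw [e, sd_ext_coe, map_zpow]

/-- a seed relation in `G̃` gives `gs_K` (subtype form) -/
theorem sd_K_of_srel (hF : Fintype.card F = q ^ 2) (ρ : ↥(u3_model hF).B →* G) (t : G)
    (b0 : F) (ζ : Fˣ) (uB hB : ↥(u3_model hF).B)
    (huB : (uB : SpecialLinearGroup (Fin 3) F) = U q 1 b0)
    (hhB : (hB : SpecialLinearGroup (Fin 3) F) = u3_h q ζ)
    (S : SData p) (a b : F) (hS : SGood q ζ b0 S a b) (hrel : SRel S (ρ uB) (ρ hB) t) :
    gs_K hF ρ t a b := by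
  obtain ⟨hb, hab', e0, e1, ej, e2⟩ := hS
  have hab : Ucond q a b := hab'
  rw [gs_K_iff hF ρ t a b hab hb]
  have hy1 : Ucond q (-a * (b ^ q)⁻¹) b⁻¹ := u3_cond_x1 hF a b hb hab
  have m1 : U q (-a * (b ^ q)⁻¹) b⁻¹ ∈ (u3_model hF).B :=
    (u3_model hF).U_le (gs_U_mem hF hy1)
  have m2 : u3_h q (Units.mk0 (b ^ q)⁻¹ (inv_ne_zero (pow_ne_zero _ hb))) ∈ (u3_model hF).B :=
    (u3_model hF).H_le (gs_h_mem hF _)
  rw [h6r_ext_mul (u3_model hF) ρ m1 m2, ← e0, ← e1, ← e2,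
    ← sd_h_pow ζ S.j b hb ej, ← huB, ← hhB, sd_ext_uword, sd_ext_uword, sd_ext_uword,
    sd_ext_pow]
  exact hrel

/-- compatibility with the torus from `n1`, `n2` (subtype form) -/
theorem sd_compat (hF : Fintype.card F = q ^ 2) (ρ : ↥(u3_model hF).B →* G) (t : G)
    (ζ : Fˣ) (hζ : ∀ x : Fˣ, x ∈ Subgroup.zpowers ζ) (hB : ↥(u3_model hF).B)
    (hhB : (hB : SpecialLinearGroup (Fin 3) F) = u3_h q ζ)
    (n1 : t * ρ hB * t⁻¹ = (ρ hB ^ q)⁻¹) (n2 : t * t = 1) :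
    R1Compat (u3_model hF) ρ t := by
  rw [gs_compat_iff]
  refine ⟨n2, ?_⟩
  intro z
  obtain ⟨k, rfl⟩ := Subgroup.mem_zpowers_iff.1 (hζ z)
  have ht : t⁻¹ = t := inv_eq_of_mul_eq_one_left n2
  have e1 : u3_h q (ζ ^ k) = (hB : SpecialLinearGroup (Fin 3) F) ^ k := by
    rw [hhB, u3_h_zpow]
  have e2 : u3_h q (((ζ ^ k) ^ q)⁻¹) = (hB : SpecialLinearGroup (Fin 3) F) ^ (-(k * (q : ℤ))) := by
    rw [hhB, ← u3_h_zpow]
    congr 1
    rw [_root_.zpow_neg, _root_.zpow_mul, zpow_natCast]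
  rw [e1, e2, sd_ext_zpow, sd_ext_zpow]
  have e3 : t * ρ hB ^ k * t = (t * ρ hB * t⁻¹) ^ k := by
    rw [conj_zpow, ht]
  rw [e3, n1, ← zpow_natCast, ← _root_.zpow_neg, ← _root_.zpow_mul]
  congr 1
  ring

/-- membership of the model generators in `BM` -/
theorem sd_uM_mem (hF : Fintype.card F = q ^ 2) (b0 : F) (hb0 : b0 + b0 ^ q = -1) :
    U q 1 b0 ∈ u3_BM hF := by
  apply u3_UM_le_BM hF
  refine ⟨1, b0, ?_, rfl⟩
  show b0 + b0 ^ q + 1 * 1 ^ q = 0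
  rw [hb0, one_pow, mul_one]
  ring

theorem sd_hM_mem (hF : Fintype.card F = q ^ 2) (ζ : Fˣ) : u3_h q ζ ∈ u3_BM hF :=
  u3_HM_le_BM hF ((u3_mem_HM _).2 ⟨ζ, rfl⟩)

/-- G-side: a seed relation in `G̃` gives `gs_K` -/
theorem sgood_gsK (hF : Fintype.card F = q ^ 2) (ζ : Fˣ) (b0 : F) (hb0 : b0 + b0 ^ q = -1)
    (S : SData p) (a b : F)
    (hS : SGood q ζ b0 S a b) {G : Type*} [Group G] (ρ : ↥(u3_model hF).B →* G) (u h t : G)
    (hu : ∀ hu : U q 1 b0 ∈ u3_BM hF, ρ ⟨U q 1 b0, hu⟩ = u)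
    (hh : ∀ hh : u3_h q ζ ∈ u3_BM hF, ρ ⟨u3_h q ζ, hh⟩ = h)
    (hrel : SRel S u h t) : gs_K hF ρ t a b := by
  have hu' := hu (sd_uM_mem hF b0 hb0)
  have hh' := hh (sd_hM_mem hF ζ)
  refine sd_K_of_srel hF ρ t b0 ζ ⟨U q 1 b0, sd_uM_mem hF b0 hb0⟩ ⟨u3_h q ζ, sd_hM_mem hF ζ⟩
    rfl rfl S a b hS ?_
  rw [hu', hh']
  exact hrel

/-- G-side: `n1`, `n2` give `R1Compat` -/
theorem compat_of_n (hF : Fintype.card F = q ^ 2) (ζ : Fˣ)
    (hζ : ∀ x : Fˣ, x ∈ Subgroup.zpowers ζ) {G : Type*} [Group G]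
    (ρ : ↥(u3_model hF).B →* G) (h t : G)
    (hh : ∀ hh : u3_h q ζ ∈ u3_BM hF, ρ ⟨u3_h q ζ, hh⟩ = h)
    (n1 : t * h * t⁻¹ = (h ^ q)⁻¹) (n2 : t * t = 1) : R1Compat (u3_model hF) ρ t := by
  have hh' := hh (sd_hM_mem hF ζ)
  refine sd_compat hF ρ t ζ hζ ⟨u3_h q ζ, sd_hM_mem hF ζ⟩ rfl ?_ n2
  rw [hh']
  exact n1

end gside

section gasm

variable {G : Type*} [Group G]

/-- generation -/
theorem ga_gen (hF : Fintype.card F = q ^ 2) (ρ : ↥(u3_model hF).B →* G) (t : G)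
    (uB hB : ↥(u3_model hF).B)
    (hgen : Subgroup.closure ({ρ uB, ρ hB, t} : Set G) = ⊤) :
    Subgroup.closure (Set.range ρ ∪ {t}) = ⊤ := by
  rw [eq_top_iff, ← hgen]
  apply Subgroup.closure_mono
  rintro x (rfl | rfl | rfl)
  · exact Or.inl ⟨uB, rfl⟩
  · exact Or.inl ⟨hB, rfl⟩
  · exact Or.inr rfl

/-- **`G̃`-side assembly.** -/
theorem ga_card_le (hF : Fintype.card F = q ^ 2) (ζ : Fˣ)
    (hζ : ∀ x : Fˣ, x ∈ Subgroup.zpowers ζ) (b0 : F) (hb0 : b0 + b0 ^ q = -1)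
    (ρ : ↥(u3_BM hF) →* G) (u h t : G)
    (hu : ∀ hu : U q 1 b0 ∈ u3_BM hF, ρ ⟨U q 1 b0, hu⟩ = u)
    (hh : ∀ hh : u3_h q ζ ∈ u3_BM hF, ρ ⟨u3_h q ζ, hh⟩ = h)
    (hgen : Subgroup.closure ({u, h, t} : Set G) = ⊤)
    (Ss : List (SData p)) (hR : RRel Ss q u h t)
    (c0 : F) (h0 : ∃ S ∈ Ss, SGood q ζ b0 S 0 c0)
    (bs : F) (hbs : bs + bs ^ q = -1)
    (hω : ∀ ω : F, ω ^ (q + 1) = 1 → ∃ n : ℕ, ω = (-(bs / bs ^ q)) ^ n)
    (hseed : ∀ i : ℕ, i < 3 →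
      ∃ S ∈ Ss, SGood q ζ b0 S ((ζ : F) ^ i) ((ζ : F) ^ i * ((ζ : F) ^ i) ^ q * bs)) :
    Finite G ∧ Nat.card G ≤ q ^ 3 * (q ^ 2 - 1) * (1 + q ^ 3) := by
  obtain ⟨S0, hS0m, hS0⟩ := h0
  have hu' := hu (sd_uM_mem hF b0 hb0)
  have hh' := hh (sd_hM_mem hF ζ)
  have hc : R1Compat (u3_model hF) ρ t := compat_of_n hF ζ hζ ρ h t hh hR.n1 hR.n2
  have hc0' : c0 + c0 ^ q = 0 := by
    have := hS0.2.1
    unfold u3_cond at this
    rwa [zero_mul, add_zero] at this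
  have hgen' : Subgroup.closure (Set.range ρ ∪ {t}) = ⊤ := by
    rw [eq_top_iff, ← hgen]
    apply Subgroup.closure_mono
    rintro x (rfl | rfl | rfl)
    · exact Or.inl ⟨⟨U q 1 b0, sd_uM_mem hF b0 hb0⟩, hu'⟩
    · exact Or.inl ⟨⟨u3_h q ζ, sd_hM_mem hF ζ⟩, hh'⟩
    · exact Or.inr rfl
  refine gs_main hF ρ t hc hgen' ζ hζ c0 hS0.1 hc0'
    (sgood_gsK hF ζ b0 hb0 S0 0 c0 hS0 ρ u h t hu hh (hR.seeds S0 hS0m)) bs hbs hω ?_
  intro i hi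
  obtain ⟨S, hSm, hS⟩ := hseed i hi
  exact sgood_gsK hF ζ b0 hb0 S _ _ hS ρ u h t hu hh (hR.seeds S hSm)

end gasm

end Cfsg.Agent.SU3Pres
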