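import Mathlib
import Cfsg.Agent.SU3G.H1_NTIface

/-!
# S2289 swarm, piece (i) (helper4): the `ω`-induction for the rank-one relations of `SU_3(q)`

Model: `F` a field with `q ^ 2` elements, `x̄ = x ^ q`; the unipotent elements are the pairs `(a, b)` with
`b + b̄ + a ā = 0` (`h4o_U q a b`), multiplied by `(a,b)(a',b') = (a + a', b + b' - a ā')`; the torus
element `h(z)` acts by `(a, b) ↦ (z² / z̄ · a, z z̄ · b)`.  The invariant `ω(a,b) = -b / b̄` (for `b ≠ 0`)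
has norm one, is constant on torus orbits and is `1` exactly on the centre `a = 0`.

`R : F → F → Prop` is an abstract predicate ("the rank-one relation holds for `u(a,b)`").  The bootstrap
rule for a central left factor `x = (0,c)` and `y = (a,b)` reads

  `R 0 c → R a b → R (-a / b̄) (1 / c + 1 / b) → R a (b + c)`    (`x₂ y₁ = (-a / b̄, 1/c + 1/b)`).

* `h4o_mul_closed`: the set of `ω` on whose whole fibre `R` holds is closed under products.
* `h4o_induction`: if `R` holds on the centre and on the whole fibre of an `ω₀` generating the norm-one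
  group, then `R` holds on all `(a, b)`, `b ≠ 0`.
* `h4o_central_of_seed`, `h4o_fibre_of_seeds`: the centre and a whole fibre from seeds and torus stability.
* `h4o_main`: everything together.
-/

set_option autoImplicit false

namespace Cfsg.Agent.SU3Pres

open Cfsg.Agent.SU3G Cfsg.Agent.SL3G

variable {F : Type*} [Field F] [Fintype F] {q : ℕ}

/-- `(a, b)` are the coordinates of an element of the unipotent radical -/
def h4o_U (q : ℕ) (a b : F) : Prop := b + b ^ q + a * a ^ q = 0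

/-- `R` holds on the whole fibre of `ω` -/
def h4o_K (q : ℕ) (R : F → F → Prop) (ω : F) : Prop :=
  ∀ a b : F, b ≠ 0 → h4o_U q a b → -b / b ^ q = ω → R a b

/-- the bootstrap rule with a central left factor (written with divisions) -/
def h4o_BootD (q : ℕ) (R : F → F → Prop) : Prop :=
  ∀ c a b : F, c ≠ 0 → c + c ^ q = 0 → b ≠ 0 → h4o_U q a b → b + c ≠ 0 →
    R 0 c → R a b → R (-a / b ^ q) (1 / c + 1 / b) → R a (b + c)

/-- stability under the torus (written with divisions) -/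
def h4o_StabD (q : ℕ) (R : F → F → Prop) : Prop :=
  ∀ z a b : F, z ≠ 0 → h4o_U q a b → R a b → R (z ^ 2 / z ^ q * a) (z * z ^ q * b)

/-- the bootstrap rule with a central left factor `x = (0,c)`, `y = (a,b)`:
`x₂ y₁ = (-a * (b̄)⁻¹, c⁻¹ + b⁻¹)` and `x y = (a, b + c)` -/
def h4o_Boot (q : ℕ) (R : F → F → Prop) : Prop :=
  ∀ c a b : F, c ≠ 0 → c + c ^ q = 0 → b ≠ 0 → h4o_U q a b → b + c ≠ 0 →
    R 0 c → R a b → R (-a * (b ^ q)⁻¹) (c⁻¹ + b⁻¹) → R a (b + c)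

/-- stability under the torus: `h(z) u(a,b) h(z)⁻¹ = u(z² (z̄)⁻¹ a, z z̄ b)` -/
def h4o_Stab (q : ℕ) (R : F → F → Prop) : Prop :=
  ∀ z a b : F, z ≠ 0 → h4o_U q a b → R a b → R (z ^ 2 * (z ^ q)⁻¹ * a) (z * z ^ q * b)

omit [Fintype F] in
theorem h4o_Boot_iff (R : F → F → Prop) : h4o_Boot q R ↔ h4o_BootD q R := by
  unfold h4o_Boot h4o_BootD
  simp only [div_eq_mul_inv, one_mul]

omit [Fintype F] in
theorem h4o_Stab_iff (R : F → F → Prop) : h4o_Stab q R ↔ h4o_StabD q R := by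
  unfold h4o_Stab h4o_StabD
  simp only [div_eq_mul_inv]

theorem h4o_q_ne_zero (hF : Fintype.card F = q ^ 2) : q ≠ 0 := by
  have := h1_su_two_le hF; omega

omit [Fintype F] in
theorem h4o_pow_ne_zero {x : F} (hx : x ≠ 0) : x ^ q ≠ 0 := pow_ne_zero q hx

omit [Fintype F] in
theorem h4o_inv_pow (x : F) : (x⁻¹) ^ q = (x ^ q)⁻¹ := inv_pow x q

omit [Fintype F] in
theorem h4o_div_pow (x y : F) : (x / y) ^ q = x ^ q / y ^ q := div_pow x y q

/-- `b = 0` forces `a = 0` -/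
theorem h4o_a_eq_zero {a : F} (h : h4o_U q a 0) (hF : Fintype.card F = q ^ 2) : a = 0 := by
  unfold h4o_U at h
  rw [zero_pow (h4o_q_ne_zero hF), add_zero, zero_add, ← pow_succ'] at h
  exact pow_eq_zero_iff (by omega) |>.1 h

/-- `ω(a,b)` has norm one -/
theorem h4o_omega_norm (hF : Fintype.card F = q ^ 2) {b : F} (hb : b ≠ 0) :
    (-b / b ^ q) * (-b / b ^ q) ^ q = 1 := by
  have hbq : b ^ q ≠ 0 := pow_ne_zero q hb
  rw [div_pow, h1_su_neg_pow q hF, h1_su_frob q hF]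
  field_simp

theorem h4o_omega_pow (hF : Fintype.card F = q ^ 2) {b : F} (hb : b ≠ 0) :
    (-b / b ^ q) ^ (q + 1) = 1 := by
  rw [pow_succ']; exact h4o_omega_norm hF hb

omit [Fintype F] in
/-- the centre is the fibre of `1` -/
theorem h4o_K_one {R : F → F → Prop}
    (hcen : ∀ c : F, c ≠ 0 → c + c ^ q = 0 → R 0 c) : h4o_K q R 1 := by
  intro a b hb hU hω
  have hbq : b ^ q ≠ 0 := pow_ne_zero q hb
  have h1 : b + b ^ q = 0 := by
    field_simp at hω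
    linear_combination -hω
  have ha : a = 0 := by
    unfold h4o_U at hU
    rw [h1, zero_add, ← pow_succ'] at hU
    exact pow_eq_zero_iff (by omega) |>.1 hU
  subst ha
  exact hcen b hb h1

/-- **closure under products** of the set of good `ω` -/
theorem h4o_mul_closed (hF : Fintype.card F = q ^ 2) {R : F → F → Prop} (hboot : h4o_BootD q R)
    (hcen : ∀ c : F, c ≠ 0 → c + c ^ q = 0 → R 0 c) {ω ω' : F} (hω1 : ω ≠ 1) (hω'1 : ω' ≠ 1)
    (hωn : ω * ω ^ q = 1) (hK : h4o_K q R ω) (hK' : h4o_K q R ω') : h4o_K q R (ω * ω') := by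
  intro a b hb hU hωb
  have hbq : b ^ q ≠ 0 := pow_ne_zero q hb
  have hω0 : ω ≠ 0 := by rintro rfl; simp at hωn
  have hωq : ω ^ q = ω⁻¹ := eq_inv_of_mul_eq_one_right hωn
  have h1ω : 1 - ω ≠ 0 := fun h => hω1 (by linear_combination -h)
  by_cases ha : a = 0
  · subst ha
    have h1 : b + b ^ q = 0 := by
      have := hU; unfold h4o_U at this
      rw [zero_mul, add_zero] at this; exact this
    exact hcen b hb h1
  -- the non-central case
  have haq : a ^ q ≠ 0 := pow_ne_zero q ha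
  have htr : b + b ^ q ≠ 0 := by
    intro h
    have := hU; unfold h4o_U at this
    rw [h, zero_add] at this
    exact (mul_ne_zero ha haq) this
  -- `b = -ω ω' b̄`
  have hb' : b = -(ω * ω') * b ^ q := by
    field_simp at hωb
    linear_combination -hωb
  obtain ⟨c, hc⟩ : ∃ c : F, c = (b + ω * b ^ q) / (1 - ω) := ⟨_, rfl⟩
  obtain ⟨β, hβ⟩ : ∃ β : F, β = -ω * (b + b ^ q) / (1 - ω) := ⟨_, rfl⟩
  have hβc : β + c = b := by
    rw [hc, hβ]; field_simp; ring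
  have hcq : c ^ q = -c := by
    rw [hc, div_pow, h1_su_add_pow q hF, mul_pow, h1_su_frob q hF, h1_su_sub_pow q hF, one_pow, hωq]
    field_simp
    ring
  have hc0 : c ≠ 0 := by
    rw [hc]
    apply div_ne_zero _ h1ω
    intro h
    -- `b + ω b̄ = 0` and `b = -ω ω' b̄` give `ω' = 1`
    apply hω'1
    have h2 : ω * b ^ q * (1 - ω') = 0 := by linear_combination h - hb'
    rcases mul_eq_zero.1 h2 with h3 | h3
    · exact absurd h3 (mul_ne_zero hω0 hbq)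
    · linear_combination -h3
  have hβ0 : β ≠ 0 := by
    rw [hβ]
    exact div_ne_zero (mul_ne_zero (neg_ne_zero.2 hω0) htr) h1ω
  have hβq : β ^ q = (b + b ^ q) / (1 - ω) := by
    rw [hβ, div_pow, mul_pow, h1_su_neg_pow q hF, h1_su_add_pow q hF, h1_su_frob q hF,
      h1_su_sub_pow q hF, one_pow, hωq]
    field_simp
    ring
  have hβq0 : β ^ q ≠ 0 := pow_ne_zero q hβ0
  have hUβ : h4o_U q a β := by
    unfold h4o_U
    have := hU; unfold h4o_U at this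
    have e : β + β ^ q = b + b ^ q := by
      rw [hβq, hβ]; field_simp; ring
    rw [e]; exact this
  have hωβ : -β / β ^ q = ω := by
    rw [hβq, hβ]; field_simp
  have hR0 : R 0 c := hcen c hc0 (by rw [hcq]; ring)
  have hRy : R a β := hK a β hβ0 hUβ hωβ
  -- the third factor
  have hb2 : (1 / c + 1 / β) = b / (c * β) := by
    rw [← hβc]; field_simp
  have hb20 : (1 / c + 1 / β) ≠ 0 := by
    rw [hb2]; exact div_ne_zero hb (mul_ne_zero hc0 hβ0)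
  have hb2q : (1 / c + 1 / β) ^ q = -(b ^ q) / (c * β ^ q) := by
    rw [hb2, div_pow, mul_pow, hcq]; field_simp
  have hU2 : h4o_U q (-a / β ^ q) (1 / c + 1 / β) := by
    unfold h4o_U
    have hUβ' := hUβ; unfold h4o_U at hUβ'
    have e1 : (1 / c + 1 / β) ^ q = -(1 / c) + 1 / β ^ q := by
      rw [h1_su_add_pow q hF, div_pow, div_pow, one_pow, hcq]; field_simp
    have e2 : (-a / β ^ q) ^ q = -(a ^ q) / β := by
      rw [div_pow, h1_su_neg_pow q hF, h1_su_frob q hF]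
    rw [e1, e2]
    have e3 : 1 / c + 1 / β + (-(1 / c) + 1 / β ^ q) + -a / β ^ q * (-(a ^ q) / β) =
        (β + β ^ q + a * a ^ q) / (β * β ^ q) := by
      field_simp; ring
    rw [e3, hUβ', zero_div]
  have hω2 : -(1 / c + 1 / β) / (1 / c + 1 / β) ^ q = ω' := by
    rw [hb2q, hb2]
    have e1 : β ^ q * ω = -β := by
      rw [← hωβ]; field_simp
    have e2 : -(b / (c * β)) / (-(b ^ q) / (c * β ^ q)) = (b * β ^ q) / (β * b ^ q) := by
      field_simp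
    rw [e2, div_eq_iff (mul_ne_zero hβ0 hbq)]
    linear_combination (β ^ q) * hb' - (ω' * b ^ q) * e1
  have hR2 : R (-a / β ^ q) (1 / c + 1 / β) := hK' _ _ hb20 hU2 hω2
  have := hboot c a β hc0 (by rw [hcq]; ring) hβ0 hUβ (by rw [hβc]; exact hb) hR0 hRy hR2
  rwa [hβc] at this

/-- the set of good `ω` contains all powers of a good `ω₀` of norm one -/
theorem h4o_K_pow (hF : Fintype.card F = q ^ 2) {R : F → F → Prop} (hboot : h4o_BootD q R)
    (hcen : ∀ c : F, c ≠ 0 → c + c ^ q = 0 → R 0 c) {ω₀ : F} (hn : ω₀ * ω₀ ^ q = 1)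
    (hK : h4o_K q R ω₀) (k : ℕ) : h4o_K q R (ω₀ ^ k) := by
  induction k with
  | zero => rw [pow_zero]; exact h4o_K_one hcen
  | succ k ih =>
    rw [pow_succ]
    by_cases h1 : ω₀ ^ k = 1
    · rw [h1, one_mul]; exact hK
    by_cases h2 : ω₀ = 1
    · rw [h2, mul_one]; rw [h2] at ih; exact ih
    have hn' : ω₀ ^ k * (ω₀ ^ k) ^ q = 1 := by
      rw [← pow_mul, mul_comm k q, pow_mul, ← mul_pow, hn, one_pow]
    exact h4o_mul_closed hF hboot hcen h1 h2 hn' ih hK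

/-- **the `ω`-induction**: the relation on the centre and on the whole fibre of a generator `ω₀` of the
norm-one group gives it everywhere -/
theorem h4o_induction (hF : Fintype.card F = q ^ 2) {R : F → F → Prop} (hboot : h4o_BootD q R)
    (hcen : ∀ c : F, c ≠ 0 → c + c ^ q = 0 → R 0 c) {ω₀ : F} (hn : ω₀ ^ (q + 1) = 1)
    (hgen : ∀ ω : F, ω ^ (q + 1) = 1 → ∃ k : ℕ, ω = ω₀ ^ k)
    (hK : h4o_K q R ω₀) : ∀ a b : F, b ≠ 0 → h4o_U q a b → R a b := by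
  intro a b hb hU
  obtain ⟨k, hk⟩ := hgen _ (h4o_omega_pow hF hb)
  have hn' : ω₀ * ω₀ ^ q = 1 := by rw [← pow_succ']; exact hn
  exact h4o_K_pow hF hboot hcen hn' hK k a b hb hU hk

/-- the centre from one seed and torus stability -/
theorem h4o_central_of_seed (hF : Fintype.card F = q ^ 2) {R : F → F → Prop} (hst : h4o_StabD q R)
    {c₀ : F} (hc₀ : c₀ ≠ 0) (hc₀q : c₀ + c₀ ^ q = 0) (hR : R 0 c₀) :
    ∀ c : F, c ≠ 0 → c + c ^ q = 0 → R 0 c := by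
  intro c hc hcq
  have hfix : (c / c₀) ^ q = c / c₀ := by
    have h1 : c ^ q = -c := by linear_combination hcq
    have h2 : c₀ ^ q = -c₀ := by linear_combination hc₀q
    rw [div_pow, h1, h2, neg_div_neg_eq]
  obtain ⟨z, hz⟩ := h1_su_norm_surj q hF (h1_su_two_le hF) _ hfix
  have hz0 : z ≠ 0 := by
    rintro rfl
    rw [zero_pow (by omega)] at hz
    exact (div_ne_zero hc hc₀) hz.symm
  have hU : h4o_U q (0 : F) c₀ := by
    unfold h4o_U
    rw [zero_mul, add_zero]; exact hc₀q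
  have := hst z 0 c₀ hz0 hU hR
  rw [mul_zero, ← pow_succ', hz, div_mul_cancel₀ _ hc₀] at this
  exact this

/-- a whole fibre from seeds `(ε ^ i * a₀, b₀)`, `i < d`, and torus stability; `ε` generates the norm-one
group modulo cubes -/
theorem h4o_fibre_of_seeds (hF : Fintype.card F = q ^ 2) {R : F → F → Prop} (hst : h4o_StabD q R)
    {a₀ b₀ ε : F} {d : ℕ} (hb₀ : b₀ ≠ 0) (hU₀ : h4o_U q a₀ b₀) (ha₀ : a₀ ≠ 0) (hε : ε ^ (q + 1) = 1)
    (hcub : ∀ η : F, η ^ (q + 1) = 1 → ∃ i < d, ∃ ξ : F, ξ ^ (q + 1) = 1 ∧ η = ε ^ i * ξ ^ 3)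
    (hR : ∀ i < d, R (ε ^ i * a₀) b₀) : h4o_K q R (-b₀ / b₀ ^ q) := by
  intro a b hb hU hω
  have hq2 := h1_su_two_le hF
  have hbq : b ^ q ≠ 0 := pow_ne_zero q hb
  have hb₀q : b₀ ^ q ≠ 0 := pow_ne_zero q hb₀
  -- `b / b₀` is fixed by the Frobenius
  have hfix : (b / b₀) ^ q = b / b₀ := by
    rw [div_pow]
    field_simp at hω ⊢
    linear_combination hω
  obtain ⟨z, hz⟩ := h1_su_norm_surj q hF hq2 _ hfix
  have hz0 : z ≠ 0 := by
    rintro rfl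
    rw [zero_pow (by omega)] at hz
    exact (div_ne_zero hb hb₀) hz.symm
  have hzq0 : z ^ q ≠ 0 := pow_ne_zero q hz0
  have hzb : z * z ^ q * b₀ = b := by
    rw [← pow_succ', hz, div_mul_cancel₀ _ hb₀]
  -- `η := a / (z² / z̄ * a₀)` has norm one
  obtain ⟨η, hη⟩ : ∃ η : F, η = a / (z ^ 2 / z ^ q * a₀) := ⟨_, rfl⟩
  have hden : z ^ 2 / z ^ q * a₀ ≠ 0 := mul_ne_zero (div_ne_zero (pow_ne_zero 2 hz0) hzq0) ha₀
  have hηa : η * (z ^ 2 / z ^ q * a₀) = a := by rw [hη, div_mul_cancel₀ _ hden]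
  have hηn : η ^ (q + 1) = 1 := by
    have h1 := hU; unfold h4o_U at h1
    have h2 := hU₀; unfold h4o_U at h2
    have ha₀q : a₀ ^ q ≠ 0 := pow_ne_zero q ha₀
    have hbb : b ^ q = (z * z ^ q) * b₀ ^ q := by
      rw [← hzb, mul_pow, mul_pow, h1_su_frob q hF]; ring
    have h3 : a * a ^ q = (z * z ^ q) * (a₀ * a₀ ^ q) := by
      have : a * a ^ q = -(b + b ^ q) := by linear_combination h1
      rw [this, hbb, ← hzb]
      linear_combination (-(z * z ^ q)) * h2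
    have hZ : (z ^ 2) ^ q = (z ^ q) ^ 2 := by rw [← pow_mul, ← pow_mul, mul_comm]
    have hX : (z ^ 2 / z ^ q * a₀) * (z ^ 2 / z ^ q * a₀) ^ q = z * z ^ q * (a₀ * a₀ ^ q) := by
      rw [mul_pow, div_pow, h1_su_frob q hF, hZ]
      field_simp
    have hX0 : z * z ^ q * (a₀ * a₀ ^ q) ≠ 0 :=
      mul_ne_zero (mul_ne_zero hz0 hzq0) (mul_ne_zero ha₀ ha₀q)
    have h4 : η * η ^ q * (z * z ^ q * (a₀ * a₀ ^ q)) = 1 * (z * z ^ q * (a₀ * a₀ ^ q)) := by
      calc η * η ^ q * (z * z ^ q * (a₀ * a₀ ^ q))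
          = (η * (z ^ 2 / z ^ q * a₀)) * (η * (z ^ 2 / z ^ q * a₀)) ^ q := by
            rw [mul_pow η, ← hX]; ring
        _ = a * a ^ q := by rw [hηa]
        _ = 1 * (z * z ^ q * (a₀ * a₀ ^ q)) := by rw [h3, one_mul]
    rw [pow_succ']
    exact mul_right_cancel₀ hX0 h4
  obtain ⟨i, hi, ξ, hξ, hηξ⟩ := hcub η hηn
  have hξ0 : ξ ≠ 0 := by
    rintro rfl
    rw [zero_pow (by omega)] at hξ
    exact zero_ne_one hξ
  have hξq : ξ ^ q = ξ⁻¹ := by
    rw [pow_succ'] at hξ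
    exact eq_inv_of_mul_eq_one_right hξ
  -- conjugate the seed by `h(ξ)` and then by `h(z)`
  have hUi : h4o_U q (ε ^ i * a₀) b₀ := by
    unfold h4o_U
    have h2 := hU₀; unfold h4o_U at h2
    have : (ε ^ i) * (ε ^ i) ^ q = 1 := by
      rw [← pow_mul, mul_comm i q, pow_mul, ← mul_pow, ← pow_succ', hε, one_pow]
    rw [mul_pow]
    linear_combination h2 + (a₀ * a₀ ^ q) * this
  have s1 := hst ξ _ _ hξ0 hUi (hR i hi)
  have e1 : ξ ^ 2 / ξ ^ q * (ε ^ i * a₀) = η * a₀ := by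
    rw [hξq, hηξ]; field_simp
  have e2 : ξ * ξ ^ q * b₀ = b₀ := by
    rw [hξq, mul_inv_cancel₀ hξ0, one_mul]
  rw [e1, e2] at s1
  have hU1 : h4o_U q (η * a₀) b₀ := by
    unfold h4o_U
    have h2 := hU₀; unfold h4o_U at h2
    have : η * η ^ q = 1 := by rw [← pow_succ']; exact hηn
    rw [mul_pow]
    linear_combination h2 + (a₀ * a₀ ^ q) * this
  have s2 := hst z _ _ hz0 hU1 s1
  have e3 : z ^ 2 / z ^ q * (η * a₀) = a := by rw [← hηa]; ring
  rw [e3, hzb] at s2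
  exact s2

omit [Fintype F] in
/-- every element of a cyclic group generated by `ε` is `ε ^ i` times a cube, `i < 3` -/
theorem h4o_cubes_of_gen {ε : F} (hε : ε ^ (q + 1) = 1)
    (hgen : ∀ η : F, η ^ (q + 1) = 1 → ∃ k : ℕ, η = ε ^ k) :
    ∀ η : F, η ^ (q + 1) = 1 → ∃ i < 3, ∃ ξ : F, ξ ^ (q + 1) = 1 ∧ η = ε ^ i * ξ ^ 3 := by
  intro η hη
  obtain ⟨k, rfl⟩ := hgen η hη
  refine ⟨k % 3, Nat.mod_lt _ (by norm_num), ε ^ (k / 3), ?_, ?_⟩
  · rw [← pow_mul, mul_comm, pow_mul, hε, one_pow]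
  · rw [← pow_mul, ← pow_add, mul_comm (k / 3) 3, Nat.mod_add_div]

/-- **the rank-one relations from `1 + d` seeds**: `R` stable under the torus and under the bootstrap rule,
one central seed, `d` seeds in the fibre of a generator `ω₀ = -b₀ / b̄₀` of the norm-one group -/
theorem h4o_mainD (hF : Fintype.card F = q ^ 2) {R : F → F → Prop} (hst : h4o_StabD q R)
    (hboot : h4o_BootD q R) {c₀ : F} (hc₀ : c₀ ≠ 0) (hc₀q : c₀ + c₀ ^ q = 0) (hRc : R 0 c₀)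
    {a₀ b₀ ε : F} {d : ℕ} (hb₀ : b₀ ≠ 0) (hU₀ : h4o_U q a₀ b₀) (ha₀ : a₀ ≠ 0) (hε : ε ^ (q + 1) = 1)
    (hcub : ∀ η : F, η ^ (q + 1) = 1 → ∃ i < d, ∃ ξ : F, ξ ^ (q + 1) = 1 ∧ η = ε ^ i * ξ ^ 3)
    (hgen : ∀ ω : F, ω ^ (q + 1) = 1 → ∃ k : ℕ, ω = (-b₀ / b₀ ^ q) ^ k)
    (hR : ∀ i < d, R (ε ^ i * a₀) b₀) : ∀ a b : F, b ≠ 0 → h4o_U q a b → R a b :=
  h4o_induction hF hboot (h4o_central_of_seed hF hst hc₀ hc₀q hRc) (h4o_omega_pow hF hb₀) hgen
    (h4o_fibre_of_seeds hF hst hb₀ hU₀ ha₀ hε hcub hR)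

/-- `h4o_main` with `h4o_Stab`, `h4o_Boot` in the inverse-forms -/
theorem h4o_main (hF : Fintype.card F = q ^ 2) {R : F → F → Prop} (hst : h4o_Stab q R)
    (hboot : h4o_Boot q R) {c₀ : F} (hc₀ : c₀ ≠ 0) (hc₀q : c₀ + c₀ ^ q = 0) (hRc : R 0 c₀)
    {a₀ b₀ ε : F} {d : ℕ} (hb₀ : b₀ ≠ 0) (hU₀ : h4o_U q a₀ b₀) (ha₀ : a₀ ≠ 0) (hε : ε ^ (q + 1) = 1)
    (hcub : ∀ η : F, η ^ (q + 1) = 1 → ∃ i < d, ∃ ξ : F, ξ ^ (q + 1) = 1 ∧ η = ε ^ i * ξ ^ 3)
    (hgen : ∀ ω : F, ω ^ (q + 1) = 1 → ∃ k : ℕ, ω = (-b₀ / b₀ ^ q) ^ k)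
    (hR : ∀ i < d, R (ε ^ i * a₀) b₀) : ∀ a b : F, b ≠ 0 → h4o_U q a b → R a b :=
  h4o_mainD hF ((h4o_Stab_iff R).1 hst) ((h4o_Boot_iff R).1 hboot) hc₀ hc₀q hRc hb₀ hU₀ ha₀ hε hcub
    hgen hR

/-! ### the seeds `(ζ ^ i, N(ζ ^ i) * bs)`, `i < 3` -/

omit [Fintype F] in
/-- in the fibre of `ω₀ = -bs / b̄s`, `bs + b̄s = -1`, the second coordinate is `a ā bs` -/
theorem h4o_b_eq {bs a b : F} (hbs0 : bs ≠ 0) (hbs : bs + bs ^ q = -1) (hb : b ≠ 0)
    (hU : h4o_U q a b) (hω : -b / b ^ q = -bs / bs ^ q) : b = a * a ^ q * bs := by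
  have hbq : b ^ q ≠ 0 := pow_ne_zero q hb
  have hbsq : bs ^ q ≠ 0 := pow_ne_zero q hbs0
  unfold h4o_U at hU
  field_simp at hω
  -- hω : b * bs ^ q = b ^ q * bs (up to signs)
  have h1 : b * bs ^ q = b ^ q * bs := by linear_combination -hω
  have h2 : b * (bs + bs ^ q) = (b + b ^ q) * bs := by linear_combination h1
  rw [hbs] at h2
  have h3 : b + b ^ q = -(a * a ^ q) := by linear_combination hU
  rw [h3] at h2
  linear_combination -h2

/-- the whole fibre of `ω₀ = -bs / b̄s` from the seeds `(ζ ^ i, ζ ^ i * (ζ ^ i) ^ q * bs)`, `i < 3`,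
where `ζ` generates the multiplicative group -/
theorem h4o_fibre_of_zeta_seeds (hF : Fintype.card F = q ^ 2) {R : F → F → Prop}
    (hst : h4o_Stab q R) {ζ bs : F} (hζ : ∀ a : F, a ≠ 0 → ∃ k : ℕ, a = ζ ^ k)
    (hbs0 : bs ≠ 0) (hbs : bs + bs ^ q = -1) (hω1 : -bs / bs ^ q ≠ 1)
    (hR : ∀ i < 3, R (ζ ^ i) (ζ ^ i * (ζ ^ i) ^ q * bs)) : h4o_K q R (-bs / bs ^ q) := by
  intro a b hb hU hω
  have hq2 := h1_su_two_le hF
  have hbq : b ^ q ≠ 0 := pow_ne_zero q hb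
  have ha : a ≠ 0 := by
    rintro rfl
    apply hω1
    rw [← hω]
    unfold h4o_U at hU
    rw [zero_mul, add_zero] at hU
    field_simp
    linear_combination -hU
  obtain ⟨k, hk⟩ := hζ a ha
  have hζq2 : ζ ^ (q * q) = ζ := by
    have := FiniteField.pow_card ζ
    rwa [hF, sq] at this
  -- `z = ζ ^ (s (q + 2))`, `k = 3 s + i`
  obtain ⟨z, hz⟩ : ∃ z : F, z = ζ ^ (k / 3 * (q + 2)) := ⟨_, rfl⟩
  have hz0 : z ≠ 0 := by
    rw [hz]
    by_cases hζ0 : ζ = 0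
    · have hk0 : k = 0 := by
        by_contra hk0
        rw [hζ0, zero_pow hk0] at hk
        exact ha hk
      rw [hk0]; simp
    · exact pow_ne_zero _ hζ0
  have hzq0 : z ^ q ≠ 0 := pow_ne_zero q hz0
  have hz2 : z ^ 2 = ζ ^ (3 * (k / 3)) * z ^ q := by
    obtain ⟨s, hs⟩ : ∃ s : ℕ, s = k / 3 := ⟨_, rfl⟩
    rw [hz, ← hs]
    have h1 : (ζ ^ (s * (q + 2))) ^ q = (ζ ^ (q * q)) ^ s * ζ ^ (2 * s * q) := by
      rw [← pow_mul, ← pow_mul, ← pow_add]; congr 1; ring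
    rw [h1, hζq2, ← pow_mul, ← pow_add, ← pow_add]; congr 1; ring
  have hza : z ^ 2 * (z ^ q)⁻¹ * ζ ^ (k % 3) = a := by
    rw [hz2, hk]
    rw [mul_assoc (ζ ^ (3 * (k / 3))), mul_inv_cancel₀ hzq0, mul_one, ← pow_add, add_comm,
      Nat.mod_add_div]
  have hzb : z * z ^ q * (ζ ^ (k % 3) * (ζ ^ (k % 3)) ^ q * bs) = b := by
    rw [h4o_b_eq hbs0 hbs hb hU hω, ← hza, mul_pow, mul_pow, inv_pow, h1_su_frob q hF]
    have hZ : (z ^ 2) ^ q = (z ^ q) ^ 2 := by rw [← pow_mul, ← pow_mul, mul_comm]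
    rw [hZ]
    field_simp
  have hUi : h4o_U q (ζ ^ (k % 3)) (ζ ^ (k % 3) * (ζ ^ (k % 3)) ^ q * bs) := by
    unfold h4o_U
    rw [mul_pow, mul_pow, h1_su_frob q hF]
    linear_combination (ζ ^ (k % 3) * (ζ ^ (k % 3)) ^ q) * hbs
  have := hst z _ _ hz0 hUi (hR (k % 3) (Nat.mod_lt _ (by norm_num)))
  rwa [hza, hzb] at this

/-- the second coordinate `bs = ω₀ / (1 - ω₀)` of the seeds -/
theorem h4o_exists_bs (hF : Fintype.card F = q ^ 2) {ω₀ : F} (hn : ω₀ ^ (q + 1) = 1)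
    (h1 : ω₀ ≠ 1) : ∃ bs : F, bs ≠ 0 ∧ bs + bs ^ q = -1 ∧ -bs / bs ^ q = ω₀ := by
  have hω0 : ω₀ ≠ 0 := by
    rintro rfl
    rw [zero_pow (by omega)] at hn
    exact zero_ne_one hn
  have hωq : ω₀ ^ q = ω₀⁻¹ := by
    rw [pow_succ'] at hn
    exact eq_inv_of_mul_eq_one_right hn
  have h1ω : 1 - ω₀ ≠ 0 := fun h => h1 (by linear_combination -h)
  have hbq : (ω₀ / (1 - ω₀)) ^ q = 1 / (ω₀ - 1) := by
    have h2 : ω₀ - 1 ≠ 0 := fun h => h1 (by linear_combination h)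
    rw [div_pow, h1_su_sub_pow q hF, one_pow, hωq]
    field_simp
  have h2 : ω₀ - 1 ≠ 0 := fun h => h1 (by linear_combination h)
  refine ⟨ω₀ / (1 - ω₀), div_ne_zero hω0 h1ω, ?_, ?_⟩
  · rw [hbq]; field_simp; ring
  · rw [hbq]; field_simp; ring

/-- **the rank-one relations from `1 + 3` seeds** (the seed shape of the blueprint) -/
theorem h4o_main_zeta (hF : Fintype.card F = q ^ 2) {R : F → F → Prop} (hst : h4o_Stab q R)
    (hboot : h4o_Boot q R) {c₀ : F} (hc₀ : c₀ ≠ 0) (hc₀q : c₀ + c₀ ^ q = 0) (hRc : R 0 c₀)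
    {ζ bs : F} (hζ : ∀ a : F, a ≠ 0 → ∃ k : ℕ, a = ζ ^ k)
    (hbs0 : bs ≠ 0) (hbs : bs + bs ^ q = -1) (hω1 : -bs / bs ^ q ≠ 1)
    (hgen : ∀ ω : F, ω ^ (q + 1) = 1 → ∃ k : ℕ, ω = (-bs / bs ^ q) ^ k)
    (hR : ∀ i < 3, R (ζ ^ i) (ζ ^ i * (ζ ^ i) ^ q * bs)) :
    ∀ a b : F, b ≠ 0 → h4o_U q a b → R a b :=
  h4o_induction hF ((h4o_Boot_iff R).1 hboot)
    (h4o_central_of_seed hF ((h4o_Stab_iff R).1 hst) hc₀ hc₀q hRc) (h4o_omega_pow hF hbs0) hgen
    (h4o_fibre_of_zeta_seeds hF hst hζ hbs0 hbs hω1 hR)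

/-! ### a generator `ζ` of the multiplicative group and `ω₀ = ζ ^ (q - 1)` -/

theorem h4o_q_sq_sub_one (hq : 1 ≤ q) : q ^ 2 - 1 = (q - 1) * (q + 1) := by
  obtain ⟨k, rfl⟩ : ∃ k, q = k + 1 := ⟨q - 1, by omega⟩
  simp only [Nat.add_sub_cancel]
  have : (k + 1) ^ 2 = k * (k + 1 + 1) + 1 := by ring
  omega

/-- every non-zero element is a power of a generator -/
theorem h4o_zeta_surj (hF : Fintype.card F = q ^ 2) (ζ : Fˣ) (hord : orderOf ζ = q ^ 2 - 1) :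
    ∀ a : F, a ≠ 0 → ∃ k : ℕ, a = (ζ : F) ^ k := by
  classical
  intro a ha
  have hcard : Nat.card (Subgroup.zpowers ζ) = Nat.card Fˣ := by
    rw [Nat.card_zpowers, hord, Nat.card_eq_fintype_card, Fintype.card_units, hF]
  have htop : Subgroup.zpowers ζ = ⊤ := Subgroup.eq_top_of_card_eq _ hcard
  have hu : Units.mk0 a ha ∈ Subgroup.zpowers ζ := by rw [htop]; trivial
  rw [← mem_powers_iff_mem_zpowers] at hu
  obtain ⟨k, hk⟩ := hu
  refine ⟨k, ?_⟩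
  have := congrArg (fun u : Fˣ => (u : F)) hk
  simpa using this.symm

/-- `ω₀ = ζ ^ (q - 1)` has norm one -/
theorem h4o_omega0_norm (hF : Fintype.card F = q ^ 2) (ζ : Fˣ) :
    ((ζ : F) ^ (q - 1)) ^ (q + 1) = 1 := by
  have hq := h1_su_two_le hF
  rw [← pow_mul, ← h4o_q_sq_sub_one (by omega), ← hF]
  have := FiniteField.pow_card_sub_one_eq_one (ζ : F) ζ.ne_zero
  exact this

/-- `ω₀ = ζ ^ (q - 1) ≠ 1` -/
theorem h4o_omega0_ne_one (hF : Fintype.card F = q ^ 2) (ζ : Fˣ) (hord : orderOf ζ = q ^ 2 - 1) :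
    (ζ : F) ^ (q - 1) ≠ 1 := by
  have hq := h1_su_two_le hF
  intro h
  have h1 : ζ ^ (q - 1) = 1 := by
    apply Units.ext; push_cast; exact h
  have hd := orderOf_dvd_of_pow_eq_one h1
  rw [hord, h4o_q_sq_sub_one (by omega)] at hd
  have hle := Nat.le_of_dvd (by omega) hd
  have : (q - 1) * (q + 1) ≥ (q - 1) * 2 := Nat.mul_le_mul_left _ (by omega)
  omega

/-- `ω₀ = ζ ^ (q - 1)` generates the group of elements of norm one -/
theorem h4o_omega0_gen (hF : Fintype.card F = q ^ 2) (ζ : Fˣ) (hord : orderOf ζ = q ^ 2 - 1) :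
    ∀ ω : F, ω ^ (q + 1) = 1 → ∃ k : ℕ, ω = ((ζ : F) ^ (q - 1)) ^ k := by
  have hq := h1_su_two_le hF
  intro ω hω
  have hω0 : ω ≠ 0 := by
    rintro rfl
    rw [zero_pow (by omega)] at hω
    exact zero_ne_one hω
  obtain ⟨k, hk⟩ := h4o_zeta_surj hF ζ hord ω hω0
  have h1 : (ζ : F) ^ (k * (q + 1)) = (ζ : F) ^ 0 := by rw [pow_mul, ← hk, hω, pow_zero]
  have hd := h1_dvd_of_pow_eq ζ (k * (q + 1)) 0 (Nat.zero_le _) h1
  rw [hord, h4o_q_sq_sub_one (by omega), Nat.sub_zero] at hd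
  have hd' : q - 1 ∣ k := (Nat.mul_dvd_mul_iff_right (by omega : 0 < q + 1)).1 hd
  obtain ⟨j, hj⟩ := hd'
  exact ⟨j, by rw [← pow_mul, ← hj, hk]⟩

end Cfsg.Agent.SU3Pres
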