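import Mathlib
import Cfsg.Agent.SU3Pres.H4_Omega

/-!
# S2289 swarm, piece `Omega` (helper4): the `ω`-induction, with the names and shapes of the blueprint stubs

`Ucond`, `omega_induction`, `exists_bs` — verbatim the stubs of `notes/S2289_stubs.lean.txt`; the proofs are in
`H4_Omega.lean` (`h4o_main_zeta`, `h4o_exists_bs`, `h4o_omega0_gen`).
-/

set_option autoImplicit false
set_option linter.unusedVariables false

namespace Cfsg.Agent.SU3Pres

open Cfsg.Agent.SU3G Cfsg.Agent.SL3G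

section omega

variable {F : Type*} [Field F] [Fintype F]

/-- `b + b̄ + a ā = 0` -/
def Ucond (q : ℕ) (a b : F) : Prop := b + b ^ q + a * a ^ q = 0

omit [Fintype F] in
theorem Ucond_iff (q : ℕ) (a b : F) : Ucond q a b ↔ h4o_U q a b := Iff.rfl

/-- **ω-induction.** `K a b` = "the rank-one relation is known for `U(a,b)`". -/
theorem omega_induction (q : ℕ) (hq : 2 ≤ q) (hF : Fintype.card F = q ^ 2) (ζ : Fˣ)
    (hζ : ∀ x : Fˣ, x ∈ Subgroup.zpowers ζ) (K : F → F → Prop)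
    (hH : ∀ (z : Fˣ) (a b : F), Ucond q a b → b ≠ 0 → K a b →
        K ((z : F) ^ 2 * ((z : F) ^ q)⁻¹ * a) ((z : F) ^ (q + 1) * b))
    (hrule : ∀ c a b : F, c ≠ 0 → c + c ^ q = 0 → Ucond q a b → b ≠ 0 → b + c ≠ 0 →
        K 0 c → K a b → K (-(a / b ^ q)) (1 / c + 1 / b) → K a (c + b))
    (c0 : F) (hc0 : c0 ≠ 0) (hc0' : c0 + c0 ^ q = 0) (hK0 : K 0 c0)
    (bs : F) (hbs : bs + bs ^ q = -1)
    (hω : ∀ ω : F, ω ^ (q + 1) = 1 → ∃ n : ℕ, ω = (-(bs / bs ^ q)) ^ n)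
    (hseed : ∀ i : ℕ, i < 3 → K ((ζ : F) ^ i) ((ζ : F) ^ i * ((ζ : F) ^ i) ^ q * bs)) :
    ∀ a b : F, Ucond q a b → b ≠ 0 → K a b := by
  classical
  have hq0 : q ≠ 0 := by omega
  -- the predicate fed to `h4o_main_zeta`
  obtain ⟨R, hRdef⟩ : ∃ R : F → F → Prop, R = fun a b => b ≠ 0 → K a b := ⟨_, rfl⟩
  have hbs0 : bs ≠ 0 := by
    rintro rfl
    rw [zero_pow hq0, add_zero] at hbs
    exact one_ne_zero (by linear_combination hbs : (1 : F) = 0)
  have hbsq0 : bs ^ q ≠ 0 := pow_ne_zero q hbs0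
  have hω1 : -bs / bs ^ q ≠ 1 := by
    intro h
    rw [div_eq_one_iff_eq hbsq0] at h
    rw [← h] at hbs
    exact one_ne_zero (by linear_combination hbs : (1 : F) = 0)
  have hst : h4o_Stab q R := by
    intro z a b hz hU hR
    rw [hRdef] at hR ⊢
    intro hne
    have hb : b ≠ 0 := by
      rintro rfl
      exact hne (mul_zero _)
    have := hH (Units.mk0 z hz) a b hU hb (hR hb)
    rw [Units.val_mk0, pow_succ' z q] at this
    exact this
  have hboot : h4o_Boot q R := by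
    intro c a b hc hcq hb hU hbc hR0 hRy hR2
    rw [hRdef] at hR0 hRy hR2 ⊢
    intro _
    have hbq : b ^ q ≠ 0 := pow_ne_zero q hb
    have h2 : c⁻¹ + b⁻¹ ≠ 0 := by
      have : c⁻¹ + b⁻¹ = (b + c) / (c * b) := by field_simp
      rw [this]
      exact div_ne_zero hbc (mul_ne_zero hc hb)
    have h3 := hR2 h2
    have e1 : -a * (b ^ q)⁻¹ = -(a / b ^ q) := by rw [div_eq_mul_inv]; ring
    have e2 : c⁻¹ + b⁻¹ = 1 / c + 1 / b := by rw [one_div, one_div]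
    rw [e1, e2] at h3
    have := hrule c a b hc hcq hU hb hbc (hR0 hc) (hRy hb) h3
    rwa [add_comm] at this
  have hζ' : ∀ a : F, a ≠ 0 → ∃ k : ℕ, a = (ζ : F) ^ k := by
    intro a ha
    have hu := hζ (Units.mk0 a ha)
    rw [← mem_powers_iff_mem_zpowers] at hu
    obtain ⟨k, hk⟩ := hu
    refine ⟨k, ?_⟩
    have := congrArg (fun u : Fˣ => (u : F)) hk
    simpa using this.symm
  have hgen : ∀ ω : F, ω ^ (q + 1) = 1 → ∃ k : ℕ, ω = (-bs / bs ^ q) ^ k := by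
    intro ω h
    obtain ⟨n, hn⟩ := hω ω h
    exact ⟨n, by rw [neg_div]; exact hn⟩
  have hRc : R 0 c0 := by rw [hRdef]; intro _; exact hK0
  have hRs : ∀ i < 3, R ((ζ : F) ^ i) ((ζ : F) ^ i * ((ζ : F) ^ i) ^ q * bs) := by
    intro i hi
    rw [hRdef]; intro _; exact hseed i hi
  intro a b hU hb
  have := h4o_main_zeta hF hst hboot hc0 hc0' hRc hζ' hbs0 hbs hω1 hgen hRs a b hb hU
  rw [hRdef] at this
  exact this hb

/-- existence of the seed parameter -/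
theorem exists_bs (q : ℕ) (hq : 2 ≤ q) (hF : Fintype.card F = q ^ 2) :
    ∃ bs : F, bs + bs ^ q = -1 ∧ ∀ ω : F, ω ^ (q + 1) = 1 → ∃ n : ℕ, ω = (-(bs / bs ^ q)) ^ n := by
  classical
  obtain ⟨ζ, hord⟩ := h1_exists_generator F
  rw [hF] at hord
  obtain ⟨bs, -, hbs, hbsω⟩ := h4o_exists_bs hF (h4o_omega0_norm hF ζ) (h4o_omega0_ne_one hF ζ hord)
  refine ⟨bs, hbs, ?_⟩
  intro ω hω
  obtain ⟨k, hk⟩ := h4o_omega0_gen hF ζ hord ω hω
  exact ⟨k, by rw [← neg_div, hbsω]; exact hk⟩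

end omega

end Cfsg.Agent.SU3Pres
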