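import Cfsg.Agent.SU3Pres.H6_Count

/-!
# S2289 piece `Rank1` (helper6): abstract rank-one bootstrap + count

Stubs part 2 of `notes/S2289_stubs.lean.txt` (helper1), verbatim: `R1Model`, `r1_ext`, `R1Rel`,
`R1Compat`, `r1_conj`, `r1_rule`, `r1_count`.
-/

set_option autoImplicit false

namespace Cfsg.Agent.SU3Pres

section rank1

variable {Gm G : Type*} [Group Gm] [Group G]

/-- Data of the model: `B = U ⋊ H ≤ Gm`, `tm` with `tm² = 1` normalising `H`, Bruhat uniqueness. -/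
structure R1Model (Gm : Type*) [Group Gm] where
  B : Subgroup Gm
  U : Subgroup Gm
  H : Subgroup Gm
  tm : Gm
  U_le : U ≤ B
  H_le : H ≤ B
  B_eq : ∀ b ∈ B, ∃ x ∈ U, ∃ z ∈ H, b = x * z
  H_norm : ∀ z ∈ H, ∀ x ∈ U, z * x * z⁻¹ ∈ U
  tm_sq : tm * tm = 1
  tm_H : ∀ z ∈ H, tm * z * tm ∈ H
  uniq : ∀ b ∈ B, ∀ x ∈ U, ∀ b' ∈ B, ∀ x' ∈ U, b * tm * x = b' * tm * x' → b = b' ∧ x = x'
  disj : ∀ b ∈ B, ∀ x ∈ U, ∀ b' ∈ B, b * tm * x ≠ b'

/-- `ρ` restricted to the model Borel, totalised (value `1` outside `B`). -/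
noncomputable def r1_ext (M : R1Model Gm) (ρ : ↥M.B →* G) (g : Gm) : G := by
  classical exact if hg : g ∈ M.B then ρ ⟨g, hg⟩ else 1

/-- the rank-one relation is known for `x` -/
def R1Rel (M : R1Model Gm) (ρ : ↥M.B →* G) (t : G) (x : Gm) : Prop :=
  x ∈ M.U ∧ ∃ b ∈ M.B, ∃ x' ∈ M.U, M.tm * x * M.tm = b * M.tm * x' ∧
    t * r1_ext M ρ x * t = r1_ext M ρ b * t * r1_ext M ρ x'

/-- compatibility of `ρ`, `t` with the torus -/
def R1Compat (M : R1Model Gm) (ρ : ↥M.B →* G) (t : G) : Prop :=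
  t * t = 1 ∧ ∀ z ∈ M.H, t * r1_ext M ρ z * t = r1_ext M ρ (M.tm * z * M.tm)

/-! ### basic facts on `r1_ext` -/

theorem h6r_ext_of_mem (M : R1Model Gm) (ρ : ↥M.B →* G) {g : Gm} (hg : g ∈ M.B) :
    r1_ext M ρ g = ρ ⟨g, hg⟩ := by
  unfold r1_ext
  rw [dif_pos hg]

theorem h6r_ext_mul (M : R1Model Gm) (ρ : ↥M.B →* G) {g g' : Gm} (hg : g ∈ M.B) (hg' : g' ∈ M.B) :
    r1_ext M ρ (g * g') = r1_ext M ρ g * r1_ext M ρ g' := by
  rw [h6r_ext_of_mem M ρ hg, h6r_ext_of_mem M ρ hg', h6r_ext_of_mem M ρ (M.B.mul_mem hg hg'),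
    ← map_mul]
  rfl

theorem h6r_ext_one (M : R1Model Gm) (ρ : ↥M.B →* G) : r1_ext M ρ 1 = 1 := by
  rw [h6r_ext_of_mem M ρ M.B.one_mem]
  exact map_one ρ

theorem h6r_ext_inv (M : R1Model Gm) (ρ : ↥M.B →* G) {g : Gm} (hg : g ∈ M.B) :
    r1_ext M ρ g⁻¹ = (r1_ext M ρ g)⁻¹ := by
  rw [h6r_ext_of_mem M ρ hg, h6r_ext_of_mem M ρ (M.B.inv_mem hg), ← map_inv]
  rfl

/-- `tm⁻¹ = tm` -/
theorem h6r_tm_inv (M : R1Model Gm) : M.tm⁻¹ = M.tm := inv_eq_of_mul_eq_one_right M.tm_sq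

theorem h6r_tm_tm_cancel (M : R1Model Gm) (g : Gm) : M.tm * (M.tm * g) = g := by
  rw [← mul_assoc, M.tm_sq, one_mul]

/-- `tm (tm z tm) tm = z` -/
theorem h6r_tm_conj_conj (M : R1Model Gm) (z : Gm) : M.tm * (M.tm * z * M.tm) * M.tm = z := by
  calc M.tm * (M.tm * z * M.tm) * M.tm = (M.tm * M.tm) * z * (M.tm * M.tm) := by group
    _ = z := by rw [M.tm_sq, one_mul, mul_one]

/-- `t r(z) = r(tm z tm) t` -/
theorem h6r_t_z (M : R1Model Gm) (ρ : ↥M.B →* G) (t : G) (hc : R1Compat M ρ t) {z : Gm}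
    (hz : z ∈ M.H) : t * r1_ext M ρ z = r1_ext M ρ (M.tm * z * M.tm) * t := by
  have h := hc.2 z hz
  calc t * r1_ext M ρ z = (t * r1_ext M ρ z * t) * t := by
        rw [mul_assoc (t * r1_ext M ρ z), hc.1, mul_one]
    _ = r1_ext M ρ (M.tm * z * M.tm) * t := by rw [h]

/-- splitting `t (g₁ g₂) t = (t g₁ t)(t g₂ t)` -/
theorem h6r_split (t : G) (ht : t * t = 1) (a b : G) : t * (a * b) * t = (t * a * t) * (t * b * t) := by
  calc t * (a * b) * t = t * a * 1 * b * t := by group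
    _ = t * a * (t * t) * b * t := by rw [ht]
    _ = (t * a * t) * (t * b * t) := by group

theorem r1_conj (M : R1Model Gm) (ρ : ↥M.B →* G) (t : G) (hc : R1Compat M ρ t)
    (x z : Gm) (hz : z ∈ M.H) (hx : R1Rel M ρ t x) : R1Rel M ρ t (z * x * z⁻¹) := by
  obtain ⟨hxU, b, hb, x', hx', e1, e2⟩ := hx
  have hzB : z ∈ M.B := M.H_le hz
  have hxB : x ∈ M.B := M.U_le hxU
  have hx'B : x' ∈ M.B := M.U_le hx'
  set z' := M.tm * z * M.tm with hz'def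
  have hz'H : z' ∈ M.H := M.tm_H z hz
  have hz'B : z' ∈ M.B := M.H_le hz'H
  have hzz : M.tm * z' * M.tm = z := h6r_tm_conj_conj M z
  have hzi : M.tm * z⁻¹ * M.tm = z'⁻¹ := by
    rw [hz'def, mul_inv_rev, mul_inv_rev, h6r_tm_inv, mul_assoc]
  refine ⟨M.H_norm z hz x hxU, z' * b * z⁻¹,
    M.B.mul_mem (M.B.mul_mem hz'B hb) (M.B.inv_mem hzB), z' * x' * z'⁻¹,
    M.H_norm z' hz'H x' hx', ?_, ?_⟩
  · -- the model identity
    have s1 : M.tm * (z * x * z⁻¹) * M.tm =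
        (M.tm * z * M.tm) * (M.tm * x * M.tm) * (M.tm * z⁻¹ * M.tm) := by
      calc M.tm * (z * x * z⁻¹) * M.tm
          = M.tm * z * 1 * x * 1 * z⁻¹ * M.tm := by group
        _ = M.tm * z * (M.tm * M.tm) * x * (M.tm * M.tm) * z⁻¹ * M.tm := by rw [M.tm_sq]
        _ = (M.tm * z * M.tm) * (M.tm * x * M.tm) * (M.tm * z⁻¹ * M.tm) := by group
    have s2 : M.tm * z'⁻¹ = z⁻¹ * M.tm := by
      have : M.tm * z'⁻¹ * M.tm = z⁻¹ := by
        have h := h6r_tm_conj_conj M z⁻¹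
        rw [hzi] at h
        exact h
      calc M.tm * z'⁻¹ = (M.tm * z'⁻¹ * M.tm) * M.tm := by
            rw [mul_assoc (M.tm * z'⁻¹), M.tm_sq, mul_one]
        _ = z⁻¹ * M.tm := by rw [this]
    rw [s1, e1, hzi, ← hz'def]
    calc z' * (b * M.tm * x') * z'⁻¹ = z' * b * (M.tm * z'⁻¹) * (z' * x' * z'⁻¹) := by group
      _ = z' * b * (z⁻¹ * M.tm) * (z' * x' * z'⁻¹) := by rw [s2]
      _ = z' * b * z⁻¹ * M.tm * (z' * x' * z'⁻¹) := by group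
  · -- the relation in `G`
    have r1 : r1_ext M ρ (z * x * z⁻¹) = r1_ext M ρ z * r1_ext M ρ x * (r1_ext M ρ z)⁻¹ := by
      rw [h6r_ext_mul M ρ (M.B.mul_mem hzB hxB) (M.B.inv_mem hzB), h6r_ext_mul M ρ hzB hxB,
        h6r_ext_inv M ρ hzB]
    have tz : t * r1_ext M ρ z * t = r1_ext M ρ z' := hc.2 z hz
    have tzi : t * (r1_ext M ρ z)⁻¹ * t = (r1_ext M ρ z')⁻¹ := by
      have h := hc.2 z⁻¹ (M.H.inv_mem hz)
      rw [hzi, h6r_ext_inv M ρ hzB, h6r_ext_inv M ρ hz'B] at h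
      exact h
    have tz'i : t * (r1_ext M ρ z')⁻¹ = (r1_ext M ρ z)⁻¹ * t := by
      have h := h6r_t_z M ρ t hc (M.H.inv_mem hz'H)
      have e : M.tm * z'⁻¹ * M.tm = z⁻¹ := by
        have h' := h6r_tm_conj_conj M z⁻¹
        rw [hzi] at h'
        exact h'
      rw [e, h6r_ext_inv M ρ hz'B, h6r_ext_inv M ρ hzB] at h
      exact h
    have r2 : r1_ext M ρ (z' * b * z⁻¹) = r1_ext M ρ z' * r1_ext M ρ b * (r1_ext M ρ z)⁻¹ := by
      rw [h6r_ext_mul M ρ (M.B.mul_mem hz'B hb) (M.B.inv_mem hzB), h6r_ext_mul M ρ hz'B hb,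
        h6r_ext_inv M ρ hzB]
    have r3 : r1_ext M ρ (z' * x' * z'⁻¹) =
        r1_ext M ρ z' * r1_ext M ρ x' * (r1_ext M ρ z')⁻¹ := by
      rw [h6r_ext_mul M ρ (M.B.mul_mem hz'B hx'B) (M.B.inv_mem hz'B), h6r_ext_mul M ρ hz'B hx'B,
        h6r_ext_inv M ρ hz'B]
    rw [r1, r2, r3]
    calc t * (r1_ext M ρ z * r1_ext M ρ x * (r1_ext M ρ z)⁻¹) * t
        = (t * r1_ext M ρ z * t) * (t * r1_ext M ρ x * t) * (t * (r1_ext M ρ z)⁻¹ * t) := by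
          rw [h6r_split t hc.1, h6r_split t hc.1]
      _ = r1_ext M ρ z' * (r1_ext M ρ b * t * r1_ext M ρ x') * (r1_ext M ρ z')⁻¹ := by
          rw [tz, e2, tzi]
      _ = r1_ext M ρ z' * r1_ext M ρ b * (t * (r1_ext M ρ z')⁻¹) *
            (r1_ext M ρ z' * r1_ext M ρ x' * (r1_ext M ρ z')⁻¹) := by group
      _ = r1_ext M ρ z' * r1_ext M ρ b * ((r1_ext M ρ z)⁻¹ * t) *
            (r1_ext M ρ z' * r1_ext M ρ x' * (r1_ext M ρ z')⁻¹) := by rw [tz'i]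
      _ = r1_ext M ρ z' * r1_ext M ρ b * (r1_ext M ρ z)⁻¹ * t *
            (r1_ext M ρ z' * r1_ext M ρ x' * (r1_ext M ρ z')⁻¹) := by group

/-- the bootstrap rule: if `tm x tm = b_x tm x₂`, `tm y tm = (y₁ z_y) tm y₂` and the relation is known for
`x`, `y` and `x₂ y₁`, then it is known for `x y`. -/
theorem r1_rule (M : R1Model Gm) (ρ : ↥M.B →* G) (t : G) (hc : R1Compat M ρ t)
    (x y bx x2 y1 zy y2 : Gm) (hbx : bx ∈ M.B) (hx2 : x2 ∈ M.U) (hy1 : y1 ∈ M.U) (hzy : zy ∈ M.H)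
    (hy2 : y2 ∈ M.U)
    (ex : M.tm * x * M.tm = bx * M.tm * x2) (ey : M.tm * y * M.tm = y1 * zy * M.tm * y2)
    (hx : R1Rel M ρ t x) (hy : R1Rel M ρ t y) (hm : R1Rel M ρ t (x2 * y1)) :
    R1Rel M ρ t (x * y) := by
  obtain ⟨hxU, b, hb, x', hx', e1, e2⟩ := hx
  obtain ⟨hyU, b', hb', y', hy', f1, f2⟩ := hy
  obtain ⟨-, bm, hbm, m2, hm2, g1, g2⟩ := hm
  have hxB : x ∈ M.B := M.U_le hxU
  have hyB : y ∈ M.B := M.U_le hyU
  have hx2B : x2 ∈ M.B := M.U_le hx2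
  have hy1B : y1 ∈ M.B := M.U_le hy1
  have hy2B : y2 ∈ M.B := M.U_le hy2
  have hzyB : zy ∈ M.B := M.H_le hzy
  have hm2B : m2 ∈ M.B := M.U_le hm2
  have hy1zy : y1 * zy ∈ M.B := M.B.mul_mem hy1B hzyB
  -- identify the factors
  obtain ⟨rfl, rfl⟩ := M.uniq b hb x' hx' bx hbx x2 hx2 (e1.symm.trans ex)
  obtain ⟨rfl, rfl⟩ := M.uniq b' hb' y' hy' (y1 * zy) hy1zy y2 hy2 (f1.symm.trans ey)
  set z' := M.tm * zy * M.tm with hz'def
  have hz'H : z' ∈ M.H := M.tm_H zy hzy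
  have hz'B : z' ∈ M.B := M.H_le hz'H
  have hzz : M.tm * z' * M.tm = zy := h6r_tm_conj_conj M zy
  have tz' : M.tm * z' = zy * M.tm := by
    calc M.tm * z' = (M.tm * z' * M.tm) * M.tm := by
          rw [mul_assoc (M.tm * z'), M.tm_sq, mul_one]
      _ = zy * M.tm := by rw [hzz]
  have hxU' : z'⁻¹ * m2 * z' ∈ M.U := by
    have := M.H_norm z'⁻¹ (M.H.inv_mem hz'H) m2 hm2
    rwa [inv_inv] at this
  refine ⟨M.U.mul_mem hxU hyU, b * bm * zy, M.B.mul_mem (M.B.mul_mem hb hbm) hzyB,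
    z'⁻¹ * m2 * z' * y', M.U.mul_mem hxU' hy', ?_, ?_⟩
  · -- the model identity
    have s1 : M.tm * (x * y) * M.tm = (M.tm * x * M.tm) * (M.tm * y * M.tm) := by
      calc M.tm * (x * y) * M.tm = M.tm * x * 1 * y * M.tm := by group
        _ = M.tm * x * (M.tm * M.tm) * y * M.tm := by rw [M.tm_sq]
        _ = (M.tm * x * M.tm) * (M.tm * y * M.tm) := by group
    have s2 : M.tm * (x' * y1) * zy * M.tm = (M.tm * (x' * y1) * M.tm) * z' := by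
      calc M.tm * (x' * y1) * zy * M.tm = M.tm * (x' * y1) * 1 * zy * M.tm := by group
        _ = M.tm * (x' * y1) * (M.tm * M.tm) * zy * M.tm := by rw [M.tm_sq]
        _ = (M.tm * (x' * y1) * M.tm) * (M.tm * zy * M.tm) := by group
    rw [s1, ex, ey]
    calc b * M.tm * x' * (y1 * zy * M.tm * y') = b * (M.tm * (x' * y1) * zy * M.tm) * y' := by group
      _ = b * ((M.tm * (x' * y1) * M.tm) * z') * y' := by rw [s2]
      _ = b * ((bm * M.tm * m2) * z') * y' := by rw [g1]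
      _ = b * bm * (M.tm * z') * (z'⁻¹ * m2 * z' * y') := by group
      _ = b * bm * (zy * M.tm) * (z'⁻¹ * m2 * z' * y') := by rw [tz']
      _ = b * bm * zy * M.tm * (z'⁻¹ * m2 * z' * y') := by group
  · -- the relation in `G`
    have tzy : t * r1_ext M ρ zy * t = r1_ext M ρ z' := hc.2 zy hzy
    have tz'G : t * r1_ext M ρ z' = r1_ext M ρ zy * t := by
      have h := h6r_t_z M ρ t hc hz'H
      rw [hzz] at h
      exact h
    have r1 : r1_ext M ρ (x * y) = r1_ext M ρ x * r1_ext M ρ y := h6r_ext_mul M ρ hxB hyB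
    have r2 : r1_ext M ρ (y1 * zy) = r1_ext M ρ y1 * r1_ext M ρ zy := h6r_ext_mul M ρ hy1B hzyB
    have r3 : r1_ext M ρ (x' * y1) = r1_ext M ρ x' * r1_ext M ρ y1 := h6r_ext_mul M ρ hx2B hy1B
    have r4 : r1_ext M ρ (b * bm * zy) = r1_ext M ρ b * r1_ext M ρ bm * r1_ext M ρ zy := by
      rw [h6r_ext_mul M ρ (M.B.mul_mem hb hbm) hzyB, h6r_ext_mul M ρ hb hbm]
    have r5 : r1_ext M ρ (z'⁻¹ * m2 * z' * y') =
        (r1_ext M ρ z')⁻¹ * r1_ext M ρ m2 * r1_ext M ρ z' * r1_ext M ρ y' := by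
      rw [h6r_ext_mul M ρ (M.B.mul_mem (M.B.mul_mem (M.B.inv_mem hz'B) hm2B) hz'B) hy2B,
        h6r_ext_mul M ρ (M.B.mul_mem (M.B.inv_mem hz'B) hm2B) hz'B,
        h6r_ext_mul M ρ (M.B.inv_mem hz'B) hm2B, h6r_ext_inv M ρ hz'B]
    rw [r1, r4, r5, h6r_split t hc.1, e2, f2, r2]
    calc r1_ext M ρ b * t * r1_ext M ρ x' * (r1_ext M ρ y1 * r1_ext M ρ zy * t * r1_ext M ρ y')
        = r1_ext M ρ b * (t * (r1_ext M ρ x' * r1_ext M ρ y1) * r1_ext M ρ zy * t) *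
            r1_ext M ρ y' := by group
      _ = r1_ext M ρ b * (t * r1_ext M ρ (x' * y1) * r1_ext M ρ zy * t) * r1_ext M ρ y' := by
          rw [r3]
      _ = r1_ext M ρ b * ((t * r1_ext M ρ (x' * y1) * t) * (t * r1_ext M ρ zy * t)) *
            r1_ext M ρ y' := by
          have := h6r_split t hc.1 (r1_ext M ρ (x' * y1)) (r1_ext M ρ zy)
          rw [← this]; group
      _ = r1_ext M ρ b * ((r1_ext M ρ bm * t * r1_ext M ρ m2) * r1_ext M ρ z') *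
            r1_ext M ρ y' := by rw [g2, tzy]
      _ = r1_ext M ρ b * r1_ext M ρ bm * (t * r1_ext M ρ z') *
            ((r1_ext M ρ z')⁻¹ * r1_ext M ρ m2 * r1_ext M ρ z' * r1_ext M ρ y') := by group
      _ = r1_ext M ρ b * r1_ext M ρ bm * (r1_ext M ρ zy * t) *
            ((r1_ext M ρ z')⁻¹ * r1_ext M ρ m2 * r1_ext M ρ z' * r1_ext M ρ y') := by rw [tz'G]
      _ = r1_ext M ρ b * r1_ext M ρ bm * r1_ext M ρ zy * t *
            ((r1_ext M ρ z')⁻¹ * r1_ext M ρ m2 * r1_ext M ρ z' * r1_ext M ρ y') := by group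

/-- the count -/
theorem r1_count (M : R1Model Gm) [Finite M.B] [Finite M.U] (ρ : ↥M.B →* G) (t : G)
    (hc : R1Compat M ρ t)
    (hgen : Subgroup.closure (Set.range ρ ∪ {t}) = ⊤)
    (hall : ∀ x ∈ M.U, x ≠ 1 → R1Rel M ρ t x) :
    Finite G ∧ Nat.card G ≤ Nat.card M.B * (1 + Nat.card M.U) := by
  classical
  -- the images of `B` and `U`
  let Bρ : Subgroup G := ρ.range
  let Xρ : Subgroup G := (M.U.subgroupOf M.B).map ρ
  have hBfin : Finite Bρ := by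
    have : Finite (Set.range ρ) := Set.finite_range ρ
    exact this
  have hXB : Xρ ≤ Bρ := by
    rintro g ⟨b, -, rfl⟩
    exact ⟨b, rfl⟩
  have hcardB : Nat.card Bρ ≤ Nat.card M.B :=
    Nat.card_le_card_of_surjective ρ.rangeRestrict ρ.rangeRestrict_surjective
  have hcardX : Nat.card Xρ ≤ Nat.card M.U := by
    have h1 : Nat.card Xρ ≤ Nat.card (M.U.subgroupOf M.B) := by
      apply Nat.card_le_card_of_surjective
        (fun u : M.U.subgroupOf M.B => (⟨ρ u.1, ⟨u.1, u.2, rfl⟩⟩ : Xρ))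
      rintro ⟨_, b, hb, rfl⟩
      exact ⟨⟨b, hb⟩, rfl⟩
    have h2 : Nat.card (M.U.subgroupOf M.B) = Nat.card M.U :=
      Nat.card_congr (Subgroup.subgroupOfEquivOfLe M.U_le).toEquiv
    omega
  -- memberships in the images
  have memB : ∀ {g : Gm}, g ∈ M.B → r1_ext M ρ g ∈ Bρ := by
    intro g hg
    rw [h6r_ext_of_mem M ρ hg]
    exact ⟨_, rfl⟩
  have memX : ∀ {g : Gm}, g ∈ M.U → r1_ext M ρ g ∈ Xρ := by
    intro g hg
    rw [h6r_ext_of_mem M ρ (M.U_le hg)]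
    exact ⟨⟨g, M.U_le hg⟩, Subgroup.mem_subgroupOf.mpr hg, rfl⟩
  have key := h6_rank_one_count Bρ Xρ hXB t (by rw [hc.1]; exact Bρ.one_mem) ?_ ?_ ?_
  · refine ⟨key.1, key.2.trans ?_⟩
    exact Nat.mul_le_mul hcardB (Nat.add_le_add_left hcardX 1)
  · -- `t * b ∈ B t X`
    rintro _ ⟨b, rfl⟩
    obtain ⟨x, hx, z, hz, e⟩ := M.B_eq b.1 b.2
    have hxB := M.U_le hx
    have hzB := M.H_le hz
    have hb : ρ b = r1_ext M ρ z * r1_ext M ρ (z⁻¹ * x * z) := by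
      have e' : (b : Gm) = z * (z⁻¹ * x * z) := by rw [e]; group
      have : r1_ext M ρ (b : Gm) = ρ b := by rw [h6r_ext_of_mem M ρ b.2]
      rw [← this, e', h6r_ext_mul M ρ hzB (M.B.mul_mem (M.B.mul_mem (M.B.inv_mem hzB) hxB) hzB)]
    have hxU' : z⁻¹ * x * z ∈ M.U := by
      have := M.H_norm z⁻¹ (M.H.inv_mem hz) x hx
      rwa [inv_inv] at this
    refine ⟨r1_ext M ρ (M.tm * z * M.tm), memB (M.H_le (M.tm_H z hz)),
      r1_ext M ρ (z⁻¹ * x * z), memX hxU', ?_⟩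
    rw [hb, ← mul_assoc, h6r_t_z M ρ t hc hz]
  · -- `t * x * t`
    rintro _ ⟨u, hu, rfl⟩
    have huU : (u : Gm) ∈ M.U := Subgroup.mem_subgroupOf.mp hu
    by_cases h1 : (u : Gm) = 1
    · left
      have : u = 1 := Subtype.ext h1
      rw [this, map_one, mul_one, hc.1]
      exact Bρ.one_mem
    · right
      obtain ⟨-, b, hb, x', hx', -, e2⟩ := hall u huU h1
      refine ⟨r1_ext M ρ b, memB hb, r1_ext M ρ x', memX hx', ?_⟩
      rw [← e2, h6r_ext_of_mem M ρ u.2]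
  · exact hgen

end rank1

end Cfsg.Agent.SU3Pres
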