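import Mathlib
import Cfsg.Agent.SU3Pres.H5_MatU5
import Cfsg.Agent.SU3Pres.Rank1
import Cfsg.Agent.SU3Pres.Omega

/-!
# S2289 swarm, piece `GSide` (helper5): instantiation of the abstract rank-one machine
(`Rank1.lean`, helper6) at the matrix model `SU_3(q) ≤ SL_3(F)` (`H5_MatU*.lean`), in the shapes of
`omega_induction` (`Omega.lean`, helper4).

* `u3_model hF : R1Model (SL(3,F))` : `B = u3_BM hF`, `U = u3_UM hF`, `H = u3_HM F q`, `tm = u3_t`;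
* `gs_K hF ρ t a b := R1Rel (u3_model hF) ρ t (U q a b)`;
* `gs_hH`, `gs_hrule` : the two closure hypotheses of `omega_induction` for `K := gs_K hF ρ t`;
* `gs_card_le` : if `gs_K` holds for all `(a, b)` with `b ≠ 0`, then `|G̃| ≤ q³(q²−1)(1+q³)`.
-/

set_option autoImplicit false

namespace Cfsg.Agent.SU3Pres

open Matrix Cfsg Cfsg.Agent.SU3G

section gside

variable {F : Type*} [Field F] [Fintype F] {q : ℕ}

/-- the matrix model of the rank-one machine -/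
def u3_model (hF : Fintype.card F = q ^ 2) : R1Model (SpecialLinearGroup (Fin 3) F) where
  B := u3_BM hF
  U := u3_UM hF
  H := u3_HM F q
  tm := u3_t
  U_le := u3_UM_le_BM hF
  H_le := u3_HM_le_BM hF
  B_eq := by
    rintro _ ⟨a, b, z, h, rfl⟩
    exact ⟨U q a b, ⟨a, b, h, rfl⟩, u3_h q z, (u3_mem_HM _).2 ⟨z, rfl⟩, rfl⟩
  H_norm := by
    intro z hz x hx
    obtain ⟨w, rfl⟩ := (u3_mem_HM z).1 hz
    obtain ⟨a, b, h, rfl⟩ := hx
    rw [u3_h_conj_U hF]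
    exact ⟨_, _, u3_cond_conj hF w h, rfl⟩
  tm_sq := u3_t_sq
  tm_H := by
    intro z hz
    obtain ⟨w, rfl⟩ := (u3_mem_HM z).1 hz
    rw [u3_t_h hF]
    exact (u3_mem_HM _).2 ⟨_, rfl⟩
  uniq := fun b hb x hx b' hb' x' hx' h => u3_btx_unique hF hb hb' hx hx' h
  disj := fun b hb x hx b' hb' h => u3_btx_not_mem hF hb hx (h ▸ hb')

@[simp] theorem u3_model_B (hF : Fintype.card F = q ^ 2) : (u3_model hF).B = u3_BM hF := rfl
@[simp] theorem u3_model_U (hF : Fintype.card F = q ^ 2) : (u3_model hF).U = u3_UM hF := rfl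
@[simp] theorem u3_model_H (hF : Fintype.card F = q ^ 2) : (u3_model hF).H = u3_HM F q := rfl
@[simp] theorem u3_model_tm (hF : Fintype.card F = q ^ 2) :
    (u3_model hF).tm = (u3_t : SpecialLinearGroup (Fin 3) F) := rfl

variable {G : Type*} [Group G]

/-- "the rank-one relation is known for `U(a,b)`" -/
def gs_K (hF : Fintype.card F = q ^ 2) (ρ : ↥(u3_model hF).B →* G) (t : G) (a b : F) : Prop :=
  R1Rel (u3_model hF) ρ t (U q a b)

theorem gs_U_mem (hF : Fintype.card F = q ^ 2) {a b : F} (h : Ucond q a b) :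
    U q a b ∈ (u3_model hF).U := ⟨a, b, h, rfl⟩

theorem gs_h_mem (hF : Fintype.card F = q ^ 2) (z : Fˣ) : u3_h q z ∈ (u3_model hF).H :=
  (u3_mem_HM _).2 ⟨z, rfl⟩

/-- `r1_ext` on the Borel subgroup -/
theorem gs_ext_mem (hF : Fintype.card F = q ^ 2) (ρ : ↥(u3_model hF).B →* G)
    {g : SpecialLinearGroup (Fin 3) F} (hg : g ∈ (u3_model hF).B) :
    r1_ext (u3_model hF) ρ g = ρ ⟨g, hg⟩ := by
  unfold r1_ext
  exact dif_pos hg

/-- `R1Compat` spelled out on the torus `h(z)` -/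
theorem gs_compat_iff (hF : Fintype.card F = q ^ 2) (ρ : ↥(u3_model hF).B →* G) (t : G) :
    R1Compat (u3_model hF) ρ t ↔ t * t = 1 ∧ ∀ z : Fˣ,
      t * r1_ext (u3_model hF) ρ (u3_h q z) * t =
        r1_ext (u3_model hF) ρ (u3_h q ((z ^ q)⁻¹)) := by
  unfold R1Compat
  refine and_congr_right fun _ => ?_
  constructor
  · intro h z
    have := h _ (gs_h_mem hF z)
    rwa [u3_model_tm, u3_t_h hF] at this
  · intro h z hz
    obtain ⟨w, rfl⟩ := (u3_mem_HM z).1 hz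
    rw [u3_model_tm, u3_t_h hF]
    exact h w

/-- `gs_K a b` is the `ρ`-image of the rank-one identity `u3_rank_one` (for `b ≠ 0`) -/
theorem gs_K_iff (hF : Fintype.card F = q ^ 2) (ρ : ↥(u3_model hF).B →* G) (t : G)
    (a b : F) (hab : Ucond q a b) (hb : b ≠ 0) :
    gs_K hF ρ t a b ↔
      t * r1_ext (u3_model hF) ρ (U q a b) * t =
        r1_ext (u3_model hF) ρ (U q (-a * (b ^ q)⁻¹) b⁻¹ *
          u3_h q (Units.mk0 (b ^ q)⁻¹ (inv_ne_zero (pow_ne_zero _ hb)))) * t *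
          r1_ext (u3_model hF) ρ (U q (-a * b⁻¹) b⁻¹) := by
  have hy1 : Ucond q (-a * (b ^ q)⁻¹) b⁻¹ := u3_cond_x1 hF a b hb hab
  have hy2 : Ucond q (-a * b⁻¹) b⁻¹ := u3_cond_x2 hF a b hb hab
  have hB : U q (-a * (b ^ q)⁻¹) b⁻¹ *
      u3_h q (Units.mk0 (b ^ q)⁻¹ (inv_ne_zero (pow_ne_zero _ hb))) ∈ (u3_model hF).B :=
    ⟨_, _, _, hy1, rfl⟩
  have ey := u3_rank_one hF a b hb hab
  constructor
  · rintro ⟨_, b', hb', x', hx', e, hrel⟩
    rw [u3_model_tm, ey] at e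
    obtain ⟨e1, e2⟩ := (u3_model hF).uniq _ hB _ (gs_U_mem hF hy2) _ hb' _ hx' e
    rw [e1, e2]
    exact hrel
  · intro h
    exact ⟨gs_U_mem hF hab, _, hB, _, gs_U_mem hF hy2, ey, h⟩

/-- `hH` of `omega_induction` -/
theorem gs_hH (hF : Fintype.card F = q ^ 2) (ρ : ↥(u3_model hF).B →* G) (t : G)
    (hc : R1Compat (u3_model hF) ρ t) :
    ∀ (z : Fˣ) (a b : F), Ucond q a b → b ≠ 0 → gs_K hF ρ t a b →
      gs_K hF ρ t ((z : F) ^ 2 * ((z : F) ^ q)⁻¹ * a) ((z : F) ^ (q + 1) * b) := by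
  intro z a b _ _ hK
  have h := r1_conj (u3_model hF) ρ t hc (U q a b) (u3_h q z) (gs_h_mem hF z) hK
  rw [u3_h_conj_U hF] at h
  unfold gs_K
  rw [pow_succ' (z : F) q]
  exact h

/-- `hrule` of `omega_induction` -/
theorem gs_hrule (hF : Fintype.card F = q ^ 2) (ρ : ↥(u3_model hF).B →* G) (t : G)
    (hc : R1Compat (u3_model hF) ρ t) :
    ∀ c a b : F, c ≠ 0 → c + c ^ q = 0 → Ucond q a b → b ≠ 0 → b + c ≠ 0 →
      gs_K hF ρ t 0 c → gs_K hF ρ t a b → gs_K hF ρ t (-(a / b ^ q)) (1 / c + 1 / b) →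
      gs_K hF ρ t a (c + b) := by
  intro c a b hc0 hcq hab hb _ hKx hKy hKm
  have hq := u3_q_ne hF
  have hcU : Ucond q (0 : F) c := by
    unfold Ucond
    rw [zero_mul, add_zero]; exact hcq
  have ex := u3_rank_one hF 0 c hc0 hcU
  have ey := u3_rank_one hF a b hb hab
  have e0 : -(0 : F) * (c ^ q)⁻¹ = 0 := by ring
  have e0' : -(0 : F) * c⁻¹ = 0 := by ring
  rw [e0, e0'] at ex
  have hx1 : Ucond q (0 : F) c⁻¹ := by
    have := u3_cond_x2 hF 0 c hc0 hcU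
    rwa [e0'] at this
  have hy1 : Ucond q (-a * (b ^ q)⁻¹) b⁻¹ := u3_cond_x1 hF a b hb hab
  have hy2 : Ucond q (-a * b⁻¹) b⁻¹ := u3_cond_x2 hF a b hb hab
  have hbx : U q (0 : F) c⁻¹ * u3_h q (Units.mk0 (c ^ q)⁻¹ (inv_ne_zero (pow_ne_zero _ hc0))) ∈
      (u3_model hF).B := ⟨0, c⁻¹, _, hx1, rfl⟩
  have hm : R1Rel (u3_model hF) ρ t (U q (0 : F) c⁻¹ * U q (-a * (b ^ q)⁻¹) b⁻¹) := by
    rw [h5_U_mul hF]
    have e1 : (0 : F) + -a * (b ^ q)⁻¹ = -(a / b ^ q) := by rw [div_eq_mul_inv]; ring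
    have e2 : c⁻¹ + b⁻¹ - 0 * (-a * (b ^ q)⁻¹) ^ q = 1 / c + 1 / b := by
      rw [one_div, one_div]; ring
    rw [e1, e2]
    exact hKm
  have h := r1_rule (u3_model hF) ρ t hc (U q 0 c) (U q a b) _ _ _ _ _ hbx (gs_U_mem hF hx1)
    (gs_U_mem hF hy1) (gs_h_mem hF _) (gs_U_mem hF hy2) ex ey hKx hKy hm
  rw [h5_U_mul hF] at h
  have e3 : (0 : F) + a = a := zero_add a
  have e4 : c + b - 0 * a ^ q = c + b := by ring
  rw [e3, e4] at h
  exact h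

/-- the count -/
theorem gs_card_le (hF : Fintype.card F = q ^ 2) (ρ : ↥(u3_model hF).B →* G) (t : G)
    (hc : R1Compat (u3_model hF) ρ t)
    (hgen : Subgroup.closure (Set.range ρ ∪ {t}) = ⊤)
    (hall : ∀ a b : F, Ucond q a b → b ≠ 0 → gs_K hF ρ t a b) :
    Finite G ∧ Nat.card G ≤ q ^ 3 * (q ^ 2 - 1) * (1 + q ^ 3) := by
  haveI : Finite (u3_model hF).B := by
    show Finite (u3_BM hF); infer_instance
  haveI : Finite (u3_model hF).U := by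
    show Finite (u3_UM hF); infer_instance
  have h := r1_count (u3_model hF) ρ t hc hgen (by
    rintro x ⟨a, b, hab, rfl⟩ hx1
    apply hall a b hab
    rintro rfl
    apply hx1
    have ha : a = 0 := u3_a_zero_of_b_zero a hab (u3_q_ne hF)
    rw [ha, h5_U_zero hF])
  refine ⟨h.1, ?_⟩
  have hB : Nat.card (u3_model hF).B = q ^ 3 * (q ^ 2 - 1) := u3_card_BM hF
  have hU : Nat.card (u3_model hF).U = q ^ 3 := u3_card_UM hF
  rw [hB, hU] at h
  exact h.2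

/-- **One-stop theorem**: seeds + compatibility ⇒ `|G̃| ≤ q³(q²−1)(1+q³)`
(`omega_induction` + `gs_hH` + `gs_hrule` + `gs_card_le`). -/
theorem gs_main (hF : Fintype.card F = q ^ 2) (ρ : ↥(u3_model hF).B →* G) (t : G)
    (hc : R1Compat (u3_model hF) ρ t)
    (hgen : Subgroup.closure (Set.range ρ ∪ {t}) = ⊤)
    (ζ : Fˣ) (hζ : ∀ x : Fˣ, x ∈ Subgroup.zpowers ζ)
    (c0 : F) (hc0 : c0 ≠ 0) (hc0' : c0 + c0 ^ q = 0) (hK0 : gs_K hF ρ t 0 c0)
    (bs : F) (hbs : bs + bs ^ q = -1)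
    (hω : ∀ ω : F, ω ^ (q + 1) = 1 → ∃ n : ℕ, ω = (-(bs / bs ^ q)) ^ n)
    (hseed : ∀ i : ℕ, i < 3 →
      gs_K hF ρ t ((ζ : F) ^ i) ((ζ : F) ^ i * ((ζ : F) ^ i) ^ q * bs)) :
    Finite G ∧ Nat.card G ≤ q ^ 3 * (q ^ 2 - 1) * (1 + q ^ 3) :=
  gs_card_le hF ρ t hc hgen
    (omega_induction q (u3_two_le hF) hF ζ hζ (gs_K hF ρ t) (gs_hH hF ρ t hc)
      (gs_hrule hF ρ t hc) c0 hc0 hc0' hK0 bs hbs hω hseed)

end gside

end Cfsg.Agent.SU3Pres
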