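import Mathlib
import Cfsg.Agent.SU3Pres.H2_PSU
import Cfsg.Agent.SU3Pres.Transfer

set_option autoImplicit false

/-!
# S2289, the `PSU₃` side, in the shape used by the assembly (helper2)

From a presentation of `SUJ F q` in which the generator `1` goes to the torus element `u3_h q ζ`
(`ζ` a generator of `Fˣ`) to a presentation of `PSU₃(q)` with one more relator.
-/

namespace Cfsg.Agent.SU3Pres

open Matrix Cfsg Cfsg.Agent.SU3G

variable {F : Type*} [Field F] [Fintype F] {q : ℕ}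

/-- **`PSU₃(q)` from `SUJ F q`**: add the relator `h ^ ((q² - 1) / gcd(3, q + 1))`. -/
theorem psu_pres_suj (hF : Fintype.card F = q ^ 2) (ζ : Fˣ) (hζ : ∀ a : Fˣ, a ∈ Subgroup.zpowers ζ)
    {α : Type*} (i : α) (R : Set (FreeGroup α)) (e : PresentedGroup R ≃* ↥(SUJ F q))
    (he : ((e (PresentedGroup.of i) : ↥(SUJ F q)) : SpecialLinearGroup (Fin 3) F) = u3_h q ζ) :
    Nonempty (PresentedGroup
      (insert ((FreeGroup.of i) ^ ((q ^ 2 - 1) / Nat.gcd 3 (q + 1))) R) ≃* Cfsg.PSU 3 F q) := by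
  obtain ⟨P, P', hPP', -, hc⟩ := suj_equiv_coe hF
  refine psu_pres hF ζ hζ R (e.trans (suj_equiv hF)) _ ?_
  have h1 : (e.trans (suj_equiv hF))
      (PresentedGroup.mk R ((FreeGroup.of i) ^ ((q ^ 2 - 1) / Nat.gcd 3 (q + 1)))) =
      (suj_equiv hF (e (PresentedGroup.of i))) ^ psu_m q := by
    rw [map_pow, map_pow]
    rfl
  rw [h1]
  apply psu_conj_pow_scalar hF ζ P P' hPP'
  rw [hc, he]

/-- The same for a finite list of relators, with the count. -/
theorem psu_pres_suj_list (hF : Fintype.card F = q ^ 2) (ζ : Fˣ)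
    (hζ : ∀ a : Fˣ, a ∈ Subgroup.zpowers ζ) {α : Type*} [DecidableEq α] (i : α)
    (l : List (FreeGroup α)) (n : ℕ) (hn : l.length ≤ n)
    (e : PresentedGroup {r | r ∈ l} ≃* ↥(SUJ F q))
    (he : ((e (PresentedGroup.of i) : ↥(SUJ F q)) : SpecialLinearGroup (Fin 3) F) = u3_h q ζ) :
    ∃ rels : Finset (FreeGroup α), rels.card ≤ n + 1 ∧
      Nonempty (PresentedGroup (↑rels : Set (FreeGroup α)) ≃* Cfsg.PSU 3 F q) := by
  classical
  refine ⟨insert ((FreeGroup.of i) ^ ((q ^ 2 - 1) / Nat.gcd 3 (q + 1))) l.toFinset, ?_, ?_⟩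
  · refine (Finset.card_insert_le _ _).trans ?_
    have := List.toFinset_card_le l
    omega
  · rw [Finset.coe_insert]
    have hset : (↑l.toFinset : Set (FreeGroup α)) = {r | r ∈ l} := by
      ext r; simp
    rw [hset]
    exact psu_pres_suj hF ζ hζ i _ e he

end Cfsg.Agent.SU3Pres
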