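import Cfsg.Agent.SU3Pres.H5_MatU
import Cfsg.Agent.SU3G.H1_Trace

set_option autoImplicit false

/-!
# S2289 (SU_3 presentation), matrix side, layer 2 (helper5): relations in `SUJ F q`
-/

namespace Cfsg.Agent.SU3Pres

open Matrix Cfsg Cfsg.Agent.SU3G

section mat

variable {F : Type*} [Field F] [Fintype F] {q : ℕ}

theorem u3_q_ne (hF : Fintype.card F = q ^ 2) : q ≠ 0 := by
  have := Cfsg.Agent.Helper7.Herm.one_le_q hF
  omega

theorem u3_inv_pow_q (a : F) : (a⁻¹) ^ q = (a ^ q)⁻¹ := inv_pow a q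

/-- `t ∈ SUJ` -/
theorem u3_t_mem (hF : Fintype.card F = q ^ 2) : (u3_t : SpecialLinearGroup (Fin 3) F) ∈ SUJ F q := by
  have hq := u3_q_ne hF
  apply h9_mem_SUJ_of_gram hF u3_t !![0, 0, 1; 0, -1, 0; 1, 0, 0]
  · intro i j
    rw [u3_t_coe]
    fin_cases i <;> fin_cases j <;> simp [zero_pow hq, h5_neg_pow_q hF]
  · rw [u3_t_coe]
    ext i j
    fin_cases i <;> fin_cases j <;>
      simp [h9_J, Matrix.mul_apply, Fin.sum_univ_three, Matrix.vecMul, dotProduct]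

/-- `h(z) ∈ SUJ` -/
theorem u3_h_mem (hF : Fintype.card F = q ^ 2) (z : Fˣ) :
    (u3_h q z : SpecialLinearGroup (Fin 3) F) ∈ SUJ F q := by
  have hq := u3_q_ne hF
  have hz : (z : F) ≠ 0 := z.ne_zero
  have hzq : (z : F) ^ q ≠ 0 := pow_ne_zero _ hz
  apply h9_mem_SUJ_of_gram hF (u3_h q z)
    !![(z : F) ^ q, 0, 0; 0, (z : F) * ((z : F) ^ q)⁻¹, 0; 0, 0, (z : F)⁻¹]
  · intro i j
    rw [u3_h_coe]
    fin_cases i <;> fin_cases j <;>
      simp [zero_pow hq, mul_pow, Cfsg.Agent.Helper7.Herm.pow_q_pow_q hF, inv_pow]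
  · rw [u3_h_coe]
    ext i j
    fin_cases i <;> fin_cases j <;>
      simp [h9_J, Matrix.mul_apply, Fin.sum_univ_three, Matrix.vecMul, dotProduct, hz, hzq]
    field_simp

/-- torus action: `h(z) U(a,b) h(z)⁻¹ = U(z²/z^q · a, z z^q · b)` -/
theorem u3_h_conj_U (hF : Fintype.card F = q ^ 2) (z : Fˣ) (a b : F) :
    u3_h q z * U q a b * (u3_h q z)⁻¹ =
      U q ((z : F) ^ 2 * ((z : F) ^ q)⁻¹ * a) ((z : F) * (z : F) ^ q * b) := by
  have hz : (z : F) ≠ 0 := z.ne_zero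
  have hzq : (z : F) ^ q ≠ 0 := pow_ne_zero _ hz
  rw [mul_inv_eq_iff_eq_mul]
  apply Subtype.ext
  rw [Matrix.SpecialLinearGroup.coe_mul, Matrix.SpecialLinearGroup.coe_mul, u3_h_coe, U_coe, U_coe]
  ext i j
  fin_cases i <;> fin_cases j <;>
    simp [Matrix.mul_apply, Fin.sum_univ_three, Matrix.vecMul, dotProduct, mul_pow, inv_pow,
      Cfsg.Agent.Helper7.Herm.pow_q_pow_q hF]
  all_goals field_simp
  rw [← pow_mul, ← pow_mul, mul_comm q 2, mul_comm]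

/-- `t h(z) t = h(1/z^q)` -/
theorem u3_t_h (hF : Fintype.card F = q ^ 2) (z : Fˣ) :
    (u3_t * u3_h q z * u3_t : SpecialLinearGroup (Fin 3) F) = u3_h q ((z ^ q)⁻¹) := by
  have hz : (z : F) ≠ 0 := z.ne_zero
  have hzq : (z : F) ^ q ≠ 0 := pow_ne_zero _ hz
  apply Subtype.ext
  rw [Matrix.SpecialLinearGroup.coe_mul, Matrix.SpecialLinearGroup.coe_mul, u3_h_coe, u3_h_coe,
    u3_t_coe]
  ext i j
  fin_cases i <;> fin_cases j <;>
    simp [Matrix.mul_apply, Fin.sum_univ_three, Matrix.vecMul, dotProduct, inv_pow,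
      Cfsg.Agent.Helper7.Herm.pow_q_pow_q hF]
  all_goals field_simp

/-- `t h t = h^{-q}` -/
theorem u3_t_h' (hF : Fintype.card F = q ^ 2) (z : Fˣ) :
    (u3_t * u3_h q z * u3_t : SpecialLinearGroup (Fin 3) F) = ((u3_h q z) ^ q)⁻¹ := by
  rw [u3_t_h hF, u3_h_inv, u3_h_pow]

/-- commutator in `U`: `[U(a,b), U(a',b')] = U(0, a' a^q - a a'^q)` -/
theorem u3_U_comm (hF : Fintype.card F = q ^ 2) (a b a' b' : F) :
    U q a b * U q a' b' * (U q a b)⁻¹ * (U q a' b')⁻¹ = U q 0 (a' * a ^ q - a * a' ^ q) := by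
  rw [h5_U_inv hF, h5_U_inv hF, h5_U_mul hF, h5_U_mul hF, h5_U_mul hF]
  congr 1
  · ring
  · rw [h5_neg_pow_q hF, h5_neg_pow_q hF]
    ring

/-- **the rank-one identity**: `t U(a,b) t = U(-a/b^q, 1/b) h(1/b^q) t U(-a/b, 1/b)` -/
theorem u3_rank_one (hF : Fintype.card F = q ^ 2) (a b : F) (hb : b ≠ 0)
    (hab : b + b ^ q + a * a ^ q = 0) :
    (u3_t * U q a b * u3_t : SpecialLinearGroup (Fin 3) F) =
      U q (-a * (b ^ q)⁻¹) b⁻¹ * u3_h q (Units.mk0 (b ^ q)⁻¹ (inv_ne_zero (pow_ne_zero _ hb))) *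
        u3_t * U q (-a * b⁻¹) b⁻¹ := by
  have hbq : b ^ q ≠ 0 := pow_ne_zero _ hb
  apply Subtype.ext
  rw [Matrix.SpecialLinearGroup.coe_mul, Matrix.SpecialLinearGroup.coe_mul,
    Matrix.SpecialLinearGroup.coe_mul, Matrix.SpecialLinearGroup.coe_mul,
    Matrix.SpecialLinearGroup.coe_mul, u3_h_coe, U_coe, U_coe, U_coe, u3_t_coe]
  have e1 : (-a * (b ^ q)⁻¹) ^ q = -(a ^ q) * b⁻¹ := by
    rw [mul_pow, h5_neg_pow_q hF, inv_pow, Cfsg.Agent.Helper7.Herm.pow_q_pow_q hF]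
  have e2 : (-a * b⁻¹) ^ q = -(a ^ q) * (b ^ q)⁻¹ := by
    rw [mul_pow, h5_neg_pow_q hF, inv_pow]
  have e3 : (((Units.mk0 (b ^ q)⁻¹ (inv_ne_zero hbq) : Fˣ) : F)) = (b ^ q)⁻¹ := rfl
  rw [e1, e2, e3]
  have e4 : ((b ^ q)⁻¹) ^ q = b⁻¹ := by
    rw [inv_pow, Cfsg.Agent.Helper7.Herm.pow_q_pow_q hF]
  rw [e4]
  have hA : a * a ^ q = -b - b ^ q := by linear_combination hab
  ext i j
  fin_cases i <;> fin_cases j <;>
    simp [Matrix.mul_apply, Fin.sum_univ_three, Matrix.vecMul, dotProduct]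
  all_goals (try field_simp)
  · ring
  · linear_combination (-1 : F) * hab
  · linear_combination hab
  · ring

/-- the first `U`-factor of the rank-one identity satisfies the unitary condition -/
theorem u3_cond_x1 (hF : Fintype.card F = q ^ 2) (a b : F) (hb : b ≠ 0)
    (hab : b + b ^ q + a * a ^ q = 0) :
    b⁻¹ + (b⁻¹) ^ q + (-a * (b ^ q)⁻¹) * (-a * (b ^ q)⁻¹) ^ q = 0 := by
  have hbq : b ^ q ≠ 0 := pow_ne_zero _ hb
  rw [mul_pow, h5_neg_pow_q hF, inv_pow, inv_pow, Cfsg.Agent.Helper7.Herm.pow_q_pow_q hF]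
  field_simp
  linear_combination hab

/-- the second `U`-factor of the rank-one identity satisfies the unitary condition -/
theorem u3_cond_x2 (hF : Fintype.card F = q ^ 2) (a b : F) (hb : b ≠ 0)
    (hab : b + b ^ q + a * a ^ q = 0) :
    b⁻¹ + (b⁻¹) ^ q + (-a * b⁻¹) * (-a * b⁻¹) ^ q = 0 := by
  have hbq : b ^ q ≠ 0 := pow_ne_zero _ hb
  rw [mul_pow, h5_neg_pow_q hF, inv_pow]
  field_simp
  linear_combination hab

/-- `U(a,0)` unitary forces `a = 0` -/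
theorem u3_a_zero_of_b_zero (a : F) (hab : (0 : F) + (0 : F) ^ q + a * a ^ q = 0) (hq : q ≠ 0) :
    a = 0 := by
  rw [zero_pow hq, add_zero, zero_add] at hab
  rcases mul_eq_zero.mp hab with h | h
  · exact h
  · exact pow_eq_zero_iff hq |>.mp h

/-- generation: a subgroup of `SUJ` containing all unitary `U(a,b)` and `t` is `SUJ` -/
theorem u3_gen (hF : Fintype.card F = q ^ 2) (hq : 3 ≤ q)
    (K : Subgroup (SpecialLinearGroup (Fin 3) F)) (hK : K ≤ SUJ F q)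
    (hU : ∀ a b : F, b + b ^ q + a * a ^ q = 0 → U q a b ∈ K) (ht : u3_t ∈ K) :
    K = SUJ F q := by
  apply gen_top hF hq K hK
  · intro a
    have hc : (-(a * a ^ q)) ^ q = -(a * a ^ q) := by
      rw [h5_neg_pow_q hF, mul_pow, Cfsg.Agent.Helper7.Herm.pow_q_pow_q hF, mul_comm]
    obtain ⟨b, hb⟩ := h1_su_trace_surj q hF (by omega) _ hc
    exact ⟨b, hU a b (by rw [hb]; ring)⟩
  · exact ⟨u3_t, ht, by rw [u3_t_coe]; simp⟩

end mat

end Cfsg.Agent.SU3Pres
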