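import Cfsg.Agent.SU3Pres.H5_MatU2

set_option autoImplicit false

/-!
# S2289 (SU_3 presentation), matrix side, layer 3 (helper5): `UM`, `HM`, `BM`, Bruhat decomposition
-/

namespace Cfsg.Agent.SU3Pres

open Matrix Cfsg Cfsg.Agent.SU3G

section mat

variable {F : Type*} [Field F] [Fintype F] {q : ℕ}

/-- the unitary condition on `(a,b)` -/
def u3_cond (q : ℕ) (a b : F) : Prop := b + b ^ q + a * a ^ q = 0

theorem u3_cond_iff (hF : Fintype.card F = q ^ 2) (a b : F) :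
    u3_cond q a b ↔ U q a b ∈ SUJ F q :=
  ⟨fun h => h9_U_mem hF a b h, fun h => h1g_U_cond hF a b h⟩

theorem u3_cond_zero (hF : Fintype.card F = q ^ 2) : u3_cond q (0 : F) 0 := by
  simp [u3_cond, zero_pow (u3_q_ne hF)]

theorem u3_cond_mul (hF : Fintype.card F = q ^ 2) {a b a' b' : F} (h : u3_cond q a b)
    (h' : u3_cond q a' b') : u3_cond q (a + a') (b + b' - a * a' ^ q) := by
  rw [u3_cond_iff hF, ← h5_U_mul hF]
  exact (SUJ F q).mul_mem ((u3_cond_iff hF _ _).1 h) ((u3_cond_iff hF _ _).1 h')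

theorem u3_cond_inv (hF : Fintype.card F = q ^ 2) {a b : F} (h : u3_cond q a b) :
    u3_cond q (-a) (-b - a * a ^ q) := by
  rw [u3_cond_iff hF, ← h5_U_inv hF]
  exact (SUJ F q).inv_mem ((u3_cond_iff hF _ _).1 h)

theorem u3_cond_conj (hF : Fintype.card F = q ^ 2) (z : Fˣ) {a b : F} (h : u3_cond q a b) :
    u3_cond q ((z : F) ^ 2 * ((z : F) ^ q)⁻¹ * a) ((z : F) * (z : F) ^ q * b) := by
  rw [u3_cond_iff hF, ← u3_h_conj_U hF]
  exact (SUJ F q).mul_mem ((SUJ F q).mul_mem (u3_h_mem hF z) ((u3_cond_iff hF _ _).1 h))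
    ((SUJ F q).inv_mem (u3_h_mem hF z))

theorem u3_U_injective {a b a' b' : F} (h : U q a b = U q a' b') : a = a' ∧ b = b' := by
  have h' := congrArg (fun M : SpecialLinearGroup (Fin 3) F => (M : Matrix (Fin 3) (Fin 3) F)) h
  simp only [U_coe] at h'
  exact ⟨by simpa using congrFun (congrFun h' 0) 1, by simpa using congrFun (congrFun h' 0) 2⟩

/-- the unipotent radical `UM = {U(a,b)}` -/
def u3_UM (hF : Fintype.card F = q ^ 2) : Subgroup (SpecialLinearGroup (Fin 3) F) where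
  carrier := {g | ∃ a b : F, u3_cond q a b ∧ g = U q a b}
  mul_mem' := by
    rintro _ _ ⟨a, b, h, rfl⟩ ⟨a', b', h', rfl⟩
    exact ⟨_, _, u3_cond_mul hF h h', h5_U_mul hF a b a' b'⟩
  one_mem' := ⟨0, 0, u3_cond_zero hF, (h5_U_zero hF).symm⟩
  inv_mem' := by
    rintro _ ⟨a, b, h, rfl⟩
    exact ⟨_, _, u3_cond_inv hF h, h5_U_inv hF a b⟩

theorem u3_mem_UM (hF : Fintype.card F = q ^ 2) (g : SpecialLinearGroup (Fin 3) F) :
    g ∈ u3_UM hF ↔ ∃ a b : F, u3_cond q a b ∧ g = U q a b := Iff.rfl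

/-- the torus `HM = {h(z)}` -/
def u3_HM (F : Type*) [Field F] [Fintype F] (q : ℕ) : Subgroup (SpecialLinearGroup (Fin 3) F) :=
  (u3_hHom q).range

theorem u3_mem_HM (g : SpecialLinearGroup (Fin 3) F) :
    g ∈ u3_HM F q ↔ ∃ z : Fˣ, g = u3_h q z := by
  constructor
  · rintro ⟨z, rfl⟩
    exact ⟨z, rfl⟩
  · rintro ⟨z, rfl⟩
    exact ⟨z, rfl⟩

/-- the Borel subgroup `BM = UM ⋊ HM` -/
def u3_BM (hF : Fintype.card F = q ^ 2) : Subgroup (SpecialLinearGroup (Fin 3) F) where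
  carrier := {g | ∃ (a b : F) (z : Fˣ), u3_cond q a b ∧ g = U q a b * u3_h q z}
  mul_mem' := by
    rintro _ _ ⟨a, b, z, h, rfl⟩ ⟨a', b', z', h', rfl⟩
    refine ⟨_, _, z * z', u3_cond_mul hF h (u3_cond_conj hF z h'), ?_⟩
    rw [← h5_U_mul hF, ← u3_h_conj_U hF, u3_h_mul]
    group
  one_mem' := ⟨0, 0, 1, u3_cond_zero hF, by rw [h5_U_zero hF, u3_h_one, one_mul]⟩
  inv_mem' := by
    rintro _ ⟨a, b, z, h, rfl⟩
    refine ⟨_, _, z⁻¹, u3_cond_conj hF z⁻¹ (u3_cond_inv hF h), ?_⟩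
    rw [← u3_h_conj_U hF, ← h5_U_inv hF, u3_h_inv]
    group

theorem u3_mem_BM (hF : Fintype.card F = q ^ 2) (g : SpecialLinearGroup (Fin 3) F) :
    g ∈ u3_BM hF ↔ ∃ (a b : F) (z : Fˣ), u3_cond q a b ∧ g = U q a b * u3_h q z := Iff.rfl

theorem u3_UM_le_BM (hF : Fintype.card F = q ^ 2) : u3_UM hF ≤ u3_BM hF := by
  rintro _ ⟨a, b, h, rfl⟩
  exact ⟨a, b, 1, h, by rw [u3_h_one, mul_one]⟩

theorem u3_HM_le_BM (hF : Fintype.card F = q ^ 2) : u3_HM F q ≤ u3_BM hF := by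
  intro g hg
  obtain ⟨z, rfl⟩ := (u3_mem_HM g).1 hg
  exact ⟨0, 0, z, u3_cond_zero hF, by rw [h5_U_zero hF, one_mul]⟩

theorem u3_UM_le_SUJ (hF : Fintype.card F = q ^ 2) : u3_UM hF ≤ SUJ F q := by
  rintro _ ⟨a, b, h, rfl⟩
  exact (u3_cond_iff hF a b).1 h

theorem u3_BM_le_SUJ (hF : Fintype.card F = q ^ 2) : u3_BM hF ≤ SUJ F q := by
  rintro _ ⟨a, b, z, h, rfl⟩
  exact (SUJ F q).mul_mem ((u3_cond_iff hF a b).1 h) (u3_h_mem hF z)

/-- entries of `U(a,b) h(z)` -/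
theorem u3_Uh_coe (a b : F) (z : Fˣ) :
    ((U q a b * u3_h q z : SpecialLinearGroup (Fin 3) F) : Matrix (Fin 3) (Fin 3) F) =
      !![(z : F), a * ((z : F) ^ q * (z : F)⁻¹), b * ((z : F) ^ q)⁻¹;
         0, (z : F) ^ q * (z : F)⁻¹, -(a ^ q) * ((z : F) ^ q)⁻¹;
         0, 0, ((z : F) ^ q)⁻¹] := by
  rw [Matrix.SpecialLinearGroup.coe_mul, U_coe, u3_h_coe]
  ext i j
  fin_cases i <;> fin_cases j <;>
    simp [Matrix.mul_apply, Fin.sum_univ_three, Matrix.vecMul, dotProduct]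

/-- uniqueness of the normal form in `BM` -/
theorem u3_Uh_injective {a b a' b' : F} {z z' : Fˣ}
    (h : (U q a b * u3_h q z : SpecialLinearGroup (Fin 3) F) = U q a' b' * u3_h q z') :
    a = a' ∧ b = b' ∧ z = z' := by
  have h' := congrArg (fun M : SpecialLinearGroup (Fin 3) F => (M : Matrix (Fin 3) (Fin 3) F)) h
  simp only [u3_Uh_coe] at h'
  have hz : (z : F) = z' := by simpa using congrFun (congrFun h' 0) 0
  have hzz : z = z' := Units.ext hz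
  subst hzz
  have hU : U q a b = U q a' b' := mul_right_cancel h
  obtain ⟨h1, h2⟩ := u3_U_injective hU
  exact ⟨h1, h2, rfl⟩

/-- elements of `BM` have `(2,0)`-entry `0` -/
theorem u3_BM_entry (hF : Fintype.card F = q ^ 2) {g : SpecialLinearGroup (Fin 3) F}
    (hg : g ∈ u3_BM hF) : (g : Matrix (Fin 3) (Fin 3) F) 2 0 = 0 ∧
      (g : Matrix (Fin 3) (Fin 3) F) 1 0 = 0 ∧ (g : Matrix (Fin 3) (Fin 3) F) 2 1 = 0 := by
  obtain ⟨a, b, z, _, rfl⟩ := hg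
  rw [u3_Uh_coe]
  simp

theorem u3_t_not_mem_BM (hF : Fintype.card F = q ^ 2) :
    (u3_t : SpecialLinearGroup (Fin 3) F) ∉ u3_BM hF := by
  intro h
  have := (u3_BM_entry hF h).1
  rw [u3_t_coe] at this
  simp at this

end mat

end Cfsg.Agent.SU3Pres
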