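import Cfsg.Agent.SU3Pres.H5_MatU3

set_option autoImplicit false

/-!
# S2289 (SU_3 presentation), matrix side, layer 4 (helper5): Bruhat decomposition of `SUJ F q`
-/

namespace Cfsg.Agent.SU3Pres

open Matrix Cfsg Cfsg.Agent.SU3G

section mat

variable {F : Type*} [Field F] [Fintype F] {q : ℕ}

theorem u3_col0 (m : Matrix (Fin 3) (Fin 3) F) : m *ᵥ ![1, 0, 0] = ![m 0 0, m 1 0, m 2 0] := by
  rw [h1g_mulVec3]; simp

theorem u3_col1 (m : Matrix (Fin 3) (Fin 3) F) : m *ᵥ ![0, 1, 0] = ![m 0 1, m 1 1, m 2 1] := by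
  rw [h1g_mulVec3]; simp

theorem u3_col2 (m : Matrix (Fin 3) (Fin 3) F) : m *ᵥ ![0, 0, 1] = ![m 0 2, m 1 2, m 2 2] := by
  rw [h1g_mulVec3]; simp

/-- `t U(a,b) t` is lower unitriangular -/
theorem u3_tUt_coe (a b : F) :
    ((u3_t * U q a b * u3_t : SpecialLinearGroup (Fin 3) F) : Matrix (Fin 3) (Fin 3) F) =
      !![1, 0, 0; a ^ q, 1, 0; b, -a, 1] := by
  rw [Matrix.SpecialLinearGroup.coe_mul, Matrix.SpecialLinearGroup.coe_mul, U_coe, u3_t_coe]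
  ext i j
  fin_cases i <;> fin_cases j <;>
    simp [Matrix.mul_apply, Fin.sum_univ_three, Matrix.vecMul, dotProduct]

/-- **Lemma A**: an element of `SUJ` with `(2,0)`-entry `0` lies in `BM` -/
theorem u3_mem_BM_of_entry (hF : Fintype.card F = q ^ 2) (M : SpecialLinearGroup (Fin 3) F)
    (hM : M ∈ SUJ F q) (h20 : (M : Matrix (Fin 3) (Fin 3) F) 2 0 = 0) : M ∈ u3_BM hF := by
  have hq := u3_q_ne hF
  have frob := Cfsg.Agent.Helper7.Herm.pow_q_pow_q hF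
  set m : Matrix (Fin 3) (Fin 3) F := (M : Matrix (Fin 3) (Fin 3) F) with hm
  have key : ∀ x y : Fin 3 → F, hJ q (m *ᵥ x) (m *ᵥ y) = hJ q x y := (mem_SUJ M).1 hM
  -- first column
  have h10 : m 1 0 = 0 := by
    have h1 := h1g_iso_e1 hq (m *ᵥ ![1, 0, 0]) (h1g_col_iso hF M hM)
      (by rw [u3_col0]; simpa using h20)
    rw [u3_col0] at h1
    simpa using h1
  have hdet : m.det = 1 := M.2
  rw [Matrix.det_fin_three, h10, h20] at hdet
  have hl : m 0 0 ≠ 0 := by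
    intro h0
    rw [h0] at hdet
    simp at hdet
  -- `e₁, e₂`
  have h21 : m 2 1 = 0 := by
    have h1 := key ![1, 0, 0] ![0, 1, 0]
    rw [u3_col0, u3_col1, h1g_hJ_apply, h1g_hJ_apply, h10, h20] at h1
    simp [zero_pow hq] at h1
    rcases h1 with h1 | h1
    · exact absurd h1 hl
    · exact h1.1
  -- `e₁, e₃`
  have h22 : m 0 0 * m 2 2 ^ q = 1 := by
    have h1 := key ![1, 0, 0] ![0, 0, 1]
    rw [u3_col0, u3_col2, h1g_hJ_apply, h1g_hJ_apply, h10, h20] at h1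
    simpa [zero_pow hq] using h1
  -- `e₂, e₃`
  have h12 : m 0 1 * m 2 2 ^ q + m 1 1 * m 1 2 ^ q = 0 := by
    have h1 := key ![0, 1, 0] ![0, 0, 1]
    rw [u3_col1, u3_col2, h1g_hJ_apply, h1g_hJ_apply, h21] at h1
    simpa [zero_pow hq] using h1
  rw [h21] at hdet
  have hdet' : m 0 0 * m 1 1 * m 2 2 = 1 := by linear_combination hdet
  have hlq : m 0 0 ^ q ≠ 0 := pow_ne_zero _ hl
  have e22 : m 2 2 = (m 0 0 ^ q)⁻¹ := by
    have h1 : m 2 2 ^ q = (m 0 0)⁻¹ := by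
      field_simp
      linear_combination h22
    calc m 2 2 = (m 2 2 ^ q) ^ q := (frob _).symm
      _ = (m 0 0 ^ q)⁻¹ := by rw [h1, inv_pow]
  have e11 : m 1 1 = m 0 0 ^ q * (m 0 0)⁻¹ := by
    rw [e22] at hdet'
    field_simp
    field_simp at hdet'
    linear_combination hdet'
  have e12 : m 1 2 = -(m 0 1 ^ q) * (m 0 0)⁻¹ := by
    have h1 : m 1 2 ^ q = -(m 0 1) * (m 0 0 ^ q)⁻¹ := by
      rw [e22, e11, inv_pow, frob] at h12
      field_simp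
      field_simp at h12
      linear_combination h12
    calc m 1 2 = (m 1 2 ^ q) ^ q := (frob _).symm
      _ = -(m 0 1 ^ q) * (m 0 0)⁻¹ := by
        rw [h1, mul_pow, h5_neg_pow_q hF, inv_pow, frob]
  -- the normal form
  set z : Fˣ := Units.mk0 (m 0 0) hl with hz
  have hzc : (z : F) = m 0 0 := rfl
  set a : F := m 0 1 * (m 0 0 * (m 0 0 ^ q)⁻¹) with ha
  set b : F := m 0 2 * m 0 0 ^ q with hb
  have hMeq : M = U q a b * u3_h q z := by
    apply Subtype.ext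
    rw [u3_Uh_coe, hzc]
    show m = _
    have haq : a ^ q = m 0 1 ^ q * (m 0 0 ^ q * (m 0 0)⁻¹) := by
      rw [ha, mul_pow, mul_pow, inv_pow, frob]
    ext i j
    fin_cases i <;> fin_cases j
    · rfl
    · show m 0 1 = a * (m 0 0 ^ q * (m 0 0)⁻¹)
      rw [ha]; field_simp
    · show m 0 2 = b * (m 0 0 ^ q)⁻¹
      rw [hb]; field_simp
    · exact h10
    · exact e11
    · show m 1 2 = -(a ^ q) * (m 0 0 ^ q)⁻¹
      rw [e12, haq]; field_simp
    · exact h20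
    · exact h21
    · exact e22
  have hU : U q a b ∈ SUJ F q := by
    have : U q a b = M * (u3_h q z)⁻¹ := by rw [hMeq]; group
    rw [this]
    exact (SUJ F q).mul_mem hM ((SUJ F q).inv_mem (u3_h_mem hF z))
  exact ⟨a, b, z, (u3_cond_iff hF a b).2 hU, hMeq⟩

/-- **Lemma B**: an element of `SUJ` with `(2,0)`-entry `≠ 0` lies in `UM t BM` -/
theorem u3_mem_UtB (hF : Fintype.card F = q ^ 2) (M : SpecialLinearGroup (Fin 3) F)
    (hM : M ∈ SUJ F q) (h20 : (M : Matrix (Fin 3) (Fin 3) F) 2 0 ≠ 0) :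
    ∃ x ∈ u3_UM hF, ∃ b ∈ u3_BM hF, M = x * u3_t * b := by
  have hiso := h1g_col_iso hF M hM
  have hc2 : ((M : Matrix (Fin 3) (Fin 3) F) *ᵥ ![1, 0, 0]) 2 ≠ 0 := by
    rw [h1g_col_2]; exact h20
  obtain ⟨a, b, hab, hw⟩ := h1g_iso_U hF _ hiso hc2
  set x : SpecialLinearGroup (Fin 3) F := U q a b with hx
  have hxS : x ∈ SUJ F q := h9_U_mem hF a b hab
  set N : SpecialLinearGroup (Fin 3) F := u3_t * x⁻¹ * M with hN
  have hNS : N ∈ SUJ F q :=
    (SUJ F q).mul_mem ((SUJ F q).mul_mem (u3_t_mem hF) ((SUJ F q).inv_mem hxS)) hM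
  have hxx : ∀ v : Fin 3 → F, ((x⁻¹ : SpecialLinearGroup (Fin 3) F) : Matrix (Fin 3) (Fin 3) F) *ᵥ
      ((x : Matrix (Fin 3) (Fin 3) F) *ᵥ v) = v := by
    intro v
    rw [mulVec_mulVec, ← Matrix.SpecialLinearGroup.coe_mul, inv_mul_cancel,
      Matrix.SpecialLinearGroup.coe_one, one_mulVec]
  have hN0 : (N : Matrix (Fin 3) (Fin 3) F) 2 0 = 0 := by
    rw [← h1g_col_2, hN, Matrix.SpecialLinearGroup.coe_mul, Matrix.SpecialLinearGroup.coe_mul,
      ← mulVec_mulVec, ← mulVec_mulVec, hw, mulVec_smul, hxx, mulVec_smul, u3_t_coe, u3_col2]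
    simp
  refine ⟨x, ⟨a, b, hab, rfl⟩, N, u3_mem_BM_of_entry hF N hNS hN0, ?_⟩
  rw [hN]
  have := u3_t_sq (F := F)
  calc M = x * (u3_t * u3_t) * x⁻¹ * M := by rw [this]; group
    _ = x * u3_t * (u3_t * x⁻¹ * M) := by group

/-- **Bruhat decomposition** `SUJ = BM ∪ BM t UM` -/
theorem u3_bruhat (hF : Fintype.card F = q ^ 2) (M : SpecialLinearGroup (Fin 3) F)
    (hM : M ∈ SUJ F q) :
    M ∈ u3_BM hF ∨ ∃ b ∈ u3_BM hF, ∃ x ∈ u3_UM hF, M = b * u3_t * x := by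
  by_cases h : M ∈ u3_BM hF
  · exact Or.inl h
  · right
    have hMi : M⁻¹ ∈ SUJ F q := (SUJ F q).inv_mem hM
    have h20 : ((M⁻¹ : SpecialLinearGroup (Fin 3) F) : Matrix (Fin 3) (Fin 3) F) 2 0 ≠ 0 := by
      intro h0
      apply h
      have := (u3_BM hF).inv_mem (u3_mem_BM_of_entry hF M⁻¹ hMi h0)
      rwa [inv_inv] at this
    obtain ⟨x, hx, b, hb, hMx⟩ := u3_mem_UtB hF M⁻¹ hMi h20
    refine ⟨b⁻¹, (u3_BM hF).inv_mem hb, x⁻¹, (u3_UM hF).inv_mem hx, ?_⟩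
    have e : M = (M⁻¹)⁻¹ := (inv_inv M).symm
    rw [e, hMx, _root_.mul_inv_rev, _root_.mul_inv_rev, u3_t_inv, mul_assoc]

/-- uniqueness in the big cell -/
theorem u3_btx_unique (hF : Fintype.card F = q ^ 2) {b b' x x' : SpecialLinearGroup (Fin 3) F}
    (hb : b ∈ u3_BM hF) (hb' : b' ∈ u3_BM hF) (hx : x ∈ u3_UM hF) (hx' : x' ∈ u3_UM hF)
    (h : b * u3_t * x = b' * u3_t * x') : b = b' ∧ x = x' := by
  have hy : x' * x⁻¹ ∈ u3_UM hF := (u3_UM hF).mul_mem hx' ((u3_UM hF).inv_mem hx)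
  obtain ⟨a, c, hac, hyU⟩ := hy
  have e1 : b'⁻¹ * b = u3_t * (x' * x⁻¹) * u3_t := by
    have h1 : b'⁻¹ * b * u3_t * x = u3_t * x' := by
      rw [mul_assoc, mul_assoc, ← mul_assoc b, h]; group
    have h2 : b'⁻¹ * b = u3_t * x' * x⁻¹ * u3_t⁻¹ := by rw [← h1]; group
    rw [h2, u3_t_inv]; group
  have hg : u3_t * (x' * x⁻¹) * u3_t ∈ u3_BM hF := by
    rw [← e1]; exact (u3_BM hF).mul_mem ((u3_BM hF).inv_mem hb') hb
  rw [hyU] at hg
  obtain ⟨h20, -, h21⟩ := u3_BM_entry hF hg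
  rw [u3_tUt_coe] at h20 h21
  have hc0 : c = 0 := by simpa using h20
  have ha0 : a = 0 := by simpa using h21
  rw [ha0, hc0, h5_U_zero hF] at hyU
  have hxx : x = x' := by
    have := mul_inv_eq_one.mp hyU
    exact this.symm
  subst hxx
  exact ⟨mul_right_cancel (mul_right_cancel h), rfl⟩

/-- the big cell is disjoint from `BM` -/
theorem u3_btx_not_mem (hF : Fintype.card F = q ^ 2) {b x : SpecialLinearGroup (Fin 3) F}
    (hb : b ∈ u3_BM hF) (hx : x ∈ u3_UM hF) : b * u3_t * x ∉ u3_BM hF := by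
  intro h
  apply u3_t_not_mem_BM hF
  have : u3_t = b⁻¹ * (b * u3_t * x) * x⁻¹ := by group
  rw [this]
  exact (u3_BM hF).mul_mem ((u3_BM hF).mul_mem ((u3_BM hF).inv_mem hb) h)
    ((u3_BM hF).inv_mem (u3_UM_le_BM hF hx))

end mat

end Cfsg.Agent.SU3Pres
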