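import Mathlib

/-!
# Rank-one Bruhat count (helper6)

Abstract form of the count for a group with a "split BN-pair of rank one":
if `B` is a finite subgroup, `X ≤ B` a subgroup and `t` an element such that
* `t * b ∈ B * t * X` for every `b ∈ B`,
* `t * x * t ∈ B ∪ B * t * X` for every `x ∈ X`,
* `B` and `t` generate `G`,
then `G = B ∪ B t X`, so `G` is finite of order at most `|B| * (1 + |X|)`.
-/

set_option autoImplicit false

namespace Cfsg.Agent.SU3Pres

variable {G : Type*} [Group G]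

/-- the "big cell" `B t X` -/
def h6_cell (B X : Subgroup G) (t : G) : Set G :=
  {g | ∃ b ∈ B, ∃ x ∈ X, g = b * t * x}

/-- `B ∪ B t X` -/
def h6_bruhat (B X : Subgroup G) (t : G) : Set G :=
  (B : Set G) ∪ h6_cell B X t

theorem h6_cell_finite (B X : Subgroup G) [Finite B] (hXB : X ≤ B) (t : G) :
    (h6_cell B X t).Finite ∧ (h6_cell B X t).ncard ≤ Nat.card B * Nat.card X := by
  have : Finite X := Finite.of_injective (Subgroup.inclusion hXB) (Subgroup.inclusion_injective hXB)
  have hs : h6_cell B X t ⊆ Set.range (fun p : B × X => (p.1 : G) * t * (p.2 : G)) := by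
    rintro g ⟨b, hb, x, hx, rfl⟩
    exact ⟨(⟨b, hb⟩, ⟨x, hx⟩), rfl⟩
  have hfin : (Set.range (fun p : B × X => (p.1 : G) * t * (p.2 : G))).Finite :=
    Set.finite_range _
  refine ⟨hfin.subset hs, ?_⟩
  calc (h6_cell B X t).ncard
      ≤ (Set.range (fun p : B × X => (p.1 : G) * t * (p.2 : G))).ncard :=
        Set.ncard_le_ncard hs hfin
    _ ≤ Nat.card (B × X) := by
        rw [← Set.image_univ]
        calc ((fun p : B × X => (p.1 : G) * t * (p.2 : G)) '' Set.univ).ncard
            ≤ (Set.univ : Set (B × X)).ncard := Set.ncard_image_le (Set.toFinite _)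
          _ = Nat.card (B × X) := Set.ncard_univ _
    _ = Nat.card B * Nat.card X := Nat.card_prod _ _

/-- **Rank-one Bruhat count.** -/
theorem h6_rank_one_count (B X : Subgroup G) [Finite B] (hXB : X ≤ B) (t : G)
    (htt : t * t ∈ B)
    (hi : ∀ b ∈ B, ∃ b' ∈ B, ∃ x ∈ X, t * b = b' * t * x)
    (hii : ∀ x ∈ X, t * x * t ∈ B ∨ ∃ b ∈ B, ∃ x' ∈ X, t * x * t = b * t * x')
    (hgen : Subgroup.closure ((B : Set G) ∪ {t}) = ⊤) :
    Finite G ∧ Nat.card G ≤ Nat.card B * (1 + Nat.card X) := by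
  classical
  set Y := h6_bruhat B X t with hY
  -- closure under right multiplication by `B`
  have hYB : ∀ y ∈ Y, ∀ b ∈ B, y * b ∈ Y := by
    rintro y (hy | ⟨b₀, hb₀, x, hx, rfl⟩) b hb
    · exact Or.inl (B.mul_mem hy hb)
    · obtain ⟨b', hb', x', hx', e⟩ := hi (x * b) (B.mul_mem (hXB hx) hb)
      refine Or.inr ⟨b₀ * b', B.mul_mem hb₀ hb', x', hx', ?_⟩
      calc b₀ * t * x * b = b₀ * (t * (x * b)) := by group
        _ = b₀ * (b' * t * x') := by rw [e]
        _ = b₀ * b' * t * x' := by group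
  -- closure under right multiplication by `t`
  have hYt : ∀ y ∈ Y, y * t ∈ Y := by
    rintro y (hy | ⟨b₀, hb₀, x, hx, rfl⟩)
    · exact Or.inr ⟨y, hy, 1, X.one_mem, by rw [mul_one]⟩
    · rcases hii x hx with h | ⟨b, hb, x', hx', e⟩
      · left
        have : b₀ * t * x * t = b₀ * (t * x * t) := by group
        rw [this]
        exact B.mul_mem hb₀ h
      · right
        refine ⟨b₀ * b, B.mul_mem hb₀ hb, x', hx', ?_⟩
        calc b₀ * t * x * t = b₀ * (t * x * t) := by group
          _ = b₀ * (b * t * x') := by rw [e]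
          _ = b₀ * b * t * x' := by group
  -- and by `t⁻¹ = t * (t * t)⁻¹`
  have hYt' : ∀ y ∈ Y, y * t⁻¹ ∈ Y := by
    intro y hy
    have e : y * t⁻¹ = y * t * (t * t)⁻¹ := by group
    rw [e]
    exact hYB _ (hYt y hy) _ (B.inv_mem htt)
  have hall : ∀ g : G, (∀ y ∈ Y, y * g ∈ Y) ∧ (∀ y ∈ Y, y * g⁻¹ ∈ Y) := by
    intro g
    have hg : g ∈ Subgroup.closure ((B : Set G) ∪ {t}) := by
      rw [hgen]; exact Subgroup.mem_top g
    induction hg using Subgroup.closure_induction with
    | mem z hz =>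
      rcases hz with hz | hz
      · exact ⟨fun y hy => hYB y hy z hz, fun y hy => hYB y hy _ (B.inv_mem hz)⟩
      · rw [Set.mem_singleton_iff] at hz
        rw [hz]
        exact ⟨hYt, hYt'⟩
    | one =>
      refine ⟨fun y hy => ?_, fun y hy => ?_⟩
      · rwa [mul_one]
      · rwa [inv_one, mul_one]
    | mul g₁ g₂ _ _ ih₁ ih₂ =>
      refine ⟨fun y hy => ?_, fun y hy => ?_⟩
      · rw [← mul_assoc]
        exact ih₂.1 _ (ih₁.1 y hy)
      · rw [mul_inv_rev, ← mul_assoc]
        exact ih₁.2 _ (ih₂.2 y hy)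
    | inv g₁ _ ih =>
      refine ⟨ih.2, fun y hy => ?_⟩
      rw [inv_inv]
      exact ih.1 y hy
  have h1Y : (1 : G) ∈ Y := Or.inl B.one_mem
  have hYuniv : Y = Set.univ := by
    rw [Set.eq_univ_iff_forall]
    intro g
    have := (hall g).1 1 h1Y
    rwa [one_mul] at this
  obtain ⟨hcf, hcc⟩ := h6_cell_finite B X hXB t
  have hBfin : (B : Set G).Finite := Set.toFinite _
  have hYfin : Y.Finite := hBfin.union hcf
  have hGfin : Finite G := by
    rw [hYuniv] at hYfin
    exact Set.finite_univ_iff.mp hYfin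
  refine ⟨hGfin, ?_⟩
  have hcardG : Nat.card G = Y.ncard := by
    rw [hYuniv, Set.ncard_univ]
  rw [hcardG]
  calc Y.ncard ≤ (B : Set G).ncard + (h6_cell B X t).ncard := Set.ncard_union_le _ _
    _ ≤ Nat.card B + Nat.card B * Nat.card X := by
        have : (B : Set G).ncard = Nat.card B := (Nat.card_coe_set_eq (B : Set G)).symm
        rw [this]
        exact Nat.add_le_add_left hcc _
    _ = Nat.card B * (1 + Nat.card X) := by ring

end Cfsg.Agent.SU3Pres
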