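import Cfsg.Agent.SU3Pres.ModelWords
import Cfsg.Agent.SU3Pres.Transfer
import Cfsg.Agent.SL2Pres.C1

/-!
# S2289, T-side glue (helper7)

* `ts_n1`, `ts_n2` : the relators `n1`, `n2` in the model;
* `ts_gen` : `closure {uM, hM, tM} = SUJ F q`;
* `ts_iso` : a list `l` of words in 3 letters that hold in the model for `(uM, hM, tM)` and whose presented group has
  at most `q³(q²-1)(1+q³)` elements presents `SUJ F q`.
-/

set_option autoImplicit false

namespace Cfsg.Agent.SU3Pres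

open Matrix Cfsg Cfsg.Agent.SU3G Cfsg.Agent.SL2Pres

section tside

variable {F : Type*} [Field F] [Fintype F] {q : ℕ}

/-- `n1` in the model -/
theorem ts_n1 (hF : Fintype.card F = q ^ 2) (ζ : Fˣ) :
    (u3_t : SpecialLinearGroup (Fin 3) F) * u3_h q ζ * u3_t⁻¹ = ((u3_h q ζ) ^ q)⁻¹ := by
  rw [u3_t_inv, u3_t_h' hF]

/-- `n2` in the model -/
theorem ts_n2 : (u3_t : SpecialLinearGroup (Fin 3) F) * u3_t = 1 := u3_t_sq

/-- the three model generators generate `SUJ F q` -/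
theorem ts_gen (hF : Fintype.card F = q ^ 2) (hq : 3 ≤ q) (ζ : Fˣ)
    (hζ : ∀ x : Fˣ, x ∈ Subgroup.zpowers ζ) (b0 : F) (hb0 : b0 + b0 ^ q = -1) :
    Subgroup.closure ({U q 1 b0, u3_h q ζ, u3_t} : Set (SpecialLinearGroup (Fin 3) F)) =
      SUJ F q := by
  have hsub : Subgroup.closure ({U q 1 b0, u3_h q ζ} : Set (SpecialLinearGroup (Fin 3) F)) ≤
      Subgroup.closure ({U q 1 b0, u3_h q ζ, u3_t} : Set (SpecialLinearGroup (Fin 3) F)) := by
    apply Subgroup.closure_mono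
    intro x hx
    rcases hx with rfl | rfl
    · exact Set.mem_insert _ _
    · exact Set.mem_insert_of_mem _ (Set.mem_insert _ _)
  rw [mw_gen hF hq ζ hζ b0 hb0] at hsub
  apply u3_gen hF hq
  · rw [Subgroup.closure_le]
    intro x hx
    rcases hx with rfl | rfl | rfl
    · exact (u3_cond_iff hF _ _).1 (mw_cond_of hb0)
    · exact u3_h_mem hF ζ
    · exact u3_t_mem hF
  · intro a b hab
    exact hsub (u3_UM_le_BM hF ⟨a, b, hab, rfl⟩)
  · exact Subgroup.subset_closure (by simp)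

/-- the three model generators as a function on `Fin 3` -/
def ts_gens (q : ℕ) (ζ : Fˣ) (b0 : F) : Fin 3 → SpecialLinearGroup (Fin 3) F :=
  ![U q 1 b0, u3_h q ζ, u3_t]

@[simp] theorem ts_gens_zero (ζ : Fˣ) (b0 : F) : ts_gens q ζ b0 0 = U q 1 b0 := rfl
@[simp] theorem ts_gens_one (ζ : Fˣ) (b0 : F) : ts_gens q ζ b0 1 = u3_h q ζ := rfl
@[simp] theorem ts_gens_two (ζ : Fˣ) (b0 : F) : ts_gens q ζ b0 2 = u3_t := rfl

theorem ts_range_gens (ζ : Fˣ) (b0 : F) :
    Set.range (ts_gens q ζ b0) = {U q 1 b0, u3_h q ζ, u3_t} := by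
  ext x
  constructor
  · rintro ⟨i, rfl⟩
    fin_cases i
    · exact Set.mem_insert _ _
    · exact Set.mem_insert_of_mem _ (Set.mem_insert _ _)
    · exact Set.mem_insert_of_mem _ (Set.mem_insert_of_mem _ rfl)
  · rintro (rfl | rfl | rfl)
    · exact ⟨0, rfl⟩
    · exact ⟨1, rfl⟩
    · exact ⟨2, rfl⟩

/-- **T-side glue.** A set of relators which hold in the model and whose presented group is small enough
presents `SUJ F q`, with `of 0 ↦ uM`, `of 1 ↦ hM`, `of 2 ↦ tM`. -/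
theorem ts_iso (hF : Fintype.card F = q ^ 2) (hq : 3 ≤ q) (ζ : Fˣ)
    (hζ : ∀ x : Fˣ, x ∈ Subgroup.zpowers ζ) (b0 : F) (hb0 : b0 + b0 ^ q = -1)
    (R : Set (FreeGroup (Fin 3)))
    (hR : ∀ r ∈ R, FreeGroup.lift (ts_gens q ζ b0) r = 1)
    (hfin : Finite (PresentedGroup R))
    (hcard : Nat.card (PresentedGroup R) ≤ q ^ 3 * (q ^ 2 - 1) * (1 + q ^ 3)) :
    ∃ e : PresentedGroup R ≃* ↥(SUJ F q),
      ((e (PresentedGroup.of 0) : SpecialLinearGroup (Fin 3) F) = U q 1 b0) ∧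
      ((e (PresentedGroup.of 1) : SpecialLinearGroup (Fin 3) F) = u3_h q ζ) ∧
      ((e (PresentedGroup.of 2) : SpecialLinearGroup (Fin 3) F) = u3_t) := by
  classical
  -- the homomorphism to `SL(3,F)`
  set φ : PresentedGroup R →* SpecialLinearGroup (Fin 3) F :=
    PresentedGroup.toGroup (f := ts_gens q ζ b0) hR with hφ
  have hφof : ∀ i, φ (PresentedGroup.of i) = ts_gens q ζ b0 i := fun i =>
    PresentedGroup.toGroup.of hR
  have hrange : φ.range = SUJ F q := by
    rw [← ts_gen hF hq ζ hζ b0 hb0, ← ts_range_gens, MonoidHom.range_eq_map,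
      ← PresentedGroup.closure_range_of, MonoidHom.map_closure, ← Set.range_comp]
    congr 2
    ext i
    simp only [Function.comp_apply]
    rw [hφof]
  -- corestriction
  have hmem : ∀ x, φ x ∈ SUJ F q := fun x => by rw [← hrange]; exact ⟨x, rfl⟩
  set ψ : PresentedGroup R →* ↥(SUJ F q) := φ.codRestrict (SUJ F q) hmem with hψ
  have hsurj : Function.Surjective ψ := by
    rintro ⟨y, hy⟩
    rw [← hrange] at hy
    obtain ⟨x, rfl⟩ := hy
    exact ⟨x, rfl⟩
  have hbij : Function.Bijective ψ :=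
    hsurj.bijective_of_nat_card_le (hcard.trans (suj_card_ge hF))
  refine ⟨MulEquiv.ofBijective ψ hbij, ?_, ?_, ?_⟩
  · show φ (PresentedGroup.of 0) = _
    rw [hφof]; rfl
  · show φ (PresentedGroup.of 1) = _
    rw [hφof]; rfl
  · show φ (PresentedGroup.of 2) = _
    rw [hφof]; rfl

end tside

end Cfsg.Agent.SU3Pres
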