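import Mathlib
import Cfsg.Agent.SU3Pres.ModelWords
import Cfsg.Agent.SU3Pres.SeedDef

/-!
# S2289 swarm, piece `exists_sdata` (helper8)

For every `U(a,b)` of the unitary unipotent group with `b ≠ 0` there is seed data `S : SData p`
evaluating in the matrix model to the rank-one identity of `U(a,b)` (`SGood`): three applications of
`mw_surj` (to `U(a,b)`, `U(-a/b^q, 1/b)`, `U(-a/b, 1/b)`) and a power of the generator `ζ`.
-/

set_option autoImplicit false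

namespace Cfsg.Agent.SU3Pres

open Matrix Cfsg Cfsg.Agent.SU3G Cfsg.Agent.SL2Pres Polynomial

variable {F : Type*} [Field F] [Fintype F] {q : ℕ} {p : ℕ} [Fact p.Prime] [Algebra (ZMod p) F]

/-- every nonzero element of a finite field is a natural power of a generator of the unit group -/
theorem h8_exists_pow_eq (ζ : Fˣ) (hζ : ∀ x : Fˣ, x ∈ Subgroup.zpowers ζ) (c : F) (hc : c ≠ 0) :
    ∃ j : ℕ, (ζ : F) ^ j = c := by
  have hmem : Units.mk0 c hc ∈ Subgroup.zpowers ζ := hζ _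
  rw [← mem_powers_iff_mem_zpowers, Submonoid.mem_powers_iff] at hmem
  obtain ⟨j, hj⟩ := hmem
  refine ⟨j, ?_⟩
  have := congrArg (fun x : Fˣ => (x : F)) hj
  simpa using this

/-- existence of seed data (stubs part 3, `exists_sdata`) -/
theorem h8_exists_sdata (hF : Fintype.card F = q ^ 2) (hq : 3 ≤ q) (ζ : Fˣ)
    (hζ : ∀ x : Fˣ, x ∈ Subgroup.zpowers ζ) (b0 : F) (hb0 : b0 + b0 ^ q = -1) (a b : F) (hb : b ≠ 0)
    (hab : u3_cond q a b) : ∃ S : SData p, SGood q ζ b0 S a b := by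
  have hy1 : u3_cond q (-a * (b ^ q)⁻¹) b⁻¹ := u3_cond_x1 hF a b hb hab
  have hy2 : u3_cond q (-a * b⁻¹) b⁻¹ := u3_cond_x2 hF a b hb hab
  obtain ⟨A, C, h0⟩ := mw_surj (p := p) hF hq ζ hζ b0 hb0 a b hab
  obtain ⟨A1, C1, h1⟩ := mw_surj (p := p) hF hq ζ hζ b0 hb0 _ _ hy1
  obtain ⟨A2, C2, h2⟩ := mw_surj (p := p) hF hq ζ hζ b0 hb0 _ _ hy2
  obtain ⟨j, hj⟩ := h8_exists_pow_eq ζ hζ (b ^ q)⁻¹ (inv_ne_zero (pow_ne_zero _ hb))
  exact ⟨⟨A, C, A1, C1, A2, C2, j⟩, hb, hab, h0, h1, hj, h2⟩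

end Cfsg.Agent.SU3Pres
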