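import Cfsg.Agent.SU3Pres.H5_MatU5
import Cfsg.Agent.SU3Pres.Hyp
import Cfsg.Agent.SU3Pres.Field

/-!
# S2289 swarm, piece `ModelRels` (helper4): the Borel relations hold in the matrix group

`u = U(1, b0)` (`b0 + b̄0 = -1`), `h = h(ζ)` (`ζ` a generator of `Fˣ`) satisfy `BRel D q u h` for a suitable
`D : BData p` with `D.m1 = minpoly g₁`, `D.m2 = minpoly g₂` (`model_rels`).

Method: `mr_P hF M a` says "`M = U(a, b)` for some `b` with `b + b̄ + a ā = 0`" (`M` lies in `UM` and has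
`a`-coordinate `a`); this is compatible with products, inverses, powers, `h`-conjugates and `polyProd`.
Two elements of `UM` with the same `a`-coordinate differ by a central element `U(0, β)`, `β + β̄ = 0`, and
every such element is `polyProd h w C` (`w = cw h u = U(0, γ₀)`, `γ₀ = g₁ - ḡ₁ ≠ 0`) for some `C`
(`fld_imag_line`).  We use the cube shape of `b3` for every `q`.
-/

set_option autoImplicit false
set_option linter.unusedSectionVars false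
set_option linter.unusedVariables false

namespace Cfsg.Agent.SU3Pres

open Matrix Cfsg Cfsg.Agent.SU3G Cfsg.Agent.SL2Pres Polynomial

variable {F : Type*} [Field F] [Fintype F] {q : ℕ}

/-- `M = U(a, b)` for some `b` with `(a, b)` unitary -/
def mr_P (hF : Fintype.card F = q ^ 2) (M : SpecialLinearGroup (Fin 3) F) (a : F) : Prop :=
  ∃ b : F, u3_cond q a b ∧ M = U q a b

theorem mr_P_U (hF : Fintype.card F = q ^ 2) {a b : F} (h : u3_cond q a b) : mr_P hF (U q a b) a :=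
  ⟨b, h, rfl⟩

theorem mr_P_one (hF : Fintype.card F = q ^ 2) : mr_P hF (1 : SpecialLinearGroup (Fin 3) F) 0 :=
  ⟨0, u3_cond_zero hF, (h5_U_zero hF).symm⟩

theorem mr_P_mul (hF : Fintype.card F = q ^ 2) {M M' : SpecialLinearGroup (Fin 3) F} {a a' : F}
    (h : mr_P hF M a) (h' : mr_P hF M' a') : mr_P hF (M * M') (a + a') := by
  obtain ⟨b, hb, rfl⟩ := h
  obtain ⟨b', hb', rfl⟩ := h'
  exact ⟨_, u3_cond_mul hF hb hb', h5_U_mul hF a b a' b'⟩

theorem mr_P_inv (hF : Fintype.card F = q ^ 2) {M : SpecialLinearGroup (Fin 3) F} {a : F}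
    (h : mr_P hF M a) : mr_P hF M⁻¹ (-a) := by
  obtain ⟨b, hb, rfl⟩ := h
  exact ⟨_, u3_cond_inv hF hb, h5_U_inv hF a b⟩

theorem mr_P_congr (hF : Fintype.card F = q ^ 2) {M : SpecialLinearGroup (Fin 3) F} {a a' : F}
    (h : mr_P hF M a) (e : a = a') : mr_P hF M a' := e ▸ h

theorem mr_P_pow (hF : Fintype.card F = q ^ 2) {M : SpecialLinearGroup (Fin 3) F} {a : F}
    (h : mr_P hF M a) (n : ℕ) : mr_P hF (M ^ n) ((n : F) * a) := by
  induction n with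
  | zero => rw [pow_zero, Nat.cast_zero, zero_mul]; exact mr_P_one hF
  | succ n ih =>
    rw [pow_succ]
    exact mr_P_congr hF (mr_P_mul hF ih h) (by push_cast; ring)

theorem mr_P_conj (hF : Fintype.card F = q ^ 2) (z : Fˣ) {M : SpecialLinearGroup (Fin 3) F} {a : F}
    (h : mr_P hF M a) :
    mr_P hF (u3_h q z * M * (u3_h q z)⁻¹) ((z : F) ^ 2 * ((z : F) ^ q)⁻¹ * a) := by
  obtain ⟨b, hb, rfl⟩ := h
  exact ⟨_, u3_cond_conj hF z hb, u3_h_conj_U hF z a b⟩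

/-- the factor by which `h(z)` acts on the `a`-coordinate -/
def mr_g (q : ℕ) (z : Fˣ) : F := (z : F) ^ 2 * ((z : F) ^ q)⁻¹

theorem mr_g_pow (z : Fˣ) (n : ℕ) : mr_g q (z ^ n) = mr_g q z ^ n := by
  unfold mr_g
  rw [Units.val_pow_eq_pow_val, mul_pow, inv_pow, ← pow_mul, ← pow_mul, ← pow_mul, ← pow_mul,
    mul_comm n 2, mul_comm n q]

theorem mr_g_eq_g1 (ζ : Fˣ) : mr_g q ζ = fld_g1 q ζ := rfl

theorem mr_P_cj (hF : Fintype.card F = q ^ 2) (z : Fˣ) {M : SpecialLinearGroup (Fin 3) F} {a : F}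
    (h : mr_P hF M a) (n : ℕ) : mr_P hF (cj (u3_h q z) M (n : ℤ)) (mr_g q z ^ n * a) := by
  have e : cj (u3_h q z) M (n : ℤ) = u3_h q (z ^ n) * M * (u3_h q (z ^ n))⁻¹ := by
    rw [cj, _root_.zpow_neg, zpow_natCast, u3_h_pow]
  rw [e, ← mr_g_pow]
  exact mr_P_conj hF (z ^ n) h

theorem mr_P_unique (hF : Fintype.card F = q ^ 2) {M : SpecialLinearGroup (Fin 3) F} {a a' : F}
    (h : mr_P hF M a) (h' : mr_P hF M a') : a = a' := by
  obtain ⟨b, hb, rfl⟩ := h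
  obtain ⟨b', hb', e⟩ := h'
  exact (u3_U_injective e).1

section poly

variable {p : ℕ} [Fact p.Prime] [Algebra (ZMod p) F]

theorem mr_smul (c : ZMod p) (y : F) : c • y = ((c.val : ℕ) : F) * y := by
  have : NeZero p := ⟨(Fact.out : p.Prime).ne_zero⟩
  rw [Algebra.smul_def]
  congr 1
  conv_lhs => rw [← ZMod.natCast_zmod_val c]
  rw [map_natCast]

theorem mr_P_polyProd (hF : Fintype.card F = q ^ 2) (z : Fˣ) {M : SpecialLinearGroup (Fin 3) F}
    {a : F} (h : mr_P hF M a) (P : (ZMod p)[X]) :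
    mr_P hF (polyProd (u3_h q z) M P) (aeval (mr_g q z) P * a) := by
  have key : ∀ n : ℕ, mr_P hF
      ((List.range n).map fun i : ℕ => cj (u3_h q z) M (i : ℤ) ^ (P.coeff i).val).prod
      ((∑ i ∈ Finset.range n, P.coeff i • mr_g q z ^ i) * a) := by
    intro n
    induction n with
    | zero => simpa using mr_P_one hF
    | succ n ih =>
      rw [List.range_succ, List.map_append, List.prod_append, Finset.sum_range_succ, add_mul]
      simp only [List.map_cons, List.map_nil, List.prod_cons, List.prod_nil, mul_one]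
      refine mr_P_mul hF ih (mr_P_congr hF (mr_P_pow hF (mr_P_cj hF z h n) _) ?_)
      rw [mr_smul]; ring
  rw [aeval_eq_sum_range]
  exact key _

theorem mr_char (p : ℕ) [Fact p.Prime] [Algebra (ZMod p) F] : ((p : ℕ) : F) = 0 := by
  have h1 : ((p : ℕ) : ZMod p) = 0 := ZMod.natCast_self p
  have h2 := congrArg (algebraMap (ZMod p) F) h1
  rwa [map_natCast, map_zero] at h2

end poly

/-! ### central elements -/

theorem mr_central_mul (hF : Fintype.card F = q ^ 2) (β β' : F) :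
    U q (0 : F) β * U q 0 β' = U q 0 (β + β') := by
  rw [h5_U_mul hF]
  congr 1
  · ring
  · ring

theorem mr_central_commute (hF : Fintype.card F = q ^ 2) (β a b : F) :
    Commute (U q (0 : F) β) (U q a b) := by
  have hq : q ≠ 0 := u3_q_ne hF
  show U q (0 : F) β * U q a b = U q a b * U q 0 β
  rw [h5_U_mul hF, h5_U_mul hF, zero_pow hq]
  congr 1
  · ring
  · ring

theorem mr_central_commute_P (hF : Fintype.card F = q ^ 2) (β : F)
    {M : SpecialLinearGroup (Fin 3) F} {a : F} (h : mr_P hF M a) : Commute (U q (0 : F) β) M := by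
  obtain ⟨b, -, rfl⟩ := h
  exact mr_central_commute hF β a b

section main

variable {p : ℕ} [Fact p.Prime] [Algebra (ZMod p) F]

/-- the additive one-parameter group `β ↦ U(0, β γ₀)` -/
theorem mr_x_add (hF : Fintype.card F = q ^ 2) (γ₀ a b : F) :
    U q (0 : F) ((a + b) * γ₀) = U q 0 (a * γ₀) * U q 0 (b * γ₀) := by
  rw [mr_central_mul hF]; congr 1; ring

theorem mr_x_conj (hF : Fintype.card F = q ^ 2) (ζ : Fˣ) (γ₀ a : F) :
    u3_h q ζ * U q (0 : F) (a * γ₀) * (u3_h q ζ)⁻¹ = U q 0 (fld_g2 q ζ * a * γ₀) := by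
  rw [u3_h_conj_U hF, fld_g2_eq]
  congr 1
  · ring
  · ring

/-- `polyProd h (U(0, γ₀)) C = U(0, C(g₂) γ₀)` -/
theorem mr_polyProd_central (hF : Fintype.card F = q ^ 2) (ζ : Fˣ) (γ₀ : F) (C : (ZMod p)[X]) :
    polyProd (u3_h q ζ) (U q (0 : F) γ₀) C = U q 0 (aeval (fld_g2 q ζ) C * γ₀) := by
  have := polyProd_eq (fun β : F => U q (0 : F) (β * γ₀)) (mr_x_add hF γ₀) (u3_h q ζ)
    (U q (0 : F) γ₀) (fld_g2 q ζ) (by simp) (fun a => by
      have := mr_x_conj hF ζ γ₀ a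
      simpa [mul_assoc] using this) C
  exact this

/-- `cj h (U(0, γ₀)) n = U(0, g₂ ^ n γ₀)` -/
theorem mr_cj_central (hF : Fintype.card F = q ^ 2) (ζ : Fˣ) (γ₀ : F) (n : ℕ) :
    cj (u3_h q ζ) (U q (0 : F) γ₀) (n : ℤ) = U q 0 (fld_g2 q ζ ^ n * γ₀) := by
  have e : cj (u3_h q ζ) (U q (0 : F) γ₀) (n : ℤ) =
      u3_h q (ζ ^ n) * U q (0 : F) γ₀ * (u3_h q (ζ ^ n))⁻¹ := by
    rw [cj, _root_.zpow_neg, zpow_natCast, u3_h_pow]
  rw [e, u3_h_conj_U hF, fld_g2_eq, Units.val_pow_eq_pow_val]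
  congr 1
  · ring
  · rw [mul_pow, ← pow_mul, ← pow_mul, mul_comm n q]

/-- **(f)**: two elements of `UM` with the same `a`-coordinate differ by some `polyProd h w C` -/
theorem mr_f (hF : Fintype.card F = q ^ 2) (ζ : Fˣ) (hζ : ∀ a : Fˣ, a ∈ Subgroup.zpowers ζ)
    {γ₀ : F} (hγ₀ : γ₀ ≠ 0) (hγ : γ₀ + γ₀ ^ q = 0) {L R : SpecialLinearGroup (Fin 3) F} {a a' : F}
    (hL : mr_P hF L a) (hR : mr_P hF R a') (haa : a = a') :
    ∃ C : (ZMod p)[X], L = R * polyProd (u3_h q ζ) (U q (0 : F) γ₀) C := by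
  subst haa
  have h0 := mr_P_congr hF (mr_P_mul hF (mr_P_inv hF hR) hL) (neg_add_cancel a)
  obtain ⟨β, hβ, e⟩ := h0
  have hβ' : β + β ^ q = 0 := by
    have hq : q ≠ 0 := u3_q_ne hF
    unfold u3_cond at hβ
    rwa [zero_mul, add_zero] at hβ
  obtain ⟨C, hC⟩ := (fld_imag_line (p := p) hF ζ hζ hγ₀ hγ β).1 hβ'
  refine ⟨C, ?_⟩
  rw [mr_polyProd_central hF, ← hC, ← e]
  group

/-- the Borel relations in the matrix group -/
theorem model_rels (hF : Fintype.card F = q ^ 2) (hq : 3 < q) (ζ : Fˣ)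
    (hζ : ∀ a : Fˣ, a ∈ Subgroup.zpowers ζ) (b0 : F) (hb0 : b0 + b0 ^ q = -1) :
    ∃ D : BData p, D.m1 = minpoly (ZMod p) (fld_g1 q ζ) ∧ D.m2 = minpoly (ZMod p) (fld_g2 q ζ) ∧
      BRel D q (U q (1 : F) b0) (u3_h q ζ) := by
  classical
  have hq0 : q ≠ 0 := by omega
  -- abbreviations
  obtain ⟨u, hu⟩ : ∃ u : SpecialLinearGroup (Fin 3) F, u = U q (1 : F) b0 := ⟨_, rfl⟩
  obtain ⟨h, hh⟩ : ∃ h : SpecialLinearGroup (Fin 3) F, h = u3_h q ζ := ⟨_, rfl⟩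
  obtain ⟨g1, hg1⟩ : ∃ g1 : F, g1 = fld_g1 q ζ := ⟨_, rfl⟩
  obtain ⟨g2, hg2⟩ : ∃ g2 : F, g2 = fld_g2 q ζ := ⟨_, rfl⟩
  have hPu : mr_P hF u 1 := by
    rw [hu]
    refine mr_P_U hF ?_
    unfold u3_cond
    rw [one_pow, mul_one, hb0]; ring
  -- the conjugates
  have hX : ∀ n : ℕ, mr_P hF (cj h u (n : ℤ)) (g1 ^ n) := by
    intro n
    have := mr_P_cj hF ζ hPu n
    rw [mul_one, mr_g_eq_g1, ← hh, ← hg1] at this
    exact this
  have hX1 : mr_P hF (cj h u 1) g1 := by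
    have := hX 1
    rwa [pow_one, Nat.cast_one] at this
  have hX2 : mr_P hF (cj h u 2) (g1 ^ 2) := by
    have := hX 2
    rwa [Nat.cast_ofNat] at this
  have hX3 : mr_P hF (cj h u 3) (g1 ^ 3) := by
    have := hX 3
    rwa [Nat.cast_ofNat] at this
  -- `w`
  obtain ⟨γ₀, hγ₀def⟩ : ∃ γ₀ : F, γ₀ = g1 - g1 ^ q := ⟨_, rfl⟩
  have hw : cw h u = U q (0 : F) γ₀ := by
    obtain ⟨b1, hb1, e1⟩ := hX1
    unfold cw
    rw [e1, hu, u3_U_comm hF, hγ₀def]
    congr 1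
    rw [one_pow, mul_one, one_mul]
  have hγ₀ : γ₀ ≠ 0 := by
    rw [hγ₀def, hg1]
    intro h0
    exact fld_g1_not_fixed hF (by omega) ζ hζ (by linear_combination -h0)
  have hγ : γ₀ + γ₀ ^ q = 0 := by
    rw [hγ₀def, h1_su_sub_pow q hF, h1_su_frob q hF]; ring
  have hwc : ∀ {M : SpecialLinearGroup (Fin 3) F} {a : F}, mr_P hF M a → Commute (cw h u) M := by
    intro M a hM
    rw [hw]; exact mr_central_commute_P hF γ₀ hM
  have hf : ∀ {L R : SpecialLinearGroup (Fin 3) F} {a a' : F}, mr_P hF L a → mr_P hF R a' → a = a' →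
      ∃ C : (ZMod p)[X], L = R * polyProd h (cw h u) C := by
    intro L R a a' hL hR haa
    rw [hw, hh]
    exact mr_f hF ζ hζ hγ₀ hγ hL hR haa
  -- b1
  obtain ⟨P1, hP1⟩ := hf (mr_P_pow hF hPu p) (mr_P_one hF) (by rw [mr_char p, zero_mul])
  rw [one_mul] at hP1
  -- b4
  have hb4 : mr_P hF (polyProd h u (minpoly (ZMod p) g1)) 0 := by
    have := mr_P_polyProd hF ζ hPu (minpoly (ZMod p) g1)
    rw [mr_g_eq_g1, ← hg1, minpoly.aeval, zero_mul, ← hh] at this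
    exact this
  obtain ⟨P4, hP4⟩ := hf hb4 (mr_P_one hF) rfl
  rw [one_mul] at hP4
  -- b3, cube shape
  obtain ⟨k, hk⟩ := fld_exists_k_cube hF (by omega : 2 < q) ζ hζ
  rw [← hg1] at hk
  have hc2 : mr_P hF (u * cj h u 2 * u⁻¹ * (cj h u 2)⁻¹) 0 :=
    mr_P_congr hF (mr_P_mul hF (mr_P_mul hF (mr_P_mul hF hPu hX2) (mr_P_inv hF hPu))
      (mr_P_inv hF hX2)) (by ring)
  obtain ⟨P22, hP22⟩ := hf hc2 (mr_P_one hF) rfl
  rw [one_mul] at hP22
  have hc3 : mr_P hF (u * cj h u 3 * u⁻¹ * (cj h u 3)⁻¹) 0 :=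
    mr_P_congr hF (mr_P_mul hF (mr_P_mul hF (mr_P_mul hF hPu hX3) (mr_P_inv hF hPu))
      (mr_P_inv hF hX3)) (by ring)
  obtain ⟨P23, hP23⟩ := hf hc3 (mr_P_one hF) rfl
  rw [one_mul] at hP23
  have hR3 : mr_P hF (cj h u 3 * cj h u 2 ^ 3 * cj h u 1 ^ 3 * u)
      (g1 ^ 3 + ((3 : ℕ) : F) * g1 ^ 2 + ((3 : ℕ) : F) * g1 + 1) :=
    mr_P_mul hF (mr_P_mul hF (mr_P_mul hF hX3 (mr_P_pow hF hX2 3)) (mr_P_pow hF hX1 3)) hPu
  obtain ⟨P3, hP3⟩ := hf (hX k) hR3 (by rw [hk]; push_cast; ring)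
  -- c4
  obtain ⟨Q0, Q1, Q2, hQ⟩ := fld_exists_Q (p := p) hF ζ hζ
  rw [← hg1] at hQ
  have hh1 : h ^ (q - 1) = u3_h q (ζ ^ (q - 1)) := by rw [hh, u3_h_pow]
  have hgam : mr_g q (ζ ^ (q - 1)) = g1 ^ (q - 1) := by rw [mr_g_pow, mr_g_eq_g1, hg1]
  have hR4 : mr_P hF (polyProd (h ^ (q - 1)) u Q0 * polyProd (h ^ (q - 1)) (cj h u 1) Q1 *
      polyProd (h ^ (q - 1)) (cj h u 2) Q2)
      (aeval (g1 ^ (q - 1)) Q0 * 1 + aeval (g1 ^ (q - 1)) Q1 * g1 +
        aeval (g1 ^ (q - 1)) Q2 * g1 ^ 2) := by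
    rw [hh1, ← hgam]
    exact mr_P_mul hF (mr_P_mul hF (mr_P_polyProd hF _ hPu Q0) (mr_P_polyProd hF _ hX1 Q1))
      (mr_P_polyProd hF _ hX2 Q2)
  obtain ⟨P7, hP7⟩ := hf hX3 hR4 (by rw [hQ]; ring)
  -- b8''
  obtain ⟨k2, hk2⟩ := fld_exists_k2 hF hq ζ hζ
  -- the data
  refine ⟨{ m1 := minpoly (ZMod p) g1, m2 := minpoly (ZMod p) g2, P1 := P1, P4 := P4, P7 := P7,
            Q0 := Q0, Q1 := Q1, Q2 := Q2, k2 := (k2 : ℤ), cube := true, k := (k : ℤ), P3 := P3,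
            P22 := P22, P23 := P23 }, by rw [hg1], by rw [hg2], ?_⟩
  rw [← hu, ← hh]
  refine
    { b1 := hP1
      b3l := fun hc => absurd hc (by simp)
      b3c := fun _ => ⟨hP22, hP23, hP3⟩
      b4 := hP4
      c0 := hwc hPu
      c1 := hwc hX1
      c2 := hwc hX2
      c3 := ?_
      c4 := hP7
      b8 := ?_
      b8' := ?_
      b8'' := ?_ }
  · -- c3: `h₁` centralises `w`
    rw [hw, hh1]
    have e := u3_h_conj_U hF (ζ ^ (q - 1)) (0 : F) γ₀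
    have hz : ((ζ ^ (q - 1) : Fˣ) : F) * ((ζ ^ (q - 1) : Fˣ) : F) ^ q = 1 := by
      rw [← pow_succ', Units.val_pow_eq_pow_val, ← pow_mul, ← fld_q_sq (by omega), ← hF]
      exact FiniteField.pow_card_sub_one_eq_one _ ζ.ne_zero
    rw [hz, one_mul, mul_zero] at e
    show U q (0 : F) γ₀ * u3_h q (ζ ^ (q - 1)) = u3_h q (ζ ^ (q - 1)) * U q (0 : F) γ₀
    conv_lhs => rw [← e]
    group
  · -- b8
    show polyProd h (cw h u) (minpoly (ZMod p) g2) = 1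
    rw [hw, hh, mr_polyProd_central hF, ← hg2, minpoly.aeval, zero_mul, h5_U_zero hF]
  · -- b8'
    have e := mr_cj_central hF ζ γ₀ 1
    rw [Nat.cast_one, ← hh] at e
    rw [hw, e]
    show U q (0 : F) γ₀ * U q 0 _ = U q 0 _ * U q (0 : F) γ₀
    rw [mr_central_mul hF, mr_central_mul hF, add_comm]
  · -- b8''
    show cj h (cw h u) (k2 : ℤ) = cw h u * cj h (cw h u) 1
    have e1 := mr_cj_central hF ζ γ₀ 1
    rw [Nat.cast_one, ← hh] at e1
    have e2 := mr_cj_central hF ζ γ₀ k2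
    rw [← hh] at e2
    rw [hw, e1, e2, mr_central_mul hF, hk2]
    congr 1; ring

/-- the stub name and shape of the blueprint (`notes/S2289_stubs3.lean.txt`) -/
theorem model_brel (hF : Fintype.card F = q ^ 2) (hq : 4 ≤ q) (ζ : Fˣ)
    (hζ : ∀ x : Fˣ, x ∈ Subgroup.zpowers ζ) (b0 : F) (hb0 : b0 + b0 ^ q = -1) :
    ∃ D : BData p, D.m1 = minpoly (ZMod p) (fld_g1 q ζ) ∧ D.m2 = minpoly (ZMod p) (fld_g2 q ζ) ∧
      BRel D q (U q 1 b0) (u3_h q ζ) :=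
  model_rels hF hq ζ hζ b0 hb0

end main

end Cfsg.Agent.SU3Pres
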