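import Cfsg.Agent.SU3Pres.ModelWords
import Cfsg.Agent.SU3Pres.SeedDef

/-!
# S2289 piece `SeedsEx` (helper6): existence of good seed data

`exists_sdata` (stubs part 3 of helper1, verbatim): for `U(a,b)`, `b ≠ 0`, there is `S : SData p`
with `SGood q ζ b0 S a b` (three applications of `mw_surj`, and `ζ` generates `Fˣ`).
-/

set_option autoImplicit false

namespace Cfsg.Agent.SU3Pres

open Matrix Cfsg Cfsg.Agent.SU3G Cfsg.Agent.SL2Pres Polynomial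

variable {F : Type*} [Field F] [Fintype F] {q : ℕ} {p : ℕ} [Fact p.Prime] [Algebra (ZMod p) F]

theorem exists_sdata (hF : Fintype.card F = q ^ 2) (hq : 3 ≤ q) (ζ : Fˣ)
    (hζ : ∀ x : Fˣ, x ∈ Subgroup.zpowers ζ) (b0 : F) (hb0 : b0 + b0 ^ q = -1) (a b : F) (hb : b ≠ 0)
    (hab : u3_cond q a b) : ∃ S : SData p, SGood q ζ b0 S a b := by
  obtain ⟨A, C, e0⟩ := mw_surj (p := p) hF hq ζ hζ b0 hb0 a b hab
  obtain ⟨A1, C1, e1⟩ := mw_surj (p := p) hF hq ζ hζ b0 hb0 (-a * (b ^ q)⁻¹) b⁻¹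
    (u3_cond_x1 hF a b hb hab)
  obtain ⟨A2, C2, e2⟩ := mw_surj (p := p) hF hq ζ hζ b0 hb0 (-a * b⁻¹) b⁻¹
    (u3_cond_x2 hF a b hb hab)
  have hz : (b ^ q)⁻¹ ≠ 0 := inv_ne_zero (pow_ne_zero _ hb)
  have hmem : Units.mk0 (b ^ q)⁻¹ hz ∈ Submonoid.powers ζ :=
    mem_powers_iff_mem_zpowers.2 (hζ _)
  obtain ⟨j, hj⟩ := hmem
  refine ⟨⟨A, C, A1, C1, A2, C2, j⟩, hb, hab, e0, e1, ?_, e2⟩
  show (ζ : F) ^ j = (b ^ q)⁻¹
  have := congrArg (fun z : Fˣ => (z : F)) hj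
  simpa using this

end Cfsg.Agent.SU3Pres
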