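import Cfsg.Agent.SU3Pres.SeedDef
import Cfsg.Agent.SU3Pres.Omega
import Cfsg.Agent.SU3Pres.Field
import Cfsg.Agent.SU3Pres.GSide
import Cfsg.Agent.SU3Pres.ModelWords
import Cfsg.Agent.SU3Pres.ModelRels
import Cfsg.Agent.SU3Pres.Transfer
import Cfsg.Agent.SU3Pres.BorelPres
import Cfsg.Agent.SU3Pres.H8_SeedsEx
import Cfsg.Agent.SU3Pres.GAsm

set_option autoImplicit false
set_option linter.unusedSectionVars false
set_option linter.unusedVariables false
set_option linter.style.haveILetI false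

/-!
# S2289 piece TSide (helper1): the presented group on the relator list `allwords` is `SUJ F q`
-/

namespace Cfsg.Agent.SU3Pres

open Matrix Cfsg Cfsg.Agent.SU3G Cfsg.Agent.SL2Pres Polynomial
open Cfsg.Agent.Helper7.Herm

section tside

variable {F : Type*} [Field F] [Fintype F] {q : ℕ}

/-- the three free generators -/
def gu : FreeGroup (Fin 3) := FreeGroup.of 0
def gh : FreeGroup (Fin 3) := FreeGroup.of 1
def gt : FreeGroup (Fin 3) := FreeGroup.of 2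

/-- the images of the three generators in `SL₃(F)` -/
def gens3 (q : ℕ) (ζ : Fˣ) (b0 : F) : Fin 3 → SpecialLinearGroup (Fin 3) F :=
  ![U q 1 b0, u3_h q ζ, u3_t]

/-- the homomorphism from the free group to `SL₃(F)` -/
def lift3 (q : ℕ) (ζ : Fˣ) (b0 : F) : FreeGroup (Fin 3) →* SpecialLinearGroup (Fin 3) F :=
  FreeGroup.lift (gens3 q ζ b0)

theorem lift3_u (ζ : Fˣ) (b0 : F) : lift3 q ζ b0 gu = U q 1 b0 := by simp [lift3, gu, gens3]
theorem lift3_h (ζ : Fˣ) (b0 : F) : lift3 q ζ b0 gh = u3_h q ζ := by simp [lift3, gh, gens3]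
theorem lift3_t (ζ : Fˣ) (b0 : F) : lift3 q ζ b0 gt = u3_t := by simp [lift3, gt, gens3]

theorem ts_cond_u (hF : Fintype.card F = q ^ 2) (b0 : F) (hb0 : b0 + b0 ^ q = -1) :
    u3_cond q (1 : F) b0 := by
  unfold u3_cond
  rw [one_pow, mul_one, hb0]; ring

theorem gens3_mem (hF : Fintype.card F = q ^ 2) (ζ : Fˣ) (b0 : F) (hb0 : b0 + b0 ^ q = -1)
    (i : Fin 3) : gens3 q ζ b0 i ∈ SUJ F q := by
  fin_cases i
  · exact (u3_cond_iff hF _ _).1 (ts_cond_u hF b0 hb0)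
  · exact u3_h_mem hF ζ
  · exact u3_t_mem hF

/-- the homomorphism from the free group to `SUJ` -/
def lift3J (hF : Fintype.card F = q ^ 2) (ζ : Fˣ) (b0 : F) (hb0 : b0 + b0 ^ q = -1) :
    FreeGroup (Fin 3) →* ↥(SUJ F q) :=
  FreeGroup.lift (fun i => ⟨gens3 q ζ b0 i, gens3_mem hF ζ b0 hb0 i⟩)

theorem lift3J_coe (hF : Fintype.card F = q ^ 2) (ζ : Fˣ) (b0 : F) (hb0 : b0 + b0 ^ q = -1)
    (w : FreeGroup (Fin 3)) :
    ((lift3J hF ζ b0 hb0 w : ↥(SUJ F q)) : SpecialLinearGroup (Fin 3) F) = lift3 q ζ b0 w := by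
  have : (SUJ F q).subtype.comp (lift3J hF ζ b0 hb0) = lift3 q ζ b0 := by
    apply FreeGroup.ext_hom
    intro i
    simp [lift3J, lift3]
  exact DFunLike.congr_fun this w

/-- the rank-one relations hold in the model -/
theorem ts_rrel_model {p : ℕ} (hF : Fintype.card F = q ^ 2) (ζ : Fˣ) (b0 : F)
    (Ss : List (SData p)) (hSs : ∀ S ∈ Ss, ∃ a b : F, SGood q ζ b0 S a b) :
    RRel Ss q (U q 1 b0) (u3_h q ζ) (u3_t : SpecialLinearGroup (Fin 3) F) := by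
  refine ⟨?_, u3_t_sq, ?_⟩
  · rw [u3_t_inv, u3_t_h' hF]
  · intro S hS
    obtain ⟨a, b, hab⟩ := hSs S hS
    exact sgood_model hF ζ b0 S a b hab

/-- all relators hold in the model -/
theorem ts_lift3_allwords {p : ℕ} (hF : Fintype.card F = q ^ 2) (ζ : Fˣ) (b0 : F)
    (D : BData p) (hD : BRel D q (U q 1 b0) (u3_h q ζ))
    (Ss : List (SData p)) (hSs : ∀ S ∈ Ss, ∃ a b : F, SGood q ζ b0 S a b) :
    ∀ r ∈ allwords D Ss q gu gh gt, lift3 q ζ b0 r = 1 := by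
  intro r hr
  have h1 := (allrel_iff D Ss q (U q 1 b0) (u3_h q ζ) (u3_t : SpecialLinearGroup (Fin 3) F)).1
    ⟨hD, ts_rrel_model hF ζ b0 Ss hSs⟩
  apply h1
  rw [← lift3_u (q := q) ζ b0, ← lift3_h (q := q) ζ b0, ← lift3_t (q := q) ζ b0, ← map_allwords]
  exact List.mem_map_of_mem hr

/-- the three matrices generate `SUJ` -/
theorem ts_lift3_range {p : ℕ} [Fact p.Prime] [Algebra (ZMod p) F]
    (hF : Fintype.card F = q ^ 2) (hq : 3 ≤ q) (ζ : Fˣ)
    (hζ : ∀ x : Fˣ, x ∈ Subgroup.zpowers ζ) (b0 : F) (hb0 : b0 + b0 ^ q = -1) :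
    (lift3 q ζ b0).range = SUJ F q := by
  apply u3_gen hF hq
  · rintro _ ⟨w, rfl⟩
    rw [← lift3J_coe hF ζ b0 hb0]
    exact (lift3J hF ζ b0 hb0 w).2
  · intro a b hab
    obtain ⟨A, C, hAC⟩ := mw_surj (p := p) hF hq ζ hζ b0 hb0 a b hab
    refine ⟨uword gu gh A C, ?_⟩
    rw [map_uword, lift3_u, lift3_h, hAC]
  · exact ⟨gt, lift3_t ζ b0⟩

theorem ts_lift3J_surj {p : ℕ} [Fact p.Prime] [Algebra (ZMod p) F]
    (hF : Fintype.card F = q ^ 2) (hq : 3 ≤ q) (ζ : Fˣ)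
    (hζ : ∀ x : Fˣ, x ∈ Subgroup.zpowers ζ) (b0 : F) (hb0 : b0 + b0 ^ q = -1) :
    Function.Surjective (lift3J hF ζ b0 hb0) := by
  rintro ⟨M, hM⟩
  rw [← ts_lift3_range (p := p) hF hq ζ hζ b0 hb0] at hM
  obtain ⟨w, hw⟩ := hM
  refine ⟨w, Subtype.ext ?_⟩
  rw [lift3J_coe, hw]

/-- generation of a presented group on three generators -/
theorem ts_closure_gens3 (rels : Set (FreeGroup (Fin 3))) :
    Subgroup.closure {PresentedGroup.mk rels gu, PresentedGroup.mk rels gh,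
      PresentedGroup.mk rels gt} = ⊤ := by
  have h := PresentedGroup.closure_range_of rels
  have e : Set.range (PresentedGroup.of (rels := rels)) =
      {PresentedGroup.mk rels gu, PresentedGroup.mk rels gh, PresentedGroup.mk rels gt} := by
    ext g
    constructor
    · rintro ⟨i, rfl⟩
      fin_cases i
      · left; rfl
      · right; left; rfl
      · right; right; rfl
    · rintro (rfl | rfl | rfl)
      · exact ⟨0, rfl⟩
      · exact ⟨1, rfl⟩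
      · exact ⟨2, rfl⟩
  rw [← e]; exact h

/-- frobenius of a difference -/
theorem ts_sub_pow_q (hF : Fintype.card F = q ^ 2) (a b : F) : (a - b) ^ q = a ^ q - b ^ q := by
  have := add_pow_q hF (a - b) b
  rw [sub_add_cancel] at this
  rw [this]; ring

/-- the seed parameters satisfy the unitary condition -/
theorem ts_seed_cond (hF : Fintype.card F = q ^ 2) (a bs : F) (hbs : bs + bs ^ q = -1) :
    u3_cond q a (a * a ^ q * bs) := by
  unfold u3_cond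
  rw [mul_pow, mul_pow, pow_q_pow_q hF]
  linear_combination (a * a ^ q) * hbs

/-- **the G-side**: any group with three elements satisfying all relations is small -/
theorem ts_gside {p : ℕ} [Fact p.Prime] [Algebra (ZMod p) F]
    (hF : Fintype.card F = q ^ 2) (hq : 4 ≤ q) (ζ : Fˣ)
    (hζ : ∀ x : Fˣ, x ∈ Subgroup.zpowers ζ) (b0 : F) (hb0 : b0 + b0 ^ q = -1)
    (D : BData p) (hm1 : D.m1 = minpoly (ZMod p) (fld_g1 q ζ))
    (hm2 : D.m2 = minpoly (ZMod p) (fld_g2 q ζ))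
    (hD : BRel D q (U q 1 b0) (u3_h q ζ))
    (c0 : F) (hc0 : c0 ≠ 0) (hc0' : c0 + c0 ^ q = 0)
    (bs : F) (hbs : bs + bs ^ q = -1)
    (hω : ∀ ω : F, ω ^ (q + 1) = 1 → ∃ n : ℕ, ω = (-(bs / bs ^ q)) ^ n)
    (S0 S1 S2 S3 : SData p)
    (hS0 : SGood q ζ b0 S0 0 c0)
    (hS1 : SGood q ζ b0 S1 ((ζ : F) ^ 0) ((ζ : F) ^ 0 * ((ζ : F) ^ 0) ^ q * bs))
    (hS2 : SGood q ζ b0 S2 ((ζ : F) ^ 1) ((ζ : F) ^ 1 * ((ζ : F) ^ 1) ^ q * bs))
    (hS3 : SGood q ζ b0 S3 ((ζ : F) ^ 2) ((ζ : F) ^ 2 * ((ζ : F) ^ 2) ^ q * bs))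
    {G : Type*} [Group G] (u h t : G)
    (hgen : Subgroup.closure ({u, h, t} : Set G) = ⊤)
    (hB : BRel D q u h) (hR : RRel [S0, S1, S2, S3] q u h t) :
    Finite G ∧ Nat.card G ≤ q ^ 3 * (q ^ 2 - 1) * (1 + q ^ 3) := by
  have hord : h ^ (q ^ 2 - 1) = 1 := hpow_of_n (by omega) hR.n1 hR.n2
  obtain ⟨ρ0, hρu, hρh⟩ := exists_rho hF hq ζ hζ b0 hb0 D hm1 hm2 hD u h hB hord
  let ρ : ↥(u3_model hF).B →* G := ρ0
  have hc : R1Compat (u3_model hF) ρ t := compat_of_n hF ζ hζ ρ h t hρh hR.n1 hR.n2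
  have hgen' : Subgroup.closure (Set.range ρ ∪ {t}) = ⊤ := by
    rw [eq_top_iff, ← hgen, Subgroup.closure_le]
    rintro x (rfl | rfl | rfl)
    · apply Subgroup.subset_closure
      left
      exact ⟨⟨U q 1 b0, u3_UM_le_BM hF ⟨1, b0, ts_cond_u hF b0 hb0, rfl⟩⟩, hρu _⟩
    · apply Subgroup.subset_closure
      left
      exact ⟨⟨u3_h q ζ, u3_HM_le_BM hF ((u3_mem_HM _).2 ⟨ζ, rfl⟩)⟩, hρh _⟩
    · apply Subgroup.subset_closure
      right
      rfl
  have hK : ∀ (S : SData p) (a b : F), S ∈ [S0, S1, S2, S3] → SGood q ζ b0 S a b →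
      gs_K hF ρ t a b := fun S a b hS hg =>
    sgood_gsK hF ζ b0 hb0 S a b hg ρ u h t hρu hρh (hR.seeds S hS)
  refine gs_main hF ρ t hc hgen' ζ hζ c0 hc0 hc0' (hK S0 _ _ (by simp) hS0) bs hbs hω ?_
  intro i hi
  interval_cases i
  · exact hK S1 _ _ (by simp) hS1
  · exact hK S2 _ _ (by simp) hS2
  · exact hK S3 _ _ (by simp) hS3

/-- explicit isomorphism from a surjection and a cardinality bound -/
theorem ts_iso_of_surj {ι : Type*} {T : Type*} [Group T] (L : List (FreeGroup ι))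
    (φ0 : FreeGroup ι →* T) (hsurj : Function.Surjective φ0) (hrel : ∀ r ∈ L, φ0 r = 1)
    (hfin : Finite (PresentedGroup {r | r ∈ L}))
    (hcard : Nat.card (PresentedGroup {r | r ∈ L}) ≤ Nat.card T) :
    ∃ e : PresentedGroup {r | r ∈ L} ≃* T, ∀ w, e (PresentedGroup.mk _ w) = φ0 w := by
  have hlift : FreeGroup.lift (fun i => φ0 (FreeGroup.of i)) = φ0 := by
    ext i; simp
  have hr : ∀ r ∈ {r | r ∈ L}, FreeGroup.lift (fun i => φ0 (FreeGroup.of i)) r = 1 := by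
    intro r hr
    rw [hlift]
    exact hrel r hr
  have hval : ∀ w, PresentedGroup.toGroup hr (PresentedGroup.mk _ w) = φ0 w := by
    intro w
    have : PresentedGroup.toGroup hr (PresentedGroup.mk _ w) =
        FreeGroup.lift (fun i => φ0 (FreeGroup.of i)) w := rfl
    rw [this, hlift]
  have hs : Function.Surjective (PresentedGroup.toGroup hr) := by
    intro y
    obtain ⟨w, rfl⟩ := hsurj y
    exact ⟨PresentedGroup.mk _ w, hval w⟩
  have hb := hs.bijective_of_nat_card_le hcard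
  exact ⟨MulEquiv.ofBijective (PresentedGroup.toGroup hr) hb, hval⟩

/-- **the presentation of `SUJ F q`** -/
theorem pres_SUJ (hF : Fintype.card F = q ^ 2) (hq : 4 ≤ q) :
    ∃ (ζ : Fˣ) (_ : ∀ x : Fˣ, x ∈ Subgroup.zpowers ζ) (l : List (FreeGroup (Fin 3)))
      (_ : l.length ≤ 19)
      (e : PresentedGroup {r | r ∈ l} ≃* ↥(SUJ F q)),
      ((e (PresentedGroup.of 1) : ↥(SUJ F q)) : SpecialLinearGroup (Fin 3) F) = u3_h q ζ := by
  obtain ⟨p, hp⟩ := CharP.exists F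
  haveI : Fact p.Prime := ⟨CharP.char_is_prime F p⟩
  letI : Algebra (ZMod p) F := ZMod.algebra F p
  obtain ⟨ζ, hζ⟩ : ∃ ζ : Fˣ, ∀ x : Fˣ, x ∈ Subgroup.zpowers ζ := by
    obtain ⟨g, hg⟩ := IsCyclic.exists_generator (α := Fˣ)
    exact ⟨g, hg⟩
  obtain ⟨bs, hbs, hω⟩ := exists_bs (F := F) q (by omega) hF
  -- b0 := bs
  obtain ⟨D, hm1, hm2, hD⟩ := model_brel (p := p) hF hq ζ hζ bs hbs
  -- the central seed
  set c0 : F := fld_g1 q ζ - fld_g1 q ζ ^ q with hc0def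
  have hc0 : c0 ≠ 0 := by
    intro h0
    exact fld_g1_not_fixed hF (by omega) ζ hζ (sub_eq_zero.1 h0).symm
  have hc0' : c0 + c0 ^ q = 0 := by
    rw [hc0def, ts_sub_pow_q hF, pow_q_pow_q hF]; ring
  have hcond0 : u3_cond q (0 : F) c0 := by
    unfold u3_cond
    rw [zero_mul, add_zero]; exact hc0'
  have hbs0 : bs ≠ 0 := by
    rintro rfl
    rw [zero_pow (by omega), add_zero] at hbs
    exact zero_ne_one (neg_eq_zero.1 hbs.symm).symm
  have hseedne : ∀ a : F, a ≠ 0 → a * a ^ q * bs ≠ 0 := fun a ha =>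
    mul_ne_zero (mul_ne_zero ha (pow_ne_zero _ ha)) hbs0
  have hz : ∀ i : ℕ, (ζ : F) ^ i ≠ 0 := fun i => pow_ne_zero _ ζ.ne_zero
  obtain ⟨S0, hS0⟩ := h8_exists_sdata (p := p) hF (by omega) ζ hζ bs hbs 0 c0 hc0 hcond0
  obtain ⟨S1, hS1⟩ := h8_exists_sdata (p := p) hF (by omega) ζ hζ bs hbs _ _
    (hseedne _ (hz 0)) (ts_seed_cond hF ((ζ : F) ^ 0) bs hbs)
  obtain ⟨S2, hS2⟩ := h8_exists_sdata (p := p) hF (by omega) ζ hζ bs hbs _ _
    (hseedne _ (hz 1)) (ts_seed_cond hF ((ζ : F) ^ 1) bs hbs)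
  obtain ⟨S3, hS3⟩ := h8_exists_sdata (p := p) hF (by omega) ζ hζ bs hbs _ _
    (hseedne _ (hz 2)) (ts_seed_cond hF ((ζ : F) ^ 2) bs hbs)
  set Ss : List (SData p) := [S0, S1, S2, S3] with hSs
  have hSsgood : ∀ S ∈ Ss, ∃ a b : F, SGood q ζ bs S a b := by
    intro S hS
    simp only [hSs, List.mem_cons, List.not_mem_nil, or_false] at hS
    rcases hS with rfl | rfl | rfl | rfl
    · exact ⟨_, _, hS0⟩
    · exact ⟨_, _, hS1⟩
    · exact ⟨_, _, hS2⟩
    · exact ⟨_, _, hS3⟩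
  set l := allwords D Ss q gu gh gt with hl
  have hlen : l.length ≤ 19 := by
    have := allwords_length_le D Ss q gu gh gt
    simpa [hSs] using this
  -- the model side
  have hrelJ : ∀ r ∈ l, lift3J hF ζ bs hbs r = 1 := by
    intro r hr
    apply Subtype.ext
    rw [lift3J_coe]
    exact ts_lift3_allwords hF ζ bs D hD Ss hSsgood r hr
  have hsurj := ts_lift3J_surj (p := p) hF (by omega) ζ hζ bs hbs
  -- the G-side
  have hG : Finite (PresentedGroup {r | r ∈ l}) ∧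
      Nat.card (PresentedGroup {r | r ∈ l}) ≤ q ^ 3 * (q ^ 2 - 1) * (1 + q ^ 3) := by
    set ψ : FreeGroup (Fin 3) →* PresentedGroup {r | r ∈ l} := PresentedGroup.mk _ with hψ
    have hone : ∀ r ∈ allwords D Ss q (ψ gu) (ψ gh) (ψ gt), r = 1 := by
      intro r hr
      rw [← map_allwords, List.mem_map] at hr
      obtain ⟨r0, hr0, rfl⟩ := hr
      exact PresentedGroup.one_of_mem hr0
    obtain ⟨hB, hR⟩ := (allrel_iff D Ss q (ψ gu) (ψ gh) (ψ gt)).2 hone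
    exact ts_gside hF hq ζ hζ bs hbs D hm1 hm2 hD c0 hc0 hc0' bs hbs hω S0 S1 S2 S3
      hS0 hS1 hS2 hS3 (ψ gu) (ψ gh) (ψ gt) (ts_closure_gens3 _) hB hR
  obtain ⟨e, he⟩ := ts_iso_of_surj l (lift3J hF ζ bs hbs) hsurj hrelJ hG.1
    (hG.2.trans (suj_card_ge hF))
  refine ⟨ζ, hζ, l, hlen, e, ?_⟩
  have : (PresentedGroup.of (1 : Fin 3) : PresentedGroup {r | r ∈ l}) =
      PresentedGroup.mk _ gh := rfl
  rw [this, he, lift3J_coe, lift3_h]

end tside

end Cfsg.Agent.SU3Pres
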